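import Cfsg.Agent.Lib.Helper27.Fi22.A1.Data

set_option autoImplicit false
set_option maxRecDepth 100000
set_option linter.all false

namespace Cfsg.Agent.Helper27.Fi22TC.A1

open Cfsg.Agent.Helper28 Cfsg.Agent.Helper27.Fi22TC
open Cfsg.Spor.Fi22 (Gen)

noncomputable section

def RV37 : Word Gen := [(Gen.i, true), (Gen.h, true), (Gen.d, true), (Gen.f, true), (Gen.e, true), (Gen.d, true), (Gen.b, true), (Gen.c, true), (Gen.d, true), (Gen.i, true), (Gen.h, true), (Gen.d, true), (Gen.f, true), (Gen.e, true), (Gen.d, true), (Gen.b, true), (Gen.c, true), (Gen.d, true), (Gen.i, true), (Gen.h, true), (Gen.d, true), (Gen.f, true), (Gen.e, true), (Gen.d, true), (Gen.b, true), (Gen.c, true), (Gen.d, true), (Gen.i, true), (Gen.h, true), (Gen.d, true), (Gen.f, true), (Gen.e, true), (Gen.d, true), (Gen.b, true), (Gen.c, true), (Gen.d, true), (Gen.i, true), (Gen.h, true), (Gen.d, true), (Gen.f, true), (Gen.e, true), (Gen.d, true), (Gen.b, true), (Gen.c, true), (Gen.d, true), (Gen.i, true), (Gen.h, true), (Gen.d, true),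 (Gen.f, true), (Gen.e, true), (Gen.d, true), (Gen.b, true), (Gen.c, true), (Gen.d, true), (Gen.i, true), (Gen.h, true), (Gen.d, true), (Gen.f, true), (Gen.e, true), (Gen.d, true), (Gen.b, true), (Gen.c, true), (Gen.d, true), (Gen.i, true), (Gen.h, true), (Gen.d, true), (Gen.f, true), (Gen.e, true), (Gen.d, true), (Gen.b, true), (Gen.c, true), (Gen.d, true), (Gen.i, true), (Gen.h, true), (Gen.d, true), (Gen.f, true), (Gen.e, true), (Gen.d, true), (Gen.b, true), (Gen.c, true), (Gen.d, true), (Gen.i, true), (Gen.h, true), (Gen.d, true), (Gen.f, true), (Gen.e, true), (Gen.d, true), (Gen.b, true), (Gen.c, true), (Gen.d, true)]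
theorem relrev_37 : wG D.rels RV37 = 1 :=
  wG_of_rotate D.rels ((List.map (fun x => (x, true)) [Gen.d, Gen.c, Gen.b, Gen.d, Gen.e, Gen.f, Gen.d, Gen.h, Gen.i, Gen.d, Gen.c, Gen.b, Gen.d, Gen.e, Gen.f, Gen.d, Gen.h, Gen.i, Gen.d, Gen.c, Gen.b, Gen.d, Gen.e, Gen.f, Gen.d, Gen.h, Gen.i, Gen.d, Gen.c, Gen.b, Gen.d, Gen.e, Gen.f, Gen.d, Gen.h, Gen.i, Gen.d, Gen.c, Gen.b, Gen.d, Gen.e, Gen.f, Gen.d, Gen.h, Gen.i, Gen.d, Gen.c, Gen.b, Gen.d, Gen.e, Gen.f, Gen.d, Gen.h, Gen.i, Gen.d, Gen.c, Gen.b, Gen.d, Gen.e, Gen.f, Gen.d, Gen.h, Gen.i, Gen.d, Gen.c, Gen.b, Gen.d, Gen.e, Gen.f, Gen.d, Gen.h, Gen.i, Gen.d, Gen.c, Gen.b, Gen.d, Gen.e, Gen.f, Gen.d, Gen.h, Gen.i, Gen.d, Gen.c, Gen.b, Gen.d, Gen.e, Gen.f, Gen.d, Gen.h, Gen.i]).reverse) RV37 0 (by decide +kernel)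
    (wG_reverse_one D.rels hinv [Gen.d, Gen.c, Gen.b, Gen.d, Gen.e, Gen.f, Gen.d, Gen.h, Gen.i, Gen.d, Gen.c, Gen.b, Gen.d, Gen.e, Gen.f, Gen.d, Gen.h, Gen.i, Gen.d, Gen.c, Gen.b, Gen.d, Gen.e, Gen.f, Gen.d, Gen.h, Gen.i, Gen.d, Gen.c, Gen.b, Gen.d, Gen.e, Gen.f, Gen.d, Gen.h, Gen.i, Gen.d, Gen.c, Gen.b, Gen.d, Gen.e, Gen.f, Gen.d, Gen.h, Gen.i, Gen.d, Gen.c, Gen.b, Gen.d, Gen.e, Gen.f, Gen.d, Gen.h, Gen.i, Gen.d, Gen.c, Gen.b, Gen.d, Gen.e, Gen.f, Gen.d, Gen.h, Gen.i, Gen.d, Gen.c, Gen.b, Gen.d, Gen.e, Gen.f, Gen.d, Gen.h, Gen.i, Gen.d, Gen.c, Gen.b, Gen.d, Gen.e, Gen.f, Gen.d, Gen.h, Gen.i, Gen.d, Gen.c, Gen.b, Gen.d, Gen.e, Gen.f, Gen.d, Gen.h, Gen.i] (show wG D.rels (List.map (fun x => (x, true)) [Gen.d, Gen.c, Gen.b, Gen.d, Gen.e, Gen.f, Gen.d, Gen.h, Gen.i, Gen.d, Gen.c, Gen.b, Gen.d, Gen.e, Gen.f, Gen.d, Gen.h, Gen.i, Gen.d, Gen.c, Gen.b, Gen.d, Gen.e, Gen.f, Gen.d, Gen.h, Gen.i, Gen.d, Gen.c, Gen.b, Gen.d, Gen.e, Gen.f, Gen.d, Gen.h, Gen.i, Gen.d, Gen.c, Gen.b, Gen.d, Gen.e, Gen.f, Gen.d, Gen.h,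 Gen.i, Gen.d, Gen.c, Gen.b, Gen.d, Gen.e, Gen.f, Gen.d, Gen.h, Gen.i, Gen.d, Gen.c, Gen.b, Gen.d, Gen.e, Gen.f, Gen.d, Gen.h, Gen.i, Gen.d, Gen.c, Gen.b, Gen.d, Gen.e, Gen.f, Gen.d, Gen.h, Gen.i, Gen.d, Gen.c, Gen.b, Gen.d, Gen.e, Gen.f, Gen.d, Gen.h, Gen.i, Gen.d, Gen.c, Gen.b, Gen.d, Gen.e, Gen.f, Gen.d, Gen.h, Gen.i]) = 1 from relone_37))
def RV38 : Word Gen := [(Gen.h, true), (Gen.g, true), (Gen.f, true), (Gen.e, true), (Gen.d, true), (Gen.c, true), (Gen.b, true), (Gen.h, true), (Gen.g, true), (Gen.f, true), (Gen.e, true), (Gen.d, true), (Gen.c, true), (Gen.b, true), (Gen.h, true), (Gen.g, true), (Gen.f, true), (Gen.e, true), (Gen.d, true), (Gen.c, true), (Gen.b, true), (Gen.h, true), (Gen.g, true), (Gen.f, true), (Gen.e, true), (Gen.d, true), (Gen.c, true), (Gen.b, true), (Gen.h, true), (Gen.g, true), (Gen.f, true), (Gen.e, true), (Gen.d, true), (Gen.c, true), (Gen.b, true), (Gen.h, true), (Gen.g, true), (Gen.f, true), (Gen.e, true), (Gen.d, true), (Gen.c, true), (Gen.b, true), (Gen.h, true), (Gen.g,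 true), (Gen.f, true), (Gen.e, true), (Gen.d, true), (Gen.c, true), (Gen.b, true), (Gen.h, true), (Gen.g, true), (Gen.f, true), (Gen.e, true), (Gen.d, true), (Gen.c, true), (Gen.b, true), (Gen.h, true), (Gen.g, true), (Gen.f, true), (Gen.e, true), (Gen.d, true), (Gen.c, true), (Gen.b, true)]
theorem relrev_38 : wG D.rels RV38 = 1 :=
  wG_of_rotate D.rels ((List.map (fun x => (x, true)) [Gen.b, Gen.c, Gen.d, Gen.e, Gen.f, Gen.g, Gen.h, Gen.b, Gen.c, Gen.d, Gen.e, Gen.f, Gen.g, Gen.h, Gen.b, Gen.c, Gen.d, Gen.e, Gen.f, Gen.g, Gen.h, Gen.b, Gen.c, Gen.d, Gen.e, Gen.f, Gen.g, Gen.h, Gen.b, Gen.c, Gen.d, Gen.e, Gen.f, Gen.g, Gen.h, Gen.b, Gen.c, Gen.d, Gen.e, Gen.f, Gen.g, Gen.h, Gen.b, Gen.c, Gen.d, Gen.e, Gen.f, Gen.g, Gen.h, Gen.b, Gen.c, Gen.d, Gen.e, Gen.f, Gen.g, Gen.h, Gen.b, Gen.c, Gen.d, Gen.e, Gen.f, Gen.g, Gen.h]).reverse) RV38 0 (by decide +kernel)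
    (wG_reverse_one D.rels hinv [Gen.b, Gen.c, Gen.d, Gen.e, Gen.f, Gen.g, Gen.h, Gen.b, Gen.c, Gen.d, Gen.e, Gen.f, Gen.g, Gen.h, Gen.b, Gen.c, Gen.d, Gen.e, Gen.f, Gen.g, Gen.h, Gen.b, Gen.c, Gen.d, Gen.e, Gen.f, Gen.g, Gen.h, Gen.b, Gen.c, Gen.d, Gen.e, Gen.f, Gen.g, Gen.h, Gen.b, Gen.c, Gen.d, Gen.e, Gen.f, Gen.g, Gen.h, Gen.b, Gen.c, Gen.d, Gen.e, Gen.f, Gen.g, Gen.h, Gen.b, Gen.c, Gen.d, Gen.e, Gen.f, Gen.g, Gen.h, Gen.b, Gen.c, Gen.d, Gen.e, Gen.f, Gen.g, Gen.h] (show wG D.rels (List.map (fun x => (x, true)) [Gen.b, Gen.c, Gen.d, Gen.e, Gen.f, Gen.g, Gen.h, Gen.b, Gen.c, Gen.d, Gen.e, Gen.f, Gen.g, Gen.h, Gen.b, Gen.c, Gen.d, Gen.e, Gen.f, Gen.g, Gen.h, Gen.b, Gen.c, Gen.d, Gen.e, Gen.f, Gen.g, Gen.h, Gen.b, Gen.c, Gen.d, Gen.e, Gen.f, Gen.g, Gen.h, Gen.b, Gen.c, Gen.d, Gen.e, Gen.f, Gen.g, Gen.h, Gen.b, Gen.c, Gen.d, Gen.e, Gen.f, Gen.g, Gen.h, Gen.b, Gen.c, Gen.d, Gen.e, Gen.f, Gen.g, Gen.h, Gen.b, Gen.c, Gen.d, Gen.e, Gen.f, Gen.g, Gen.h]) = 1 from relone_38))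
theorem RW_0 : wG D.rels [(Gen.f, true), (Gen.c, true), (Gen.f, true), (Gen.c, true)] = 1 :=
  wG_of_rotate D.rels R18 [(Gen.f, true), (Gen.c, true), (Gen.f, true), (Gen.c, true)] 1 (by decide +kernel) relone_18
theorem RW_1 : wG D.rels [(Gen.g, true), (Gen.c, true), (Gen.g, true), (Gen.c, true)] = 1 :=
  wG_of_rotate D.rels R19 [(Gen.g, true), (Gen.c, true), (Gen.g, true), (Gen.c, true)] 1 (by decide +kernel) relone_19
theorem RW_2 : wG D.rels [(Gen.h, true), (Gen.c, true), (Gen.h, true), (Gen.c, true)] = 1 :=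
  wG_of_rotate D.rels R20 [(Gen.h, true), (Gen.c, true), (Gen.h, true), (Gen.c, true)] 1 (by decide +kernel) relone_20
theorem RW_3 : wG D.rels [(Gen.i, true), (Gen.c, true), (Gen.i, true), (Gen.c, true)] = 1 :=
  wG_of_rotate D.rels R21 [(Gen.i, true), (Gen.c, true), (Gen.i, true), (Gen.c, true)] 1 (by decide +kernel) relone_21
theorem RW_4 : wG D.rels [(Gen.d, true), (Gen.g, true), (Gen.d, true), (Gen.g, true)] = 1 :=
  wG_of_rotate D.rels R24 [(Gen.d, true), (Gen.g, true), (Gen.d, true), (Gen.g, true)] 0 (by decide +kernel) relone_24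
theorem RW_5 : wG D.rels [(Gen.f, true), (Gen.b, true), (Gen.f, true), (Gen.b, true)] = 1 :=
  wG_of_rotate D.rels R12 [(Gen.f, true), (Gen.b, true), (Gen.f, true), (Gen.b, true)] 1 (by decide +kernel) relone_12
theorem RW_6 : wG D.rels [(Gen.g, true), (Gen.b, true), (Gen.g, true), (Gen.b, true)] = 1 :=
  wG_of_rotate D.rels R13 [(Gen.g, true), (Gen.b, true), (Gen.g, true), (Gen.b, true)] 1 (by decide +kernel) relone_13
theorem RW_7 : wG D.rels [(Gen.h, true), (Gen.b, true), (Gen.h, true), (Gen.b, true)] = 1 :=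
  wG_of_rotate D.rels R14 [(Gen.h, true), (Gen.b, true), (Gen.h, true), (Gen.b, true)] 1 (by decide +kernel) relone_14
theorem RW_8 : wG D.rels [(Gen.i, true), (Gen.b, true), (Gen.i, true), (Gen.b, true)] = 1 :=
  wG_of_rotate D.rels R15 [(Gen.i, true), (Gen.b, true), (Gen.i, true), (Gen.b, true)] 1 (by decide +kernel) relone_15
theorem RW_9 : wG D.rels [(Gen.d, true), (Gen.b, true), (Gen.d, true), (Gen.b, true)] = 1 :=
  wG_of_rotate D.rels R10 [(Gen.d, true), (Gen.b, true), (Gen.d, true), (Gen.b, true)] 1 (by decide +kernel) relone_10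
theorem RW_10 : wG D.rels [(Gen.h, true), (Gen.e, true), (Gen.h, true), (Gen.e, true)] = 1 :=
  wG_of_rotate D.rels R29 [(Gen.h, true), (Gen.e, true), (Gen.h, true), (Gen.e, true)] 1 (by decide +kernel) relone_29
theorem RW_11 : wG D.rels [(Gen.i, true), (Gen.e, true), (Gen.i, true), (Gen.e, true)] = 1 :=
  wG_of_rotate D.rels R30 [(Gen.i, true), (Gen.e, true), (Gen.i, true), (Gen.e, true)] 1 (by decide +kernel) relone_30
theorem RW_12 : wG D.rels [(Gen.e, true), (Gen.b, true), (Gen.e, true), (Gen.b, true)] = 1 :=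
  wG_of_rotate D.rels R11 [(Gen.e, true), (Gen.b, true), (Gen.e, true), (Gen.b, true)] 1 (by decide +kernel) relone_11
theorem RW_13 : wG D.rels [(Gen.c, true), (Gen.e, true), (Gen.c, true), (Gen.e, true)] = 1 :=
  wG_of_rotate D.rels R17 [(Gen.c, true), (Gen.e, true), (Gen.c, true), (Gen.e, true)] 0 (by decide +kernel) relone_17
theorem RW_14 : wG D.rels [(Gen.g, true), (Gen.e, true), (Gen.g, true), (Gen.e, true)] = 1 :=
  wG_of_rotate D.rels R28 [(Gen.g, true), (Gen.e, true), (Gen.g, true), (Gen.e, true)] 1 (by decide +kernel) relone_28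
theorem RW_15 : wG D.rels [(Gen.d, true), (Gen.e, true), (Gen.d, true), (Gen.e, true), (Gen.d, true), (Gen.e, true)] = 1 :=
  wG_of_rotate D.rels R22 [(Gen.d, true), (Gen.e, true), (Gen.d, true), (Gen.e, true), (Gen.d, true), (Gen.e, true)] 0 (by decide +kernel) relone_22
theorem RW_16 : wG D.rels [(Gen.c, true), (Gen.g, true), (Gen.c, true), (Gen.g, true)] = 1 :=
  wG_of_rotate D.rels R19 [(Gen.c, true), (Gen.g, true), (Gen.c, true), (Gen.g, true)] 0 (by decide +kernel) relone_19
theorem RW_17 : wG D.rels [(Gen.e, true), (Gen.g, true), (Gen.e, true), (Gen.g, true)] = 1 :=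
  wG_of_rotate D.rels R28 [(Gen.e, true), (Gen.g, true), (Gen.e, true), (Gen.g, true)] 0 (by decide +kernel) relone_28
theorem RW_18 : wG D.rels [(Gen.h, true), (Gen.g, true), (Gen.h, true), (Gen.g, true)] = 1 :=
  wG_of_rotate D.rels R34 [(Gen.h, true), (Gen.g, true), (Gen.h, true), (Gen.g, true)] 1 (by decide +kernel) relone_34
theorem RW_19 : wG D.rels [(Gen.b, true), (Gen.c, true), (Gen.b, true), (Gen.c, true), (Gen.b, true), (Gen.c, true)] = 1 :=
  wG_of_rotate D.rels R9 [(Gen.b, true), (Gen.c, true), (Gen.b, true), (Gen.c, true), (Gen.b, true), (Gen.c, true)] 0 (by decide +kernel) relone_9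
theorem RW_20 : wG D.rels [(Gen.c, true), (Gen.d, true), (Gen.c, true), (Gen.d, true), (Gen.c, true), (Gen.d, true)] = 1 :=
  wG_of_rotate D.rels R16 [(Gen.c, true), (Gen.d, true), (Gen.c, true), (Gen.d, true), (Gen.c, true), (Gen.d, true)] 0 (by decide +kernel) relone_16
theorem RW_21 : wG D.rels [(Gen.e, true), (Gen.d, true), (Gen.e, true), (Gen.d, true), (Gen.e, true), (Gen.d, true)] = 1 :=
  wG_of_rotate D.rels R22 [(Gen.e, true), (Gen.d, true), (Gen.e, true), (Gen.d, true), (Gen.e, true), (Gen.d, true)] 1 (by decide +kernel) relone_22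
theorem RW_22 : wG D.rels [(Gen.h, true), (Gen.f, true), (Gen.h, true), (Gen.f, true)] = 1 :=
  wG_of_rotate D.rels R32 [(Gen.h, true), (Gen.f, true), (Gen.h, true), (Gen.f, true)] 1 (by decide +kernel) relone_32
theorem RW_23 : wG D.rels [(Gen.i, true), (Gen.f, true), (Gen.i, true), (Gen.f, true)] = 1 :=
  wG_of_rotate D.rels R33 [(Gen.i, true), (Gen.f, true), (Gen.i, true), (Gen.f, true)] 1 (by decide +kernel) relone_33
theorem RW_24 : wG D.rels [(Gen.e, true), (Gen.f, true), (Gen.e, true), (Gen.f, true), (Gen.e, true), (Gen.f, true)] = 1 :=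
  wG_of_rotate D.rels R27 [(Gen.e, true), (Gen.f, true), (Gen.e, true), (Gen.f, true), (Gen.e, true), (Gen.f, true)] 0 (by decide +kernel) relone_27
theorem RW_25 : wG D.rels [(Gen.g, true), (Gen.f, true), (Gen.g, true), (Gen.f, true), (Gen.g, true), (Gen.f, true)] = 1 :=
  wG_of_rotate D.rels R31 [(Gen.g, true), (Gen.f, true), (Gen.g, true), (Gen.f, true), (Gen.g, true), (Gen.f, true)] 1 (by decide +kernel) relone_31
theorem RW_26 : wG D.rels [(Gen.b, true), (Gen.d, true), (Gen.b, true), (Gen.d, true)] = 1 :=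
  wG_of_rotate D.rels R10 [(Gen.b, true), (Gen.d, true), (Gen.b, true), (Gen.d, true)] 0 (by decide +kernel) relone_10
theorem RW_27 : wG D.rels [(Gen.f, true), (Gen.d, true), (Gen.f, true), (Gen.d, true)] = 1 :=
  wG_of_rotate D.rels R23 [(Gen.f, true), (Gen.d, true), (Gen.f, true), (Gen.d, true)] 1 (by decide +kernel) relone_23
theorem RW_28 : wG D.rels [(Gen.g, true), (Gen.d, true), (Gen.g, true), (Gen.d, true)] = 1 :=
  wG_of_rotate D.rels R24 [(Gen.g, true), (Gen.d, true), (Gen.g, true), (Gen.d, true)] 1 (by decide +kernel) relone_24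
theorem RW_29 : wG D.rels [(Gen.i, true), (Gen.d, true), (Gen.i, true), (Gen.d, true)] = 1 :=
  wG_of_rotate D.rels R26 [(Gen.i, true), (Gen.d, true), (Gen.i, true), (Gen.d, true)] 1 (by decide +kernel) relone_26
theorem RW_30 : wG D.rels [(Gen.b, true), (Gen.e, true), (Gen.b, true), (Gen.e, true)] = 1 :=
  wG_of_rotate D.rels R11 [(Gen.b, true), (Gen.e, true), (Gen.b, true), (Gen.e, true)] 0 (by decide +kernel) relone_11
theorem RW_31 : wG D.rels [(Gen.b, true), (Gen.f, true), (Gen.b, true), (Gen.f, true)] = 1 :=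
  wG_of_rotate D.rels R12 [(Gen.b, true), (Gen.f, true), (Gen.b, true), (Gen.f, true)] 0 (by decide +kernel) relone_12
theorem RW_32 : wG D.rels [(Gen.b, true), (Gen.g, true), (Gen.b, true), (Gen.g, true)] = 1 :=
  wG_of_rotate D.rels R13 [(Gen.b, true), (Gen.g, true), (Gen.b, true), (Gen.g, true)] 0 (by decide +kernel) relone_13
theorem RW_33 : wG D.rels [(Gen.f, true), (Gen.g, true), (Gen.f, true), (Gen.g, true), (Gen.f, true), (Gen.g, true)] = 1 :=
  wG_of_rotate D.rels R31 [(Gen.f, true), (Gen.g, true), (Gen.f, true), (Gen.g, true), (Gen.f, true), (Gen.g, true)] 0 (by decide +kernel) relone_31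
theorem RW_34 : wG D.rels [(Gen.b, true), (Gen.h, true), (Gen.b, true), (Gen.h, true)] = 1 :=
  wG_of_rotate D.rels R14 [(Gen.b, true), (Gen.h, true), (Gen.b, true), (Gen.h, true)] 0 (by decide +kernel) relone_14
theorem RW_35 : wG D.rels [(Gen.f, true), (Gen.h, true), (Gen.f, true), (Gen.h, true)] = 1 :=
  wG_of_rotate D.rels R32 [(Gen.f, true), (Gen.h, true), (Gen.f, true), (Gen.h, true)] 0 (by decide +kernel) relone_32
theorem RW_36 : wG D.rels [(Gen.b, true), (Gen.c, true), (Gen.d, true), (Gen.e, true), (Gen.f, true), (Gen.g, true), (Gen.h, true), (Gen.b, true), (Gen.c, true), (Gen.d, true), (Gen.e, true), (Gen.f, true), (Gen.g, true), (Gen.h, true), (Gen.b, true), (Gen.c, true), (Gen.d, true), (Gen.e, true), (Gen.f, true), (Gen.g, true), (Gen.h, true), (Gen.b, true), (Gen.c, true), (Gen.d, true), (Gen.e, true), (Gen.f, true), (Gen.g, true), (Gen.h, true), (Gen.b, true), (Gen.c, true), (Gen.d, true), (Gen.e, true), (Gen.f, true), (Gen.g, true), (Gen.h, true), (Gen.b, true), (Gen.c, true), (Gen.d, true),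 (Gen.e, true), (Gen.f, true), (Gen.g, true), (Gen.h, true), (Gen.b, true), (Gen.c, true), (Gen.d, true), (Gen.e, true), (Gen.f, true), (Gen.g, true), (Gen.h, true), (Gen.b, true), (Gen.c, true), (Gen.d, true), (Gen.e, true), (Gen.f, true), (Gen.g, true), (Gen.h, true), (Gen.b, true), (Gen.c, true), (Gen.d, true), (Gen.e, true), (Gen.f, true), (Gen.g, true), (Gen.h, true)] = 1 :=
  wG_of_rotate D.rels R38 [(Gen.b, true), (Gen.c, true), (Gen.d, true), (Gen.e, true), (Gen.f, true), (Gen.g, true), (Gen.h, true), (Gen.b, true), (Gen.c, true), (Gen.d, true), (Gen.e, true), (Gen.f, true), (Gen.g, true), (Gen.h, true), (Gen.b, true), (Gen.c, true), (Gen.d, true), (Gen.e, true), (Gen.f, true), (Gen.g, true), (Gen.h, true), (Gen.b, true), (Gen.c, true), (Gen.d, true), (Gen.e, true), (Gen.f, true), (Gen.g, true), (Gen.h, true), (Gen.b, true), (Gen.c, true), (Gen.d, true), (Gen.e, true), (Gen.f, true), (Gen.g, true), (Gen.h, true), (Gen.b, true), (Gen.c, true), (Gen.d, true), (Gen.e, true), (Gen.f, true), (Gen.g, true),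 (Gen.h, true), (Gen.b, true), (Gen.c, true), (Gen.d, true), (Gen.e, true), (Gen.f, true), (Gen.g, true), (Gen.h, true), (Gen.b, true), (Gen.c, true), (Gen.d, true), (Gen.e, true), (Gen.f, true), (Gen.g, true), (Gen.h, true), (Gen.b, true), (Gen.c, true), (Gen.d, true), (Gen.e, true), (Gen.f, true), (Gen.g, true), (Gen.h, true)] 0 (by decide +kernel) relone_38
theorem RW_37 : wG D.rels [(Gen.i, true), (Gen.g, true), (Gen.i, true), (Gen.g, true)] = 1 :=
  wG_of_rotate D.rels R35 [(Gen.i, true), (Gen.g, true), (Gen.i, true), (Gen.g, true)] 1 (by decide +kernel) relone_35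
theorem RW_38 : wG D.rels [(Gen.f, true), (Gen.e, true), (Gen.f, true), (Gen.e, true), (Gen.f, true), (Gen.e, true)] = 1 :=
  wG_of_rotate D.rels R27 [(Gen.f, true), (Gen.e, true), (Gen.f, true), (Gen.e, true), (Gen.f, true), (Gen.e, true)] 1 (by decide +kernel) relone_27
theorem RW_39 : wG D.rels [(Gen.d, true), (Gen.h, true), (Gen.d, true), (Gen.h, true), (Gen.d, true), (Gen.h, true)] = 1 :=
  wG_of_rotate D.rels R25 [(Gen.d, true), (Gen.h, true), (Gen.d, true), (Gen.h, true), (Gen.d, true), (Gen.h, true)] 0 (by decide +kernel) relone_25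
theorem RW_40 : wG D.rels [(Gen.d, true), (Gen.f, true), (Gen.d, true), (Gen.f, true)] = 1 :=
  wG_of_rotate D.rels R23 [(Gen.d, true), (Gen.f, true), (Gen.d, true), (Gen.f, true)] 0 (by decide +kernel) relone_23
theorem RW_41 : wG D.rels [(Gen.g, true), (Gen.h, true), (Gen.g, true), (Gen.h, true)] = 1 :=
  wG_of_rotate D.rels R34 [(Gen.g, true), (Gen.h, true), (Gen.g, true), (Gen.h, true)] 0 (by decide +kernel) relone_34
theorem RW_42 : wG D.rels [(Gen.e, true), (Gen.h, true), (Gen.e, true), (Gen.h, true)] = 1 :=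
  wG_of_rotate D.rels R29 [(Gen.e, true), (Gen.h, true), (Gen.e, true), (Gen.h, true)] 0 (by decide +kernel) relone_29
theorem RW_43 : wG D.rels [(Gen.e, true), (Gen.c, true), (Gen.e, true), (Gen.c, true)] = 1 :=
  wG_of_rotate D.rels R17 [(Gen.e, true), (Gen.c, true), (Gen.e, true), (Gen.c, true)] 1 (by decide +kernel) relone_17
theorem RW_44 : wG D.rels [(Gen.e, true), (Gen.i, true), (Gen.e, true), (Gen.i, true)] = 1 :=
  wG_of_rotate D.rels R30 [(Gen.e, true), (Gen.i, true), (Gen.e, true), (Gen.i, true)] 0 (by decide +kernel) relone_30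
theorem RW_45 : wG D.rels [(Gen.i, true), (Gen.h, true), (Gen.i, true), (Gen.h, true), (Gen.i, true), (Gen.h, true)] = 1 :=
  wG_of_rotate D.rels R36 [(Gen.i, true), (Gen.h, true), (Gen.i, true), (Gen.h, true), (Gen.i, true), (Gen.h, true)] 1 (by decide +kernel) relone_36
theorem RW_46 : wG D.rels [(Gen.d, true), (Gen.i, true), (Gen.d, true), (Gen.i, true)] = 1 :=
  wG_of_rotate D.rels R26 [(Gen.d, true), (Gen.i, true), (Gen.d, true), (Gen.i, true)] 0 (by decide +kernel) relone_26
theorem RW_47 : wG D.rels [(Gen.h, true), (Gen.i, true), (Gen.h, true), (Gen.i, true), (Gen.h, true), (Gen.i, true)] = 1 :=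
  wG_of_rotate D.rels R36 [(Gen.h, true), (Gen.i, true), (Gen.h, true), (Gen.i, true), (Gen.h, true), (Gen.i, true)] 0 (by decide +kernel) relone_36
theorem RW_48 : wG D.rels [(Gen.f, true), (Gen.i, true), (Gen.f, true), (Gen.i, true)] = 1 :=
  wG_of_rotate D.rels R33 [(Gen.f, true), (Gen.i, true), (Gen.f, true), (Gen.i, true)] 0 (by decide +kernel) relone_33
theorem RW_49 : wG D.rels [(Gen.d, true), (Gen.h, true), (Gen.i, true), (Gen.d, true), (Gen.c, true), (Gen.b, true), (Gen.d, true), (Gen.e, true), (Gen.f, true), (Gen.d, true), (Gen.h, true), (Gen.i, true), (Gen.d, true), (Gen.c, true), (Gen.b, true), (Gen.d, true), (Gen.e, true), (Gen.f, true), (Gen.d, true), (Gen.h, true), (Gen.i, true), (Gen.d, true), (Gen.c, true), (Gen.b, true), (Gen.d, true), (Gen.e, true), (Gen.f, true), (Gen.d, true), (Gen.h, true), (Gen.i, true), (Gen.d, true), (Gen.c, true), (Gen.b, true), (Gen.d, true), (Gen.e, true), (Gen.f, true), (Gen.d, true), (Gen.h, true), (Gen.i, true), (Gen.d, true), (Gen.c, true), (Gen.b, true),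 (Gen.d, true), (Gen.e, true), (Gen.f, true), (Gen.d, true), (Gen.h, true), (Gen.i, true), (Gen.d, true), (Gen.c, true), (Gen.b, true), (Gen.d, true), (Gen.e, true), (Gen.f, true), (Gen.d, true), (Gen.h, true), (Gen.i, true), (Gen.d, true), (Gen.c, true), (Gen.b, true), (Gen.d, true), (Gen.e, true), (Gen.f, true), (Gen.d, true), (Gen.h, true), (Gen.i, true), (Gen.d, true), (Gen.c, true), (Gen.b, true), (Gen.d, true), (Gen.e, true), (Gen.f, true), (Gen.d, true), (Gen.h, true), (Gen.i, true), (Gen.d, true), (Gen.c, true), (Gen.b, true), (Gen.d, true), (Gen.e, true), (Gen.f, true), (Gen.d, true), (Gen.h, true), (Gen.i, true), (Gen.d, true), (Gen.c, true), (Gen.b, true), (Gen.d, true), (Gen.e, true), (Gen.f, true)] = 1 :=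
  wG_of_rotate D.rels R37 [(Gen.d, true), (Gen.h, true), (Gen.i, true), (Gen.d, true), (Gen.c, true), (Gen.b, true), (Gen.d, true), (Gen.e, true), (Gen.f, true), (Gen.d, true), (Gen.h, true), (Gen.i, true), (Gen.d, true), (Gen.c, true), (Gen.b, true), (Gen.d, true), (Gen.e, true), (Gen.f, true), (Gen.d, true), (Gen.h, true), (Gen.i, true), (Gen.d, true), (Gen.c, true), (Gen.b, true), (Gen.d, true), (Gen.e, true), (Gen.f, true), (Gen.d, true), (Gen.h, true), (Gen.i, true), (Gen.d, true), (Gen.c, true), (Gen.b, true), (Gen.d, true), (Gen.e, true), (Gen.f, true), (Gen.d, true), (Gen.h, true), (Gen.i, true), (Gen.d, true), (Gen.c, true), (Gen.b, true), (Gen.d, true), (Gen.e, true), (Gen.f, true), (Gen.d, true), (Gen.h, true), (Gen.i, true), (Gen.d, true), (Gen.c, true), (Gen.b, true), (Gen.d, true), (Gen.e, true), (Gen.f, true), (Gen.d, true), (Gen.h, true), (Gen.i, true), (Gen.d, true), (Gen.c, true), (Gen.b, true), (Gen.d, true), (Gen.e, true), (Gen.f, true), (Gen.d, true), (Gen.h, true), (Gen.i, true), (Gen.d,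 true), (Gen.c, true), (Gen.b, true), (Gen.d, true), (Gen.e, true), (Gen.f, true), (Gen.d, true), (Gen.h, true), (Gen.i, true), (Gen.d, true), (Gen.c, true), (Gen.b, true), (Gen.d, true), (Gen.e, true), (Gen.f, true), (Gen.d, true), (Gen.h, true), (Gen.i, true), (Gen.d, true), (Gen.c, true), (Gen.b, true), (Gen.d, true), (Gen.e, true), (Gen.f, true)] 6 (by decide +kernel) relone_37
theorem RW_50 : wG D.rels [(Gen.c, true), (Gen.f, true), (Gen.c, true), (Gen.f, true)] = 1 :=
  wG_of_rotate D.rels R18 [(Gen.c, true), (Gen.f, true), (Gen.c, true), (Gen.f, true)] 0 (by decide +kernel) relone_18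
theorem RW_51 : wG D.rels [(Gen.c, true), (Gen.h, true), (Gen.c, true), (Gen.h, true)] = 1 :=
  wG_of_rotate D.rels R20 [(Gen.c, true), (Gen.h, true), (Gen.c, true), (Gen.h, true)] 0 (by decide +kernel) relone_20
theorem RW_52 : wG D.rels [(Gen.c, true), (Gen.i, true), (Gen.c, true), (Gen.i, true)] = 1 :=
  wG_of_rotate D.rels R21 [(Gen.c, true), (Gen.i, true), (Gen.c, true), (Gen.i, true)] 0 (by decide +kernel) relone_21
theorem RW_53 : wG D.rels [(Gen.c, true), (Gen.d, true), (Gen.i, true), (Gen.h, true), (Gen.d, true), (Gen.f, true), (Gen.e, true), (Gen.d, true), (Gen.b, true), (Gen.c, true), (Gen.d, true), (Gen.i, true), (Gen.h, true), (Gen.d, true), (Gen.f, true), (Gen.e, true), (Gen.d, true), (Gen.b, true), (Gen.c, true), (Gen.d, true), (Gen.i, true), (Gen.h, true), (Gen.d, true), (Gen.f, true), (Gen.e, true), (Gen.d, true), (Gen.b, true), (Gen.c, true), (Gen.d, true), (Gen.i, true), (Gen.h, true), (Gen.d, true), (Gen.f, true), (Gen.e, true), (Gen.d, true), (Gen.b, true), (Gen.c, true), (Gen.d, true),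 (Gen.i, true), (Gen.h, true), (Gen.d, true), (Gen.f, true), (Gen.e, true), (Gen.d, true), (Gen.b, true), (Gen.c, true), (Gen.d, true), (Gen.i, true), (Gen.h, true), (Gen.d, true), (Gen.f, true), (Gen.e, true), (Gen.d, true), (Gen.b, true), (Gen.c, true), (Gen.d, true), (Gen.i, true), (Gen.h, true), (Gen.d, true), (Gen.f, true), (Gen.e, true), (Gen.d, true), (Gen.b, true), (Gen.c, true), (Gen.d, true), (Gen.i, true), (Gen.h, true), (Gen.d, true), (Gen.f, true), (Gen.e, true), (Gen.d, true), (Gen.b, true), (Gen.c, true), (Gen.d, true), (Gen.i, true), (Gen.h, true), (Gen.d, true), (Gen.f, true), (Gen.e, true), (Gen.d, true), (Gen.b, true), (Gen.c, true), (Gen.d, true), (Gen.i, true), (Gen.h, true), (Gen.d, true), (Gen.f, true), (Gen.e, true), (Gen.d, true), (Gen.b, true)] = 1 :=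
  wG_of_rotate D.rels RV37 [(Gen.c, true), (Gen.d, true), (Gen.i, true), (Gen.h, true), (Gen.d, true), (Gen.f, true), (Gen.e, true), (Gen.d, true), (Gen.b, true), (Gen.c, true), (Gen.d, true), (Gen.i, true), (Gen.h, true), (Gen.d, true), (Gen.f, true), (Gen.e, true), (Gen.d, true), (Gen.b, true), (Gen.c, true), (Gen.d, true), (Gen.i, true), (Gen.h, true), (Gen.d, true), (Gen.f, true), (Gen.e, true), (Gen.d, true), (Gen.b, true), (Gen.c, true), (Gen.d, true), (Gen.i, true), (Gen.h, true), (Gen.d, true), (Gen.f, true), (Gen.e, true), (Gen.d, true), (Gen.b, true), (Gen.c, true), (Gen.d, true), (Gen.i, true), (Gen.h, true), (Gen.d, true), (Gen.f, true), (Gen.e, true), (Gen.d, true), (Gen.b, true), (Gen.c, true), (Gen.d, true), (Gen.i, true), (Gen.h, true), (Gen.d, true), (Gen.f, true), (Gen.e, true), (Gen.d, true), (Gen.b, true), (Gen.c, true), (Gen.d, true), (Gen.i, true), (Gen.h, true), (Gen.d, true), (Gen.f, true), (Gen.e, true), (Gen.d, true), (Gen.b, true), (Gen.c, true), (Gen.d, true), (Gen.i, true),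 (Gen.h, true), (Gen.d, true), (Gen.f, true), (Gen.e, true), (Gen.d, true), (Gen.b, true), (Gen.c, true), (Gen.d, true), (Gen.i, true), (Gen.h, true), (Gen.d, true), (Gen.f, true), (Gen.e, true), (Gen.d, true), (Gen.b, true), (Gen.c, true), (Gen.d, true), (Gen.i, true), (Gen.h, true), (Gen.d, true), (Gen.f, true), (Gen.e, true), (Gen.d, true), (Gen.b, true)] 7 (by decide +kernel) relrev_37
theorem RW_54 : wG D.rels [(Gen.c, true), (Gen.d, true), (Gen.e, true), (Gen.f, true), (Gen.g, true), (Gen.h, true), (Gen.b, true), (Gen.c, true), (Gen.d, true), (Gen.e, true), (Gen.f, true), (Gen.g, true), (Gen.h, true), (Gen.b, true), (Gen.c, true), (Gen.d, true), (Gen.e, true), (Gen.f, true), (Gen.g, true), (Gen.h, true), (Gen.b, true), (Gen.c, true), (Gen.d, true), (Gen.e, true), (Gen.f, true), (Gen.g, true), (Gen.h, true), (Gen.b, true), (Gen.c, true), (Gen.d, true), (Gen.e, true), (Gen.f, true), (Gen.g, true), (Gen.h, true), (Gen.b, true), (Gen.c, true), (Gen.d, true), (Gen.e, true), (Gen.f, true), (Gen.g, true),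 (Gen.h, true), (Gen.b, true), (Gen.c, true), (Gen.d, true), (Gen.e, true), (Gen.f, true), (Gen.g, true), (Gen.h, true), (Gen.b, true), (Gen.c, true), (Gen.d, true), (Gen.e, true), (Gen.f, true), (Gen.g, true), (Gen.h, true), (Gen.b, true), (Gen.c, true), (Gen.d, true), (Gen.e, true), (Gen.f, true), (Gen.g, true), (Gen.h, true), (Gen.b, true)] = 1 :=
  wG_of_rotate D.rels R38 [(Gen.c, true), (Gen.d, true), (Gen.e, true), (Gen.f, true), (Gen.g, true), (Gen.h, true), (Gen.b, true), (Gen.c, true), (Gen.d, true), (Gen.e, true), (Gen.f, true), (Gen.g, true), (Gen.h, true), (Gen.b, true), (Gen.c, true), (Gen.d, true), (Gen.e, true), (Gen.f, true), (Gen.g, true), (Gen.h, true), (Gen.b, true), (Gen.c, true), (Gen.d, true), (Gen.e, true), (Gen.f, true), (Gen.g, true), (Gen.h, true), (Gen.b, true), (Gen.c, true), (Gen.d, true), (Gen.e, true), (Gen.f, true), (Gen.g, true), (Gen.h, true), (Gen.b, true), (Gen.c, true), (Gen.d, true), (Gen.e, true), (Gen.f, true), (Gen.g, true), (Gen.h, true), (Gen.b, true), (Gen.c, true),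 (Gen.d, true), (Gen.e, true), (Gen.f, true), (Gen.g, true), (Gen.h, true), (Gen.b, true), (Gen.c, true), (Gen.d, true), (Gen.e, true), (Gen.f, true), (Gen.g, true), (Gen.h, true), (Gen.b, true), (Gen.c, true), (Gen.d, true), (Gen.e, true), (Gen.f, true), (Gen.g, true), (Gen.h, true), (Gen.b, true)] 1 (by decide +kernel) relone_38
theorem RW_55 : wG D.rels [(Gen.c, true), (Gen.b, true), (Gen.c, true), (Gen.b, true), (Gen.c, true), (Gen.b, true)] = 1 :=
  wG_of_rotate D.rels R9 [(Gen.c, true), (Gen.b, true), (Gen.c, true), (Gen.b, true), (Gen.c, true), (Gen.b, true)] 1 (by decide +kernel) relone_9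
theorem RW_56 : wG D.rels [(Gen.d, true), (Gen.c, true), (Gen.d, true), (Gen.c, true), (Gen.d, true), (Gen.c, true)] = 1 :=
  wG_of_rotate D.rels R16 [(Gen.d, true), (Gen.c, true), (Gen.d, true), (Gen.c, true), (Gen.d, true), (Gen.c, true)] 1 (by decide +kernel) relone_16
theorem RW_57 : wG D.rels [(Gen.d, true), (Gen.e, true), (Gen.f, true), (Gen.g, true), (Gen.h, true), (Gen.b, true), (Gen.c, true), (Gen.d, true), (Gen.e, true), (Gen.f, true), (Gen.g, true), (Gen.h, true), (Gen.b, true), (Gen.c, true), (Gen.d, true), (Gen.e, true), (Gen.f, true), (Gen.g, true), (Gen.h, true), (Gen.b, true), (Gen.c, true), (Gen.d, true), (Gen.e, true), (Gen.f, true), (Gen.g, true), (Gen.h, true), (Gen.b, true), (Gen.c, true), (Gen.d, true), (Gen.e, true), (Gen.f, true), (Gen.g, true), (Gen.h, true), (Gen.b, true), (Gen.c, true), (Gen.d, true), (Gen.e, true), (Gen.f, true), (Gen.g, true), (Gen.h, true), (Gen.b, true), (Gen.c, true), (Gen.d, true), (Gen.e, true), (Gen.f, true), (Gen.g, true), (Gen.h, true), (Gen.b, true),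 (Gen.c, true), (Gen.d, true), (Gen.e, true), (Gen.f, true), (Gen.g, true), (Gen.h, true), (Gen.b, true), (Gen.c, true), (Gen.d, true), (Gen.e, true), (Gen.f, true), (Gen.g, true), (Gen.h, true), (Gen.b, true), (Gen.c, true)] = 1 :=
  wG_of_rotate D.rels R38 [(Gen.d, true), (Gen.e, true), (Gen.f, true), (Gen.g, true), (Gen.h, true), (Gen.b, true), (Gen.c, true), (Gen.d, true), (Gen.e, true), (Gen.f, true), (Gen.g, true), (Gen.h, true), (Gen.b, true), (Gen.c, true), (Gen.d, true), (Gen.e, true), (Gen.f, true), (Gen.g, true), (Gen.h, true), (Gen.b, true), (Gen.c, true), (Gen.d, true), (Gen.e, true), (Gen.f, true), (Gen.g, true), (Gen.h, true), (Gen.b, true), (Gen.c, true), (Gen.d, true), (Gen.e, true), (Gen.f, true), (Gen.g, true), (Gen.h, true), (Gen.b, true), (Gen.c, true), (Gen.d, true), (Gen.e, true), (Gen.f, true), (Gen.g, true), (Gen.h, true), (Gen.b, true), (Gen.c, true), (Gen.d, true), (Gen.e, true), (Gen.f, true), (Gen.g, true), (Gen.h, true), (Gen.b, true), (Gen.c, true), (Gen.d, true), (Gen.e, true),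 (Gen.f, true), (Gen.g, true), (Gen.h, true), (Gen.b, true), (Gen.c, true), (Gen.d, true), (Gen.e, true), (Gen.f, true), (Gen.g, true), (Gen.h, true), (Gen.b, true), (Gen.c, true)] 2 (by decide +kernel) relone_38
theorem RW_58 : wG D.rels [(Gen.e, true), (Gen.f, true), (Gen.g, true), (Gen.h, true), (Gen.b, true), (Gen.c, true), (Gen.d, true), (Gen.e, true), (Gen.f, true), (Gen.g, true), (Gen.h, true), (Gen.b, true), (Gen.c, true), (Gen.d, true), (Gen.e, true), (Gen.f, true), (Gen.g, true), (Gen.h, true), (Gen.b, true), (Gen.c, true), (Gen.d, true), (Gen.e, true), (Gen.f, true), (Gen.g, true), (Gen.h, true), (Gen.b, true), (Gen.c, true), (Gen.d, true), (Gen.e, true), (Gen.f, true), (Gen.g, true), (Gen.h, true), (Gen.b, true), (Gen.c, true), (Gen.d, true), (Gen.e, true), (Gen.f, true), (Gen.g, true), (Gen.h, true), (Gen.b, true), (Gen.c, true), (Gen.d, true), (Gen.e, true), (Gen.f, true), (Gen.g, true), (Gen.h, true), (Gen.b, true), (Gen.c, true), (Gen.d, true), (Gen.e, true), (Gen.f, true), (Gen.g, true),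 (Gen.h, true), (Gen.b, true), (Gen.c, true), (Gen.d, true), (Gen.e, true), (Gen.f, true), (Gen.g, true), (Gen.h, true), (Gen.b, true), (Gen.c, true), (Gen.d, true)] = 1 :=
  wG_of_rotate D.rels R38 [(Gen.e, true), (Gen.f, true), (Gen.g, true), (Gen.h, true), (Gen.b, true), (Gen.c, true), (Gen.d, true), (Gen.e, true), (Gen.f, true), (Gen.g, true), (Gen.h, true), (Gen.b, true), (Gen.c, true), (Gen.d, true), (Gen.e, true), (Gen.f, true), (Gen.g, true), (Gen.h, true), (Gen.b, true), (Gen.c, true), (Gen.d, true), (Gen.e, true), (Gen.f, true), (Gen.g, true), (Gen.h, true), (Gen.b, true), (Gen.c, true), (Gen.d, true), (Gen.e, true), (Gen.f, true), (Gen.g, true), (Gen.h, true), (Gen.b, true), (Gen.c, true), (Gen.d, true), (Gen.e, true), (Gen.f, true), (Gen.g, true), (Gen.h, true), (Gen.b, true), (Gen.c, true), (Gen.d, true), (Gen.e, true), (Gen.f, true), (Gen.g, true), (Gen.h, true), (Gen.b, true), (Gen.c, true), (Gen.d, true), (Gen.e, true), (Gen.f, true), (Gen.g, true), (Gen.h, true), (Gen.b, true), (Gen.c, true),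 (Gen.d, true), (Gen.e, true), (Gen.f, true), (Gen.g, true), (Gen.h, true), (Gen.b, true), (Gen.c, true), (Gen.d, true)] 3 (by decide +kernel) relone_38
theorem RW_59 : wG D.rels [(Gen.h, true), (Gen.d, true), (Gen.h, true), (Gen.d, true), (Gen.h, true), (Gen.d, true)] = 1 :=
  wG_of_rotate D.rels R25 [(Gen.h, true), (Gen.d, true), (Gen.h, true), (Gen.d, true), (Gen.h, true), (Gen.d, true)] 1 (by decide +kernel) relone_25
theorem RW_60 : wG D.rels [(Gen.b, true), (Gen.c, true), (Gen.d, true), (Gen.i, true), (Gen.h, true), (Gen.d, true), (Gen.f, true), (Gen.e, true), (Gen.d, true), (Gen.b, true), (Gen.c, true), (Gen.d, true), (Gen.i, true), (Gen.h, true), (Gen.d, true), (Gen.f, true), (Gen.e, true), (Gen.d, true), (Gen.b, true), (Gen.c, true), (Gen.d, true), (Gen.i, true), (Gen.h, true), (Gen.d, true), (Gen.f, true), (Gen.e, true), (Gen.d, true), (Gen.b, true), (Gen.c, true), (Gen.d, true), (Gen.i, true), (Gen.h, true), (Gen.d, true), (Gen.f, true), (Gen.e, true), (Gen.d, true), (Gen.b, true), (Gen.c, true),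 (Gen.d, true), (Gen.i, true), (Gen.h, true), (Gen.d, true), (Gen.f, true), (Gen.e, true), (Gen.d, true), (Gen.b, true), (Gen.c, true), (Gen.d, true), (Gen.i, true), (Gen.h, true), (Gen.d, true), (Gen.f, true), (Gen.e, true), (Gen.d, true), (Gen.b, true), (Gen.c, true), (Gen.d, true), (Gen.i, true), (Gen.h, true), (Gen.d, true), (Gen.f, true), (Gen.e, true), (Gen.d, true), (Gen.b, true), (Gen.c, true), (Gen.d, true), (Gen.i, true), (Gen.h, true), (Gen.d, true), (Gen.f, true), (Gen.e, true), (Gen.d, true), (Gen.b, true), (Gen.c, true), (Gen.d, true), (Gen.i, true), (Gen.h, true), (Gen.d, true), (Gen.f, true), (Gen.e, true), (Gen.d, true), (Gen.b, true), (Gen.c, true), (Gen.d, true), (Gen.i, true), (Gen.h, true), (Gen.d, true), (Gen.f, true), (Gen.e, true), (Gen.d, true)] = 1 :=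
  wG_of_rotate D.rels RV37 [(Gen.b, true), (Gen.c, true), (Gen.d, true), (Gen.i, true), (Gen.h, true), (Gen.d, true), (Gen.f, true), (Gen.e, true), (Gen.d, true), (Gen.b, true), (Gen.c, true), (Gen.d, true), (Gen.i, true), (Gen.h, true), (Gen.d, true), (Gen.f, true), (Gen.e, true), (Gen.d, true), (Gen.b, true), (Gen.c, true), (Gen.d, true), (Gen.i, true), (Gen.h, true), (Gen.d, true), (Gen.f, true), (Gen.e, true), (Gen.d, true), (Gen.b, true), (Gen.c, true), (Gen.d, true), (Gen.i, true), (Gen.h, true), (Gen.d, true), (Gen.f, true), (Gen.e, true), (Gen.d, true), (Gen.b, true), (Gen.c, true), (Gen.d, true), (Gen.i, true), (Gen.h, true), (Gen.d, true), (Gen.f, true), (Gen.e, true), (Gen.d, true), (Gen.b, true), (Gen.c, true), (Gen.d, true), (Gen.i, true), (Gen.h, true), (Gen.d, true), (Gen.f, true), (Gen.e, true), (Gen.d, true), (Gen.b, true), (Gen.c, true), (Gen.d, true), (Gen.i, true), (Gen.h, true), (Gen.d, true), (Gen.f, true), (Gen.e, true), (Gen.d, true), (Gen.b, true), (Gen.c, true), (Gen.d, true),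 (Gen.i, true), (Gen.h, true), (Gen.d, true), (Gen.f, true), (Gen.e, true), (Gen.d, true), (Gen.b, true), (Gen.c, true), (Gen.d, true), (Gen.i, true), (Gen.h, true), (Gen.d, true), (Gen.f, true), (Gen.e, true), (Gen.d, true), (Gen.b, true), (Gen.c, true), (Gen.d, true), (Gen.i, true), (Gen.h, true), (Gen.d, true), (Gen.f, true), (Gen.e, true), (Gen.d, true)] 6 (by decide +kernel) relrev_37
theorem RW_61 : wG D.rels [(Gen.g, true), (Gen.f, true), (Gen.e, true), (Gen.d, true), (Gen.c, true), (Gen.b, true), (Gen.h, true), (Gen.g, true), (Gen.f, true), (Gen.e, true), (Gen.d, true), (Gen.c, true), (Gen.b, true), (Gen.h, true), (Gen.g, true), (Gen.f, true), (Gen.e, true), (Gen.d, true), (Gen.c, true), (Gen.b, true), (Gen.h, true), (Gen.g, true), (Gen.f, true), (Gen.e, true), (Gen.d, true), (Gen.c, true), (Gen.b, true), (Gen.h, true), (Gen.g, true), (Gen.f, true), (Gen.e, true), (Gen.d, true), (Gen.c, true), (Gen.b, true), (Gen.h, true), (Gen.g, true), (Gen.f, true), (Gen.e, true), (Gen.d, true), (Gen.c, true),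 (Gen.b, true), (Gen.h, true), (Gen.g, true), (Gen.f, true), (Gen.e, true), (Gen.d, true), (Gen.c, true), (Gen.b, true), (Gen.h, true), (Gen.g, true), (Gen.f, true), (Gen.e, true), (Gen.d, true), (Gen.c, true), (Gen.b, true), (Gen.h, true), (Gen.g, true), (Gen.f, true), (Gen.e, true), (Gen.d, true), (Gen.c, true), (Gen.b, true), (Gen.h, true)] = 1 :=
  wG_of_rotate D.rels RV38 [(Gen.g, true), (Gen.f, true), (Gen.e, true), (Gen.d, true), (Gen.c, true), (Gen.b, true), (Gen.h, true), (Gen.g, true), (Gen.f, true), (Gen.e, true), (Gen.d, true), (Gen.c, true), (Gen.b, true), (Gen.h, true), (Gen.g, true), (Gen.f, true), (Gen.e, true), (Gen.d, true), (Gen.c, true), (Gen.b, true), (Gen.h, true), (Gen.g, true), (Gen.f, true), (Gen.e, true), (Gen.d, true), (Gen.c, true), (Gen.b, true), (Gen.h, true), (Gen.g, true), (Gen.f, true), (Gen.e, true), (Gen.d, true), (Gen.c, true), (Gen.b, true), (Gen.h, true), (Gen.g, true), (Gen.f, true), (Gen.e, true), (Gen.d, true), (Gen.c, true), (Gen.b, true), (Gen.h, true), (Gen.g,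 true), (Gen.f, true), (Gen.e, true), (Gen.d, true), (Gen.c, true), (Gen.b, true), (Gen.h, true), (Gen.g, true), (Gen.f, true), (Gen.e, true), (Gen.d, true), (Gen.c, true), (Gen.b, true), (Gen.h, true), (Gen.g, true), (Gen.f, true), (Gen.e, true), (Gen.d, true), (Gen.c, true), (Gen.b, true), (Gen.h, true)] 1 (by decide +kernel) relrev_38
theorem RW_62 : wG D.rels [(Gen.b, true), (Gen.i, true), (Gen.b, true), (Gen.i, true)] = 1 :=
  wG_of_rotate D.rels R15 [(Gen.b, true), (Gen.i, true), (Gen.b, true), (Gen.i, true)] 0 (by decide +kernel) relone_15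
theorem RW_63 : wG D.rels [(Gen.f, true), (Gen.g, true), (Gen.h, true), (Gen.b, true), (Gen.c, true), (Gen.d, true), (Gen.e, true), (Gen.f, true), (Gen.g, true), (Gen.h, true), (Gen.b, true), (Gen.c, true), (Gen.d, true), (Gen.e, true), (Gen.f, true), (Gen.g, true), (Gen.h, true), (Gen.b, true), (Gen.c, true), (Gen.d, true), (Gen.e, true), (Gen.f, true), (Gen.g, true), (Gen.h, true), (Gen.b, true), (Gen.c, true), (Gen.d, true), (Gen.e, true), (Gen.f, true), (Gen.g, true), (Gen.h, true), (Gen.b, true), (Gen.c, true), (Gen.d, true), (Gen.e, true), (Gen.f, true), (Gen.g, true), (Gen.h, true), (Gen.b, true), (Gen.c, true), (Gen.d, true), (Gen.e, true), (Gen.f, true), (Gen.g, true), (Gen.h, true), (Gen.b, true), (Gen.c, true), (Gen.d, true), (Gen.e, true), (Gen.f, true), (Gen.g, true), (Gen.h, true), (Gen.b, true), (Gen.c, true), (Gen.d, true), (Gen.e, true), (Gen.f, true), (Gen.g, true), (Gen.h, true), (Gen.b, true), (Gen.c, true), (Gen.d, true), (Gen.e, true)] = 1 :=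
  wG_of_rotate D.rels R38 [(Gen.f, true), (Gen.g, true), (Gen.h, true), (Gen.b, true), (Gen.c, true), (Gen.d, true), (Gen.e, true), (Gen.f, true), (Gen.g, true), (Gen.h, true), (Gen.b, true), (Gen.c, true), (Gen.d, true), (Gen.e, true), (Gen.f, true), (Gen.g, true), (Gen.h, true), (Gen.b, true), (Gen.c, true), (Gen.d, true), (Gen.e, true), (Gen.f, true), (Gen.g, true), (Gen.h, true), (Gen.b, true), (Gen.c, true), (Gen.d, true), (Gen.e, true), (Gen.f, true), (Gen.g, true), (Gen.h, true), (Gen.b, true), (Gen.c, true), (Gen.d, true), (Gen.e, true), (Gen.f, true), (Gen.g, true), (Gen.h, true), (Gen.b, true), (Gen.c, true), (Gen.d, true), (Gen.e, true), (Gen.f, true), (Gen.g, true), (Gen.h, true), (Gen.b, true), (Gen.c, true), (Gen.d, true), (Gen.e, true), (Gen.f, true), (Gen.g, true), (Gen.h, true), (Gen.b, true), (Gen.c, true), (Gen.d, true), (Gen.e, true), (Gen.f, true), (Gen.g, true), (Gen.h, true), (Gen.b, true), (Gen.c, true), (Gen.d, true), (Gen.e, true)] 4 (by decide +kernel) relone_38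
theorem RW_64 : wG D.rels [(Gen.b, true), (Gen.b, true)] = 1 :=
  wG_of_rotate D.rels R1 [(Gen.b, true), (Gen.b, true)] 0 (by decide +kernel) relone_1
theorem RW_65 : wG D.rels [(Gen.b, true), (Gen.h, true), (Gen.g, true), (Gen.f, true), (Gen.e, true), (Gen.d, true), (Gen.c, true), (Gen.b, true), (Gen.h, true), (Gen.g, true), (Gen.f, true), (Gen.e, true), (Gen.d, true), (Gen.c, true), (Gen.b, true), (Gen.h, true), (Gen.g, true), (Gen.f, true), (Gen.e, true), (Gen.d, true), (Gen.c, true), (Gen.b, true), (Gen.h, true), (Gen.g, true), (Gen.f, true), (Gen.e, true), (Gen.d, true), (Gen.c, true), (Gen.b, true), (Gen.h, true), (Gen.g, true), (Gen.f, true), (Gen.e, true), (Gen.d, true), (Gen.c, true), (Gen.b, true), (Gen.h, true), (Gen.g, true), (Gen.f, true), (Gen.e, true), (Gen.d, true), (Gen.c, true), (Gen.b, true), (Gen.h, true), (Gen.g, true), (Gen.f, true), (Gen.e, true), (Gen.d, true), (Gen.c, true), (Gen.b, true), (Gen.h, true), (Gen.g, true), (Gen.f, true), (Gen.e, true), (Gen.d, true), (Gen.c, true),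 (Gen.b, true), (Gen.h, true), (Gen.g, true), (Gen.f, true), (Gen.e, true), (Gen.d, true), (Gen.c, true)] = 1 :=
  wG_of_rotate D.rels RV38 [(Gen.b, true), (Gen.h, true), (Gen.g, true), (Gen.f, true), (Gen.e, true), (Gen.d, true), (Gen.c, true), (Gen.b, true), (Gen.h, true), (Gen.g, true), (Gen.f, true), (Gen.e, true), (Gen.d, true), (Gen.c, true), (Gen.b, true), (Gen.h, true), (Gen.g, true), (Gen.f, true), (Gen.e, true), (Gen.d, true), (Gen.c, true), (Gen.b, true), (Gen.h, true), (Gen.g, true), (Gen.f, true), (Gen.e, true), (Gen.d, true), (Gen.c, true), (Gen.b, true), (Gen.h, true), (Gen.g, true), (Gen.f, true), (Gen.e, true), (Gen.d, true), (Gen.c, true), (Gen.b, true), (Gen.h, true), (Gen.g, true), (Gen.f, true), (Gen.e, true), (Gen.d, true), (Gen.c, true), (Gen.b, true), (Gen.h, true), (Gen.g, true), (Gen.f, true), (Gen.e, true), (Gen.d, true), (Gen.c, true), (Gen.b, true), (Gen.h, true), (Gen.g, true), (Gen.f, true), (Gen.e, true), (Gen.d, true), (Gen.c, true), (Gen.b, true), (Gen.h, true), (Gen.g,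 true), (Gen.f, true), (Gen.e, true), (Gen.d, true), (Gen.c, true)] 6 (by decide +kernel) relrev_38
theorem RW_66 : wG D.rels [(Gen.c, true), (Gen.c, true)] = 1 :=
  wG_of_rotate D.rels R2 [(Gen.c, true), (Gen.c, true)] 0 (by decide +kernel) relone_2
theorem RW_67 : wG D.rels [(Gen.c, true), (Gen.b, true), (Gen.h, true), (Gen.g, true), (Gen.f, true), (Gen.e, true), (Gen.d, true), (Gen.c, true), (Gen.b, true), (Gen.h, true), (Gen.g, true), (Gen.f, true), (Gen.e, true), (Gen.d, true), (Gen.c, true), (Gen.b, true), (Gen.h, true), (Gen.g, true), (Gen.f, true), (Gen.e, true), (Gen.d, true), (Gen.c, true), (Gen.b, true), (Gen.h, true), (Gen.g, true), (Gen.f, true), (Gen.e, true), (Gen.d, true), (Gen.c, true), (Gen.b, true), (Gen.h, true), (Gen.g, true), (Gen.f, true), (Gen.e, true), (Gen.d, true), (Gen.c, true), (Gen.b, true), (Gen.h, true), (Gen.g, true), (Gen.f, true), (Gen.e, true), (Gen.d, true), (Gen.c, true), (Gen.b, true), (Gen.h, true), (Gen.g, true), (Gen.f, true), (Gen.e, true), (Gen.d, true), (Gen.c,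 true), (Gen.b, true), (Gen.h, true), (Gen.g, true), (Gen.f, true), (Gen.e, true), (Gen.d, true), (Gen.c, true), (Gen.b, true), (Gen.h, true), (Gen.g, true), (Gen.f, true), (Gen.e, true), (Gen.d, true)] = 1 :=
  wG_of_rotate D.rels RV38 [(Gen.c, true), (Gen.b, true), (Gen.h, true), (Gen.g, true), (Gen.f, true), (Gen.e, true), (Gen.d, true), (Gen.c, true), (Gen.b, true), (Gen.h, true), (Gen.g, true), (Gen.f, true), (Gen.e, true), (Gen.d, true), (Gen.c, true), (Gen.b, true), (Gen.h, true), (Gen.g, true), (Gen.f, true), (Gen.e, true), (Gen.d, true), (Gen.c, true), (Gen.b, true), (Gen.h, true), (Gen.g, true), (Gen.f, true), (Gen.e, true), (Gen.d, true), (Gen.c, true), (Gen.b, true), (Gen.h, true), (Gen.g, true), (Gen.f, true), (Gen.e, true), (Gen.d, true), (Gen.c, true), (Gen.b, true), (Gen.h, true), (Gen.g, true), (Gen.f, true), (Gen.e, true), (Gen.d, true), (Gen.c, true), (Gen.b, true), (Gen.h, true), (Gen.g, true), (Gen.f, true), (Gen.e, true), (Gen.d, true), (Gen.c, true), (Gen.b, true), (Gen.h, true), (Gen.g,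 true), (Gen.f, true), (Gen.e, true), (Gen.d, true), (Gen.c, true), (Gen.b, true), (Gen.h, true), (Gen.g, true), (Gen.f, true), (Gen.e, true), (Gen.d, true)] 5 (by decide +kernel) relrev_38
theorem RW_68 : wG D.rels [(Gen.d, true), (Gen.d, true)] = 1 :=
  wG_of_rotate D.rels R3 [(Gen.d, true), (Gen.d, true)] 0 (by decide +kernel) relone_3
theorem RW_69 : wG D.rels [(Gen.d, true), (Gen.c, true), (Gen.b, true), (Gen.h, true), (Gen.g, true), (Gen.f, true), (Gen.e, true), (Gen.d, true), (Gen.c, true), (Gen.b, true), (Gen.h, true), (Gen.g, true), (Gen.f, true), (Gen.e, true), (Gen.d, true), (Gen.c, true), (Gen.b, true), (Gen.h, true), (Gen.g, true), (Gen.f, true), (Gen.e, true), (Gen.d, true), (Gen.c, true), (Gen.b, true), (Gen.h, true), (Gen.g, true), (Gen.f, true), (Gen.e, true), (Gen.d, true), (Gen.c, true), (Gen.b, true), (Gen.h, true), (Gen.g, true), (Gen.f, true), (Gen.e, true), (Gen.d, true), (Gen.c, true), (Gen.b, true), (Gen.h, true), (Gen.g, true), (Gen.f, true), (Gen.e, true), (Gen.d, true), (Gen.c,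 true), (Gen.b, true), (Gen.h, true), (Gen.g, true), (Gen.f, true), (Gen.e, true), (Gen.d, true), (Gen.c, true), (Gen.b, true), (Gen.h, true), (Gen.g, true), (Gen.f, true), (Gen.e, true), (Gen.d, true), (Gen.c, true), (Gen.b, true), (Gen.h, true), (Gen.g, true), (Gen.f, true), (Gen.e, true)] = 1 :=
  wG_of_rotate D.rels RV38 [(Gen.d, true), (Gen.c, true), (Gen.b, true), (Gen.h, true), (Gen.g, true), (Gen.f, true), (Gen.e, true), (Gen.d, true), (Gen.c, true), (Gen.b, true), (Gen.h, true), (Gen.g, true), (Gen.f, true), (Gen.e, true), (Gen.d, true), (Gen.c, true), (Gen.b, true), (Gen.h, true), (Gen.g, true), (Gen.f, true), (Gen.e, true), (Gen.d, true), (Gen.c, true), (Gen.b, true), (Gen.h, true), (Gen.g, true), (Gen.f, true), (Gen.e, true), (Gen.d, true), (Gen.c, true), (Gen.b, true), (Gen.h, true), (Gen.g, true), (Gen.f, true), (Gen.e, true), (Gen.d, true), (Gen.c, true), (Gen.b, true), (Gen.h, true), (Gen.g, true), (Gen.f, true), (Gen.e, true), (Gen.d, true), (Gen.c, true), (Gen.b, true), (Gen.h, true), (Gen.g,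 true), (Gen.f, true), (Gen.e, true), (Gen.d, true), (Gen.c, true), (Gen.b, true), (Gen.h, true), (Gen.g, true), (Gen.f, true), (Gen.e, true), (Gen.d, true), (Gen.c, true), (Gen.b, true), (Gen.h, true), (Gen.g, true), (Gen.f, true), (Gen.e, true)] 4 (by decide +kernel) relrev_38
theorem RW_70 : wG D.rels [(Gen.e, true), (Gen.e, true)] = 1 :=
  wG_of_rotate D.rels R4 [(Gen.e, true), (Gen.e, true)] 0 (by decide +kernel) relone_4
theorem RW_71 : wG D.rels [(Gen.e, true), (Gen.d, true), (Gen.b, true), (Gen.c, true), (Gen.d, true), (Gen.i, true), (Gen.h, true), (Gen.d, true), (Gen.f, true), (Gen.e, true), (Gen.d, true), (Gen.b, true), (Gen.c, true), (Gen.d, true), (Gen.i, true), (Gen.h, true), (Gen.d, true), (Gen.f, true), (Gen.e, true), (Gen.d, true), (Gen.b, true), (Gen.c, true), (Gen.d, true), (Gen.i, true), (Gen.h, true), (Gen.d, true), (Gen.f, true), (Gen.e, true), (Gen.d, true), (Gen.b, true), (Gen.c, true), (Gen.d, true), (Gen.i, true), (Gen.h, true), (Gen.d, true), (Gen.f, true), (Gen.e, true), (Gen.d,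 true), (Gen.b, true), (Gen.c, true), (Gen.d, true), (Gen.i, true), (Gen.h, true), (Gen.d, true), (Gen.f, true), (Gen.e, true), (Gen.d, true), (Gen.b, true), (Gen.c, true), (Gen.d, true), (Gen.i, true), (Gen.h, true), (Gen.d, true), (Gen.f, true), (Gen.e, true), (Gen.d, true), (Gen.b, true), (Gen.c, true), (Gen.d, true), (Gen.i, true), (Gen.h, true), (Gen.d, true), (Gen.f, true), (Gen.e, true), (Gen.d, true), (Gen.b, true), (Gen.c, true), (Gen.d, true), (Gen.i, true), (Gen.h, true), (Gen.d, true), (Gen.f, true), (Gen.e, true), (Gen.d, true), (Gen.b, true), (Gen.c, true), (Gen.d, true), (Gen.i, true), (Gen.h, true), (Gen.d, true), (Gen.f, true), (Gen.e, true), (Gen.d, true), (Gen.b, true), (Gen.c, true), (Gen.d, true), (Gen.i, true), (Gen.h, true), (Gen.d, true), (Gen.f, true)] = 1 :=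
  wG_of_rotate D.rels RV37 [(Gen.e, true), (Gen.d, true), (Gen.b, true), (Gen.c, true), (Gen.d, true), (Gen.i, true), (Gen.h, true), (Gen.d, true), (Gen.f, true), (Gen.e, true), (Gen.d, true), (Gen.b, true), (Gen.c, true), (Gen.d, true), (Gen.i, true), (Gen.h, true), (Gen.d, true), (Gen.f, true), (Gen.e, true), (Gen.d, true), (Gen.b, true), (Gen.c, true), (Gen.d, true), (Gen.i, true), (Gen.h, true), (Gen.d, true), (Gen.f, true), (Gen.e, true), (Gen.d, true), (Gen.b, true), (Gen.c, true), (Gen.d, true), (Gen.i, true), (Gen.h, true), (Gen.d, true), (Gen.f, true), (Gen.e, true), (Gen.d, true), (Gen.b, true), (Gen.c, true), (Gen.d, true), (Gen.i, true), (Gen.h, true), (Gen.d, true), (Gen.f, true), (Gen.e, true), (Gen.d, true), (Gen.b, true), (Gen.c, true), (Gen.d, true), (Gen.i, true), (Gen.h, true), (Gen.d, true), (Gen.f, true), (Gen.e, true), (Gen.d, true), (Gen.b, true), (Gen.c, true), (Gen.d, true), (Gen.i, true), (Gen.h, true), (Gen.d, true), (Gen.f, true), (Gen.e, true), (Gen.d, true), (Gen.b, true),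 (Gen.c, true), (Gen.d, true), (Gen.i, true), (Gen.h, true), (Gen.d, true), (Gen.f, true), (Gen.e, true), (Gen.d, true), (Gen.b, true), (Gen.c, true), (Gen.d, true), (Gen.i, true), (Gen.h, true), (Gen.d, true), (Gen.f, true), (Gen.e, true), (Gen.d, true), (Gen.b, true), (Gen.c, true), (Gen.d, true), (Gen.i, true), (Gen.h, true), (Gen.d, true), (Gen.f, true)] 4 (by decide +kernel) relrev_37
theorem RW_72 : wG D.rels [(Gen.f, true), (Gen.f, true)] = 1 :=
  wG_of_rotate D.rels R5 [(Gen.f, true), (Gen.f, true)] 0 (by decide +kernel) relone_5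
theorem RW_73 : wG D.rels [(Gen.g, true), (Gen.g, true)] = 1 :=
  wG_of_rotate D.rels R6 [(Gen.g, true), (Gen.g, true)] 0 (by decide +kernel) relone_6
theorem RW_74 : wG D.rels [(Gen.g, true), (Gen.i, true), (Gen.g, true), (Gen.i, true)] = 1 :=
  wG_of_rotate D.rels R35 [(Gen.g, true), (Gen.i, true), (Gen.g, true), (Gen.i, true)] 0 (by decide +kernel) relone_35
theorem RW_75 : wG D.rels [(Gen.g, true), (Gen.h, true), (Gen.b, true), (Gen.c, true), (Gen.d, true), (Gen.e, true), (Gen.f, true), (Gen.g, true), (Gen.h, true), (Gen.b, true), (Gen.c, true), (Gen.d, true), (Gen.e, true), (Gen.f, true), (Gen.g, true), (Gen.h, true), (Gen.b, true), (Gen.c, true), (Gen.d, true), (Gen.e, true), (Gen.f, true), (Gen.g, true), (Gen.h, true), (Gen.b, true), (Gen.c, true), (Gen.d, true), (Gen.e, true), (Gen.f, true), (Gen.g, true), (Gen.h, true), (Gen.b, true), (Gen.c, true), (Gen.d, true), (Gen.e, true), (Gen.f, true), (Gen.g, true), (Gen.h, true), (Gen.b, true), (Gen.c, true), (Gen.d, true), (Gen.e, true), (Gen.f, true),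 (Gen.g, true), (Gen.h, true), (Gen.b, true), (Gen.c, true), (Gen.d, true), (Gen.e, true), (Gen.f, true), (Gen.g, true), (Gen.h, true), (Gen.b, true), (Gen.c, true), (Gen.d, true), (Gen.e, true), (Gen.f, true), (Gen.g, true), (Gen.h, true), (Gen.b, true), (Gen.c, true), (Gen.d, true), (Gen.e, true), (Gen.f, true)] = 1 :=
  wG_of_rotate D.rels R38 [(Gen.g, true), (Gen.h, true), (Gen.b, true), (Gen.c, true), (Gen.d, true), (Gen.e, true), (Gen.f, true), (Gen.g, true), (Gen.h, true), (Gen.b, true), (Gen.c, true), (Gen.d, true), (Gen.e, true), (Gen.f, true), (Gen.g, true), (Gen.h, true), (Gen.b, true), (Gen.c, true), (Gen.d, true), (Gen.e, true), (Gen.f, true), (Gen.g, true), (Gen.h, true), (Gen.b, true), (Gen.c, true), (Gen.d, true), (Gen.e, true), (Gen.f, true), (Gen.g, true), (Gen.h, true), (Gen.b, true), (Gen.c, true), (Gen.d, true), (Gen.e, true), (Gen.f, true), (Gen.g, true), (Gen.h, true), (Gen.b, true), (Gen.c, true), (Gen.d, true), (Gen.e, true), (Gen.f, true), (Gen.g, true), (Gen.h, true), (Gen.b, true),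 (Gen.c, true), (Gen.d, true), (Gen.e, true), (Gen.f, true), (Gen.g, true), (Gen.h, true), (Gen.b, true), (Gen.c, true), (Gen.d, true), (Gen.e, true), (Gen.f, true), (Gen.g, true), (Gen.h, true), (Gen.b, true), (Gen.c, true), (Gen.d, true), (Gen.e, true), (Gen.f, true)] 5 (by decide +kernel) relone_38
theorem RW_76 : wG D.rels [(Gen.h, true), (Gen.h, true)] = 1 :=
  wG_of_rotate D.rels R7 [(Gen.h, true), (Gen.h, true)] 0 (by decide +kernel) relone_7
theorem RW_77 : wG D.rels [(Gen.h, true), (Gen.g, true), (Gen.f, true), (Gen.e, true), (Gen.d, true), (Gen.c, true), (Gen.b, true), (Gen.h, true), (Gen.g, true), (Gen.f, true), (Gen.e, true), (Gen.d, true), (Gen.c, true), (Gen.b, true), (Gen.h, true), (Gen.g, true), (Gen.f, true), (Gen.e, true), (Gen.d, true), (Gen.c, true), (Gen.b, true), (Gen.h, true), (Gen.g, true), (Gen.f, true), (Gen.e, true), (Gen.d, true), (Gen.c, true), (Gen.b, true), (Gen.h, true), (Gen.g, true), (Gen.f, true), (Gen.e, true), (Gen.d, true), (Gen.c, true), (Gen.b, true), (Gen.h, true),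 (Gen.g, true), (Gen.f, true), (Gen.e, true), (Gen.d, true), (Gen.c, true), (Gen.b, true), (Gen.h, true), (Gen.g, true), (Gen.f, true), (Gen.e, true), (Gen.d, true), (Gen.c, true), (Gen.b, true), (Gen.h, true), (Gen.g, true), (Gen.f, true), (Gen.e, true), (Gen.d, true), (Gen.c, true), (Gen.b, true), (Gen.h, true), (Gen.g, true), (Gen.f, true), (Gen.e, true), (Gen.d, true), (Gen.c, true), (Gen.b, true)] = 1 :=
  wG_of_rotate D.rels RV38 [(Gen.h, true), (Gen.g, true), (Gen.f, true), (Gen.e, true), (Gen.d, true), (Gen.c, true), (Gen.b, true), (Gen.h, true), (Gen.g, true), (Gen.f, true), (Gen.e, true), (Gen.d, true), (Gen.c, true), (Gen.b, true), (Gen.h, true), (Gen.g, true), (Gen.f, true), (Gen.e, true), (Gen.d, true), (Gen.c, true), (Gen.b, true), (Gen.h, true), (Gen.g, true), (Gen.f, true), (Gen.e, true), (Gen.d, true), (Gen.c, true), (Gen.b, true), (Gen.h, true), (Gen.g, true), (Gen.f, true), (Gen.e, true), (Gen.d, true), (Gen.c, true), (Gen.b, true), (Gen.h, true), (Gen.g, true), (Gen.f, true), (Gen.e,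 true), (Gen.d, true), (Gen.c, true), (Gen.b, true), (Gen.h, true), (Gen.g, true), (Gen.f, true), (Gen.e, true), (Gen.d, true), (Gen.c, true), (Gen.b, true), (Gen.h, true), (Gen.g, true), (Gen.f, true), (Gen.e, true), (Gen.d, true), (Gen.c, true), (Gen.b, true), (Gen.h, true), (Gen.g, true), (Gen.f, true), (Gen.e, true), (Gen.d, true), (Gen.c, true), (Gen.b, true)] 0 (by decide +kernel) relrev_38
theorem RW_78 : wG D.rels [(Gen.h, true), (Gen.b, true), (Gen.c, true), (Gen.d, true), (Gen.e, true), (Gen.f, true), (Gen.g, true), (Gen.h, true), (Gen.b, true), (Gen.c, true), (Gen.d, true), (Gen.e, true), (Gen.f, true), (Gen.g, true), (Gen.h, true), (Gen.b, true), (Gen.c, true), (Gen.d, true), (Gen.e, true), (Gen.f, true), (Gen.g, true), (Gen.h, true), (Gen.b, true), (Gen.c, true), (Gen.d, true), (Gen.e, true), (Gen.f, true), (Gen.g, true), (Gen.h, true), (Gen.b, true), (Gen.c, true), (Gen.d, true), (Gen.e, true), (Gen.f, true), (Gen.g, true), (Gen.h, true), (Gen.b, true), (Gen.c, true), (Gen.d, true), (Gen.e,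 true), (Gen.f, true), (Gen.g, true), (Gen.h, true), (Gen.b, true), (Gen.c, true), (Gen.d, true), (Gen.e, true), (Gen.f, true), (Gen.g, true), (Gen.h, true), (Gen.b, true), (Gen.c, true), (Gen.d, true), (Gen.e, true), (Gen.f, true), (Gen.g, true), (Gen.h, true), (Gen.b, true), (Gen.c, true), (Gen.d, true), (Gen.e, true), (Gen.f, true), (Gen.g, true)] = 1 :=
  wG_of_rotate D.rels R38 [(Gen.h, true), (Gen.b, true), (Gen.c, true), (Gen.d, true), (Gen.e, true), (Gen.f, true), (Gen.g, true), (Gen.h, true), (Gen.b, true), (Gen.c, true), (Gen.d, true), (Gen.e, true), (Gen.f, true), (Gen.g, true), (Gen.h, true), (Gen.b, true), (Gen.c, true), (Gen.d, true), (Gen.e, true), (Gen.f, true), (Gen.g, true), (Gen.h, true), (Gen.b, true), (Gen.c, true), (Gen.d, true), (Gen.e, true), (Gen.f, true), (Gen.g, true), (Gen.h, true), (Gen.b, true), (Gen.c, true), (Gen.d, true), (Gen.e, true), (Gen.f, true), (Gen.g, true), (Gen.h, true), (Gen.b, true), (Gen.c, true), (Gen.d, true), (Gen.e, true), (Gen.f, true), (Gen.g, true), (Gen.h,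 true), (Gen.b, true), (Gen.c, true), (Gen.d, true), (Gen.e, true), (Gen.f, true), (Gen.g, true), (Gen.h, true), (Gen.b, true), (Gen.c, true), (Gen.d, true), (Gen.e, true), (Gen.f, true), (Gen.g, true), (Gen.h, true), (Gen.b, true), (Gen.c, true), (Gen.d, true), (Gen.e, true), (Gen.f, true), (Gen.g, true)] 6 (by decide +kernel) relone_38
theorem RW_79 : wG D.rels [(Gen.i, true), (Gen.i, true)] = 1 :=
  wG_of_rotate D.rels R8 [(Gen.i, true), (Gen.i, true)] 0 (by decide +kernel) relone_8
theorem RW_80 : wG D.rels [(Gen.i, true), (Gen.d, true), (Gen.c, true), (Gen.b, true), (Gen.d, true), (Gen.e, true), (Gen.f, true), (Gen.d, true), (Gen.h, true), (Gen.i, true), (Gen.d, true), (Gen.c, true), (Gen.b, true), (Gen.d, true), (Gen.e, true), (Gen.f, true), (Gen.d, true), (Gen.h, true), (Gen.i, true), (Gen.d, true), (Gen.c, true), (Gen.b, true), (Gen.d, true), (Gen.e, true), (Gen.f, true), (Gen.d, true), (Gen.h, true), (Gen.i, true), (Gen.d, true), (Gen.c, true), (Gen.b, true), (Gen.d, true), (Gen.e, true), (Gen.f,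 true), (Gen.d, true), (Gen.h, true), (Gen.i, true), (Gen.d, true), (Gen.c, true), (Gen.b, true), (Gen.d, true), (Gen.e, true), (Gen.f, true), (Gen.d, true), (Gen.h, true), (Gen.i, true), (Gen.d, true), (Gen.c, true), (Gen.b, true), (Gen.d, true), (Gen.e, true), (Gen.f, true), (Gen.d, true), (Gen.h, true), (Gen.i, true), (Gen.d, true), (Gen.c, true), (Gen.b, true), (Gen.d, true), (Gen.e, true), (Gen.f, true), (Gen.d, true), (Gen.h, true), (Gen.i, true), (Gen.d, true), (Gen.c, true), (Gen.b, true), (Gen.d, true), (Gen.e, true), (Gen.f, true), (Gen.d, true), (Gen.h, true), (Gen.i, true), (Gen.d, true), (Gen.c, true), (Gen.b, true), (Gen.d, true), (Gen.e, true), (Gen.f, true), (Gen.d, true), (Gen.h, true), (Gen.i, true), (Gen.d, true), (Gen.c, true), (Gen.b, true), (Gen.d, true), (Gen.e, true), (Gen.f, true), (Gen.d, true), (Gen.h, true)] = 1 :=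
  wG_of_rotate D.rels R37 [(Gen.i, true), (Gen.d, true), (Gen.c, true), (Gen.b, true), (Gen.d, true), (Gen.e, true), (Gen.f, true), (Gen.d, true), (Gen.h, true), (Gen.i, true), (Gen.d, true), (Gen.c, true), (Gen.b, true), (Gen.d, true), (Gen.e, true), (Gen.f, true), (Gen.d, true), (Gen.h, true), (Gen.i, true), (Gen.d, true), (Gen.c, true), (Gen.b, true), (Gen.d, true), (Gen.e, true), (Gen.f, true), (Gen.d, true), (Gen.h, true), (Gen.i, true), (Gen.d, true), (Gen.c, true), (Gen.b, true), (Gen.d, true), (Gen.e, true), (Gen.f, true), (Gen.d, true), (Gen.h, true), (Gen.i, true), (Gen.d, true), (Gen.c, true), (Gen.b, true), (Gen.d, true), (Gen.e, true), (Gen.f, true), (Gen.d, true), (Gen.h, true), (Gen.i, true), (Gen.d, true), (Gen.c, true), (Gen.b, true), (Gen.d, true), (Gen.e, true), (Gen.f, true), (Gen.d, true), (Gen.h, true), (Gen.i, true), (Gen.d, true), (Gen.c, true), (Gen.b, true), (Gen.d, true), (Gen.e, true), (Gen.f, true), (Gen.d, true), (Gen.h, true), (Gen.i, true), (Gen.d, true), (Gen.c, true), (Gen.b,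 true), (Gen.d, true), (Gen.e, true), (Gen.f, true), (Gen.d, true), (Gen.h, true), (Gen.i, true), (Gen.d, true), (Gen.c, true), (Gen.b, true), (Gen.d, true), (Gen.e, true), (Gen.f, true), (Gen.d, true), (Gen.h, true), (Gen.i, true), (Gen.d, true), (Gen.c, true), (Gen.b, true), (Gen.d, true), (Gen.e, true), (Gen.f, true), (Gen.d, true), (Gen.h, true)] 8 (by decide +kernel) relone_37
theorem RW_81 : wG D.rels [(Gen.i, true), (Gen.h, true), (Gen.d, true), (Gen.f, true), (Gen.e, true), (Gen.d, true), (Gen.b, true), (Gen.c, true), (Gen.d, true), (Gen.i, true), (Gen.h, true), (Gen.d, true), (Gen.f, true), (Gen.e, true), (Gen.d, true), (Gen.b, true), (Gen.c, true), (Gen.d, true), (Gen.i, true), (Gen.h, true), (Gen.d, true), (Gen.f, true), (Gen.e, true), (Gen.d, true), (Gen.b, true), (Gen.c, true), (Gen.d, true), (Gen.i, true), (Gen.h, true), (Gen.d, true), (Gen.f, true), (Gen.e, true), (Gen.d, true), (Gen.b, true), (Gen.c, true), (Gen.d, true), (Gen.i, true), (Gen.h, true), (Gen.d, true), (Gen.f, true), (Gen.e,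 true), (Gen.d, true), (Gen.b, true), (Gen.c, true), (Gen.d, true), (Gen.i, true), (Gen.h, true), (Gen.d, true), (Gen.f, true), (Gen.e, true), (Gen.d, true), (Gen.b, true), (Gen.c, true), (Gen.d, true), (Gen.i, true), (Gen.h, true), (Gen.d, true), (Gen.f, true), (Gen.e, true), (Gen.d, true), (Gen.b, true), (Gen.c, true), (Gen.d, true), (Gen.i, true), (Gen.h, true), (Gen.d, true), (Gen.f, true), (Gen.e, true), (Gen.d, true), (Gen.b, true), (Gen.c, true), (Gen.d, true), (Gen.i, true), (Gen.h, true), (Gen.d, true), (Gen.f, true), (Gen.e, true), (Gen.d, true), (Gen.b, true), (Gen.c, true), (Gen.d, true), (Gen.i, true), (Gen.h, true), (Gen.d, true), (Gen.f, true), (Gen.e, true), (Gen.d, true), (Gen.b, true), (Gen.c, true), (Gen.d, true)] = 1 :=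
  wG_of_rotate D.rels RV37 [(Gen.i, true), (Gen.h, true), (Gen.d, true), (Gen.f, true), (Gen.e, true), (Gen.d, true), (Gen.b, true), (Gen.c, true), (Gen.d, true), (Gen.i, true), (Gen.h, true), (Gen.d, true), (Gen.f, true), (Gen.e, true), (Gen.d, true), (Gen.b, true), (Gen.c, true), (Gen.d, true), (Gen.i, true), (Gen.h, true), (Gen.d, true), (Gen.f, true), (Gen.e, true), (Gen.d, true), (Gen.b, true), (Gen.c, true), (Gen.d, true), (Gen.i, true), (Gen.h, true), (Gen.d, true), (Gen.f, true), (Gen.e, true), (Gen.d, true), (Gen.b, true), (Gen.c, true), (Gen.d, true), (Gen.i, true), (Gen.h, true), (Gen.d, true), (Gen.f, true), (Gen.e, true), (Gen.d, true), (Gen.b, true), (Gen.c, true), (Gen.d, true), (Gen.i, true), (Gen.h, true), (Gen.d, true), (Gen.f, true), (Gen.e, true), (Gen.d, true), (Gen.b, true), (Gen.c, true), (Gen.d, true), (Gen.i, true), (Gen.h, true), (Gen.d, true), (Gen.f, true), (Gen.e, true), (Gen.d, true), (Gen.b, true), (Gen.c, true), (Gen.d, true), (Gen.i, true), (Gen.h, true), (Gen.d, true),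 (Gen.f, true), (Gen.e, true), (Gen.d, true), (Gen.b, true), (Gen.c, true), (Gen.d, true), (Gen.i, true), (Gen.h, true), (Gen.d, true), (Gen.f, true), (Gen.e, true), (Gen.d, true), (Gen.b, true), (Gen.c, true), (Gen.d, true), (Gen.i, true), (Gen.h, true), (Gen.d, true), (Gen.f, true), (Gen.e, true), (Gen.d, true), (Gen.b, true), (Gen.c, true), (Gen.d, true)] 0 (by decide +kernel) relrev_37
def certL_a : List (Cert D.rels D.S Gen.a) :=
  [Cert.tree,
   Cert.rel true [] relone_0]
def ct_a : Nat := 15588602863901984811325146708230694950436511718405874644923612942258237040027661718738113882596299691641074608178305950248400962874120266469192494351630998545265460623477199910800476696222114380443427530638394085300869668480327252853983346869974048071760042858882798198220295397415306399977415790894236986880477929402696936518752234283974203192577307505610038951505989882658768817114791363015178898166271533151546207754334615566039314906367498947759620231937648133820686061300804180460128960496497668100006669363559339288880840639476333749157963720841752957712846675445612052080313161379690930859747403082259730509839212812926054068229470445625994462345702474655039879990611890925970959068207686196692887149468317513164691899262908896730920917914678552793448503818133836049095581737970452241217458971186800266435684018981365259654538887393038032089772002027642819476377895169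
def certL_b : List (Cert D.rels D.S Gen.b) :=
  [Cert.tree,
   Cert.sub true [] [] (D.sub_mem Gen.b (by decide)),
   Cert.rel true [(Gen.g, true), (Gen.b, true), (Gen.g, true)] RW_32,
   Cert.rel true [(Gen.f, true), (Gen.b, true), (Gen.f, true)] RW_31,
   Cert.rel true [(Gen.e, true), (Gen.b, true), (Gen.e, true)] RW_30,
   Cert.rel true [(Gen.d, true), (Gen.b, true), (Gen.d, true)] RW_26,
   Cert.rel true [(Gen.h, true), (Gen.b, true), (Gen.h, true)] RW_34,
   Cert.rel true [(Gen.b, true)] RW_64,
   Cert.rel true [(Gen.i, true), (Gen.b, true), (Gen.i, true)] RW_62,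
   Cert.rel true [(Gen.c, true), (Gen.b, true), (Gen.c, true), (Gen.b, true), (Gen.c, true)] RW_19,
   Cert.rel true [(Gen.c, true), (Gen.d, true), (Gen.e, true), (Gen.f, true), (Gen.g, true), (Gen.h, true), (Gen.b, true), (Gen.c, true), (Gen.d, true), (Gen.e, true), (Gen.f, true), (Gen.g, true), (Gen.h, true), (Gen.b, true), (Gen.c, true), (Gen.d, true), (Gen.e, true), (Gen.f, true), (Gen.g, true), (Gen.h, true), (Gen.b, true), (Gen.c, true), (Gen.d, true), (Gen.e, true), (Gen.f, true), (Gen.g, true), (Gen.h, true), (Gen.b, true), (Gen.c, true), (Gen.d, true), (Gen.e, true), (Gen.f, true), (Gen.g, true), (Gen.h, true), (Gen.b, true), (Gen.c, true), (Gen.d, true), (Gen.e, true), (Gen.f, true), (Gen.g, true), (Gen.h, true), (Gen.b, true), (Gen.c, true), (Gen.d, true), (Gen.e, true), (Gen.f, true), (Gen.g, true), (Gen.h, true), (Gen.b, true), (Gen.c, true), (Gen.d, true), (Gen.e, true), (Gen.f, true), (Gen.g, true), (Gen.h, true), (Gen.b, true), (Gen.c, true), (Gen.d, true), (Gen.e, true), (Gen.f, true),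 (Gen.g, true), (Gen.h, true)] RW_36,
   Cert.rel true [(Gen.h, true), (Gen.g, true), (Gen.f, true), (Gen.e, true), (Gen.d, true), (Gen.c, true), (Gen.b, true), (Gen.h, true), (Gen.g, true), (Gen.f, true), (Gen.e, true), (Gen.d, true), (Gen.c, true), (Gen.b, true), (Gen.h, true), (Gen.g, true), (Gen.f, true), (Gen.e, true), (Gen.d, true), (Gen.c, true), (Gen.b, true), (Gen.h, true), (Gen.g, true), (Gen.f, true), (Gen.e, true), (Gen.d, true), (Gen.c, true), (Gen.b, true), (Gen.h, true), (Gen.g, true), (Gen.f, true), (Gen.e, true), (Gen.d, true), (Gen.c, true), (Gen.b, true), (Gen.h, true), (Gen.g, true), (Gen.f, true), (Gen.e, true), (Gen.d, true), (Gen.c, true), (Gen.b, true), (Gen.h, true), (Gen.g, true), (Gen.f, true), (Gen.e, true), (Gen.d, true), (Gen.c, true), (Gen.b, true), (Gen.h, true), (Gen.g, true), (Gen.f, true), (Gen.e, true), (Gen.d, true), (Gen.c, true), (Gen.b, true), (Gen.h, true), (Gen.g, true), (Gen.f, true), (Gen.e, true), (Gen.d, true), (Gen.c, true)] RW_65]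
def ct_b : Nat := 77882358273622605211092425455732603816779422541256259776511862600240409297048252603501744547081521113077665869342018697965525880243601339944070282376101840430436302852139896282908190843753239661925173546087737875907661926476873224322563822350571139574091908148236301727438946866667630239106823581007513551437932405124762863021644117077277489530584586019368344210613558885936704919005881085925126855306933464829293120753402252131765149112990046584550833882192341626298710525336436943246164489374935003704024277840763084502336285817874238931853571059272637314205467568369520930886558303525038092437300364885860218480316865765896494358618849821313942972395172737381821233353328848022829487868180664953081020585772175409608890144260190146436766128081401552063643081491932342252375140826356759371599025197082034753336427497486803570001888012042779001158936075011836322562405761537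
def certL_c : List (Cert D.rels D.S Gen.c) :=
  [Cert.tree,
   Cert.sub true [] [] (D.sub_mem Gen.c (by decide)),
   Cert.rel true [(Gen.g, true), (Gen.c, true), (Gen.g, true)] RW_16,
   Cert.rel true [(Gen.f, true), (Gen.c, true), (Gen.f, true)] RW_50,
   Cert.rel true [(Gen.e, true), (Gen.c, true), (Gen.e, true)] RW_13,
   Cert.rel true [(Gen.c, true)] RW_66,
   Cert.rel true [(Gen.h, true), (Gen.c, true), (Gen.h, true)] RW_51,
   Cert.rel true [(Gen.b, true), (Gen.c, true), (Gen.b, true), (Gen.c, true), (Gen.b, true)] RW_55,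
   Cert.rel true [(Gen.i, true), (Gen.c, true), (Gen.i, true)] RW_52,
   Cert.rel true [(Gen.d, true), (Gen.c, true), (Gen.d, true), (Gen.c, true), (Gen.d, true)] RW_20,
   Cert.rel true [(Gen.b, true), (Gen.h, true), (Gen.g, true), (Gen.f, true), (Gen.e, true), (Gen.d, true), (Gen.c, true), (Gen.b, true), (Gen.h, true), (Gen.g, true), (Gen.f, true), (Gen.e, true), (Gen.d, true), (Gen.c, true), (Gen.b, true), (Gen.h, true), (Gen.g, true), (Gen.f, true), (Gen.e, true), (Gen.d, true), (Gen.c, true), (Gen.b, true), (Gen.h, true), (Gen.g, true), (Gen.f, true), (Gen.e, true), (Gen.d, true), (Gen.c, true), (Gen.b, true), (Gen.h, true), (Gen.g, true), (Gen.f, true), (Gen.e, true), (Gen.d, true), (Gen.c, true), (Gen.b, true), (Gen.h, true), (Gen.g, true), (Gen.f, true), (Gen.e, true), (Gen.d, true), (Gen.c, true), (Gen.b, true), (Gen.h, true), (Gen.g, true), (Gen.f, true), (Gen.e, true), (Gen.d, true), (Gen.c, true), (Gen.b, true), (Gen.h, true), (Gen.g, true), (Gen.f, true), (Gen.e, true), (Gen.d, true), (Gen.c,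 true), (Gen.b, true), (Gen.h, true), (Gen.g, true), (Gen.f, true), (Gen.e, true), (Gen.d, true)] RW_67,
   Cert.rel true [(Gen.d, true), (Gen.e, true), (Gen.f, true), (Gen.g, true), (Gen.h, true), (Gen.b, true), (Gen.c, true), (Gen.d, true), (Gen.e, true), (Gen.f, true), (Gen.g, true), (Gen.h, true), (Gen.b, true), (Gen.c, true), (Gen.d, true), (Gen.e, true), (Gen.f, true), (Gen.g, true), (Gen.h, true), (Gen.b, true), (Gen.c, true), (Gen.d, true), (Gen.e, true), (Gen.f, true), (Gen.g, true), (Gen.h, true), (Gen.b, true), (Gen.c, true), (Gen.d, true), (Gen.e, true), (Gen.f, true), (Gen.g, true), (Gen.h, true), (Gen.b, true), (Gen.c, true), (Gen.d, true), (Gen.e, true), (Gen.f, true), (Gen.g, true), (Gen.h, true), (Gen.b, true), (Gen.c, true), (Gen.d, true), (Gen.e, true), (Gen.f, true), (Gen.g, true), (Gen.h, true), (Gen.b, true), (Gen.c, true), (Gen.d, true), (Gen.e, true), (Gen.f, true), (Gen.g, true), (Gen.h, true), (Gen.b, true), (Gen.c, true), (Gen.d, true), (Gen.e, true), (Gen.f, true), (Gen.g, true),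 (Gen.h, true), (Gen.b, true)] RW_54]
def ct_c : Nat := 139992960875432277665285632179639398793635460747402062522052172927504520179539616955518297535171059397563042849566715575160598020433363368399876570257619014828979923747590212876984931897353468813378391399131475376768456705942511928466900591862768263878530771569933013863234672066127058398576245403726255033685476282919518559094141094175679626255111732392937733507572547058557835338184558788835032604372463219711327005512903752645348586622566798504424925906520100621228114243505464725157909437923128523991829419074133759136622387230396545298733190683989173953218253020736629513701395770440193218045187263192674858255788549076324952304624673653005731341591513271971885592203697175546389670440675158163198931372179868064299202374697290779848870541486720362113544187086265892905642536159542146673522184945931542087819220289815625403511399530141209553736278573763414506549547303425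
def certL_d : List (Cert D.rels D.S Gen.d) :=
  [Cert.tree,
   Cert.sub true [] [] (D.sub_mem Gen.d (by decide)),
   Cert.rel true [(Gen.g, true), (Gen.d, true), (Gen.g, true)] RW_4,
   Cert.rel true [(Gen.f, true), (Gen.d, true), (Gen.f, true)] RW_40,
   Cert.rel true [(Gen.d, true)] RW_68,
   Cert.rel true [(Gen.c, true), (Gen.d, true), (Gen.c, true), (Gen.d, true), (Gen.c, true)] RW_56,
   Cert.rel true [(Gen.h, true), (Gen.d, true), (Gen.h, true), (Gen.d, true), (Gen.h, true)] RW_39,
   Cert.rel true [(Gen.b, true), (Gen.d, true), (Gen.b, true)] RW_9,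
   Cert.rel true [(Gen.i, true), (Gen.d, true), (Gen.i, true)] RW_46,
   Cert.rel true [(Gen.e, true), (Gen.d, true), (Gen.e, true), (Gen.d, true), (Gen.e, true)] RW_15,
   Cert.rel true [(Gen.c, true), (Gen.b, true), (Gen.h, true), (Gen.g, true), (Gen.f, true), (Gen.e, true), (Gen.d, true), (Gen.c, true), (Gen.b, true), (Gen.h, true), (Gen.g, true), (Gen.f, true), (Gen.e, true), (Gen.d, true), (Gen.c, true), (Gen.b, true), (Gen.h, true), (Gen.g, true), (Gen.f, true), (Gen.e, true), (Gen.d, true), (Gen.c, true), (Gen.b, true), (Gen.h, true), (Gen.g, true), (Gen.f, true), (Gen.e, true), (Gen.d, true), (Gen.c, true), (Gen.b, true), (Gen.h, true), (Gen.g, true), (Gen.f, true), (Gen.e, true), (Gen.d, true), (Gen.c, true), (Gen.b, true), (Gen.h, true), (Gen.g, true), (Gen.f, true), (Gen.e, true), (Gen.d, true), (Gen.c, true), (Gen.b, true), (Gen.h, true), (Gen.g, true), (Gen.f, true), (Gen.e, true), (Gen.d, true), (Gen.c, true), (Gen.b, true), (Gen.h, true), (Gen.g, true), (Gen.f, true), (Gen.e, true), (Gen.d,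 true), (Gen.c, true), (Gen.b, true), (Gen.h, true), (Gen.g, true), (Gen.f, true), (Gen.e, true)] RW_69]
def ct_d : Nat := 62658868018336062857108671572017659429661047540525847299756729726904059809364414948711867632845497288859346098129648530786225104232096856524977463101356999103950427417062132152524933861400886805613905910314522552700205856537228076191871116197701889059332464633821313648078562791880240976819992134756524573887883869439119159666032455343660079246550664514019536717991290735048759424546684689440147017529466873031359111833133555095757563708663732689256970313277115019767350368029575185493274702022999412373202538020743714320979885578517746700539570426551742258028612876329089657547330778905326047543680826998436870480715531362775524470654332137567475662394091675224488249492563713481789179426255466660040214053941885553046672864875570031834262427014862760032033746514344032260524141874217230467205915148420563405201833538876775422554497334267244972596417212576169144937336734209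
def certL_e : List (Cert D.rels D.S Gen.e) :=
  [Cert.tree,
   Cert.sub true [] [] (D.sub_mem Gen.e (by decide)),
   Cert.rel true [(Gen.g, true), (Gen.e, true), (Gen.g, true)] RW_17,
   Cert.rel true [(Gen.e, true)] RW_70,
   Cert.rel true [(Gen.d, true), (Gen.e, true), (Gen.d, true), (Gen.e, true), (Gen.d, true)] RW_21,
   Cert.rel true [(Gen.c, true), (Gen.e, true), (Gen.c, true)] RW_43,
   Cert.rel true [(Gen.h, true), (Gen.e, true), (Gen.h, true)] RW_42,
   Cert.rel true [(Gen.b, true), (Gen.e, true), (Gen.b, true)] RW_12,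
   Cert.rel true [(Gen.i, true), (Gen.e, true), (Gen.i, true)] RW_44,
   Cert.rel true [(Gen.f, true), (Gen.e, true), (Gen.f, true), (Gen.e, true), (Gen.f, true)] RW_24,
   Cert.rel true [(Gen.d, true), (Gen.b, true), (Gen.c, true), (Gen.d, true), (Gen.i, true), (Gen.h, true), (Gen.d, true), (Gen.f, true), (Gen.e, true), (Gen.d, true), (Gen.b, true), (Gen.c, true), (Gen.d, true), (Gen.i, true), (Gen.h, true), (Gen.d, true), (Gen.f, true), (Gen.e, true), (Gen.d, true), (Gen.b, true), (Gen.c, true), (Gen.d, true), (Gen.i, true), (Gen.h, true), (Gen.d, true), (Gen.f, true), (Gen.e, true), (Gen.d, true), (Gen.b, true), (Gen.c, true), (Gen.d, true), (Gen.i, true), (Gen.h, true), (Gen.d, true), (Gen.f, true), (Gen.e, true), (Gen.d, true), (Gen.b, true), (Gen.c, true), (Gen.d, true), (Gen.i, true), (Gen.h, true), (Gen.d, true), (Gen.f, true), (Gen.e, true), (Gen.d, true), (Gen.b, true), (Gen.c, true), (Gen.d, true), (Gen.i, true), (Gen.h, true), (Gen.d, true), (Gen.f, true), (Gen.e, true), (Gen.d, true), (Gen.b,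 true), (Gen.c, true), (Gen.d, true), (Gen.i, true), (Gen.h, true), (Gen.d, true), (Gen.f, true), (Gen.e, true), (Gen.d, true), (Gen.b, true), (Gen.c, true), (Gen.d, true), (Gen.i, true), (Gen.h, true), (Gen.d, true), (Gen.f, true), (Gen.e, true), (Gen.d, true), (Gen.b, true), (Gen.c, true), (Gen.d, true), (Gen.i, true), (Gen.h, true), (Gen.d, true), (Gen.f, true), (Gen.e, true), (Gen.d, true), (Gen.b, true), (Gen.c, true), (Gen.d, true), (Gen.i, true), (Gen.h, true), (Gen.d, true), (Gen.f, true)] RW_71]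
def ct_e : Nat := 62293518475670822114596207098115255316934482007699084076896821166438979055407642494595951276076558025792159316818787609026626769621458203552761179827747028825382008444467105431245668481602705266234582031185820217049976363043065697397077860171864833377792236838887405435852287809000709205389753450346748860685711068053383807458854946162937917982912545345088353136045111749814385094038340489017011507356237087283031456170172454304126104200920887495028194736789938329849094089317488682085038630214887551052898291236165390600449798419421865349762654425181005128766377107071560018923837068350310031033993888594211278920548106660092563548082663158382064125978290996124632882344687843475150872829214060778389776335949667382054976528193585215107794548496874171771559687592228380957726630040894291837040996676447320926091650799470488285335386039053428353458032940531068513442508833281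
def certL_f : List (Cert D.rels D.S Gen.f) :=
  [Cert.tree,
   Cert.sub true [] [] (D.sub_mem Gen.f (by decide)),
   Cert.rel true [(Gen.f, true)] RW_72,
   Cert.rel true [(Gen.e, true), (Gen.f, true), (Gen.e, true), (Gen.f, true), (Gen.e, true)] RW_38,
   Cert.rel true [(Gen.d, true), (Gen.f, true), (Gen.d, true)] RW_27,
   Cert.rel true [(Gen.c, true), (Gen.f, true), (Gen.c, true)] RW_0,
   Cert.rel true [(Gen.h, true), (Gen.f, true), (Gen.h, true)] RW_35,
   Cert.rel true [(Gen.b, true), (Gen.f, true), (Gen.b, true)] RW_5,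
   Cert.rel true [(Gen.i, true), (Gen.f, true), (Gen.i, true)] RW_48,
   Cert.rel true [(Gen.g, true), (Gen.f, true), (Gen.g, true), (Gen.f, true), (Gen.g, true)] RW_33]
def ct_f : Nat := 62536140808187120886503922011046020530112963490954348163809816506417429049016407366006563394460073098243032098735796306223719971428899618753749483450173384267944639618812201960633407514691298876867619740517084538640762656048537353478485572131442590204981282764152520162336906659417156250400359069541707673201378982276773408218087108155695241468546056597891327275886503468028031056910514512565971165613343149463675348973965746796005220581231203280219116684845299287282414383559334588305148596017479890256816047669803906007157184001853034631436455986737061120057134094435037389184083769953499291443067417048838671689771823923569272501825027407096804465600547246271561593683608494337247524700019896159714525831738566154405683093988851207296597988746173301052238849495527383135964457464779869565946201778162406952467894526693379711696570723075200465522695393710956418090433380353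
def certL_g : List (Cert D.rels D.S Gen.g) :=
  [Cert.tree,
   Cert.rel true [(Gen.g, true)] RW_73,
   Cert.rel true [(Gen.f, true), (Gen.g, true), (Gen.f, true), (Gen.g, true), (Gen.f, true)] RW_25,
   Cert.rel true [(Gen.e, true), (Gen.g, true), (Gen.e, true)] RW_14,
   Cert.rel true [(Gen.d, true), (Gen.g, true), (Gen.d, true)] RW_28,
   Cert.rel true [(Gen.c, true), (Gen.g, true), (Gen.c, true)] RW_1,
   Cert.rel true [(Gen.h, true), (Gen.g, true), (Gen.h, true)] RW_41,
   Cert.rel true [(Gen.b, true), (Gen.g, true), (Gen.b, true)] RW_6,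
   Cert.rel true [(Gen.i, true), (Gen.g, true), (Gen.i, true)] RW_74,
   Cert.rel true [(Gen.f, true), (Gen.e, true), (Gen.d, true), (Gen.c, true), (Gen.b, true), (Gen.h, true), (Gen.g, true), (Gen.f, true), (Gen.e, true), (Gen.d, true), (Gen.c, true), (Gen.b, true), (Gen.h, true), (Gen.g, true), (Gen.f, true), (Gen.e, true), (Gen.d, true), (Gen.c, true), (Gen.b, true), (Gen.h, true), (Gen.g, true), (Gen.f, true), (Gen.e, true), (Gen.d, true), (Gen.c, true), (Gen.b, true), (Gen.h, true), (Gen.g, true), (Gen.f, true), (Gen.e, true), (Gen.d, true), (Gen.c, true), (Gen.b, true), (Gen.h, true), (Gen.g, true), (Gen.f, true), (Gen.e, true), (Gen.d, true), (Gen.c, true), (Gen.b, true), (Gen.h, true), (Gen.g, true), (Gen.f, true), (Gen.e, true), (Gen.d, true), (Gen.c, true), (Gen.b, true), (Gen.h, true), (Gen.g, true), (Gen.f, true), (Gen.e, true), (Gen.d, true), (Gen.c, true), (Gen.b, true), (Gen.h, true), (Gen.g, true), (Gen.f, true), (Gen.e, true), (Gen.d, true), (Gen.c, true), (Gen.b, true), (Gen.h, true)]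 RW_61,
   Cert.rel true [(Gen.h, true), (Gen.b, true), (Gen.c, true), (Gen.d, true), (Gen.e, true), (Gen.f, true), (Gen.g, true), (Gen.h, true), (Gen.b, true), (Gen.c, true), (Gen.d, true), (Gen.e, true), (Gen.f, true), (Gen.g, true), (Gen.h, true), (Gen.b, true), (Gen.c, true), (Gen.d, true), (Gen.e, true), (Gen.f, true), (Gen.g, true), (Gen.h, true), (Gen.b, true), (Gen.c, true), (Gen.d, true), (Gen.e, true), (Gen.f, true), (Gen.g, true), (Gen.h, true), (Gen.b, true), (Gen.c, true), (Gen.d, true), (Gen.e, true), (Gen.f, true), (Gen.g, true), (Gen.h, true), (Gen.b, true), (Gen.c, true), (Gen.d, true), (Gen.e, true), (Gen.f, true), (Gen.g, true), (Gen.h, true), (Gen.b, true), (Gen.c, true), (Gen.d, true), (Gen.e, true), (Gen.f, true), (Gen.g, true), (Gen.h, true), (Gen.b, true), (Gen.c, true), (Gen.d, true), (Gen.e, true), (Gen.f, true), (Gen.g, true), (Gen.h, true), (Gen.b, true), (Gen.c, true), (Gen.d, true), (Gen.e, true), (Gen.f, true)] RW_75]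
def ct_g : Nat := 62536140808116343543163193259959005371838592447757882628810641734668788036691317357004094775416197150439681327056622019991905300774869398893680716661097023618930030953606779162418155042513101932938706375088658926196023657822958380955681283258417170066687840708460759003733627426571921957441970532781372326085556110888168007942294670108198710547817601005209006656674126345871883041810438671683695571043343207671829926442297911903815409095701790668578314359198243589632234464705811640533708975905407046080594614054950580316886707426068236961027494606537318389369045532359664796033541757203672194283721153789573450012251998232275566579454838285755617209294020846369846572574133587416824533729033164386371419841498771600223490709993662928322135207840497415501995360370298019815502872630059732354036385043788143888821611372941812687071579151002531738922827957803847082585249415424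
def certL_h : List (Cert D.rels D.S Gen.h) :=
  [Cert.tree,
   Cert.sub true [] [] (D.sub_mem Gen.h (by decide)),
   Cert.rel true [(Gen.g, true), (Gen.h, true), (Gen.g, true)] RW_18,
   Cert.rel true [(Gen.f, true), (Gen.h, true), (Gen.f, true)] RW_22,
   Cert.rel true [(Gen.e, true), (Gen.h, true), (Gen.e, true)] RW_10,
   Cert.rel true [(Gen.h, true)] RW_76,
   Cert.rel true [(Gen.i, true), (Gen.h, true), (Gen.i, true), (Gen.h, true), (Gen.i, true)] RW_47,
   Cert.rel true [(Gen.d, true), (Gen.h, true), (Gen.d, true), (Gen.h, true), (Gen.d, true)] RW_59,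
   Cert.rel true [(Gen.c, true), (Gen.h, true), (Gen.c, true)] RW_2,
   Cert.rel true [(Gen.b, true), (Gen.h, true), (Gen.b, true)] RW_7,
   Cert.rel true [(Gen.g, true), (Gen.f, true), (Gen.e, true), (Gen.d, true), (Gen.c, true), (Gen.b, true), (Gen.h, true), (Gen.g, true), (Gen.f, true), (Gen.e, true), (Gen.d, true), (Gen.c, true), (Gen.b, true), (Gen.h, true), (Gen.g, true), (Gen.f, true), (Gen.e, true), (Gen.d, true), (Gen.c, true), (Gen.b, true), (Gen.h, true), (Gen.g, true), (Gen.f, true), (Gen.e, true), (Gen.d, true), (Gen.c, true), (Gen.b, true), (Gen.h, true), (Gen.g, true), (Gen.f, true), (Gen.e, true), (Gen.d, true), (Gen.c, true), (Gen.b, true), (Gen.h, true), (Gen.g, true), (Gen.f, true), (Gen.e, true), (Gen.d, true), (Gen.c, true), (Gen.b, true), (Gen.h, true), (Gen.g, true), (Gen.f, true), (Gen.e, true), (Gen.d, true), (Gen.c, true), (Gen.b, true), (Gen.h, true), (Gen.g, true), (Gen.f, true), (Gen.e, true), (Gen.d, true), (Gen.c, true), (Gen.b, true), (Gen.h, true), (Gen.g, true), (Gen.f,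 true), (Gen.e, true), (Gen.d, true), (Gen.c, true), (Gen.b, true)] RW_77,
   Cert.rel true [(Gen.b, true), (Gen.c, true), (Gen.d, true), (Gen.e, true), (Gen.f, true), (Gen.g, true), (Gen.h, true), (Gen.b, true), (Gen.c, true), (Gen.d, true), (Gen.e, true), (Gen.f, true), (Gen.g, true), (Gen.h, true), (Gen.b, true), (Gen.c, true), (Gen.d, true), (Gen.e, true), (Gen.f, true), (Gen.g, true), (Gen.h, true), (Gen.b, true), (Gen.c, true), (Gen.d, true), (Gen.e, true), (Gen.f, true), (Gen.g, true), (Gen.h, true), (Gen.b, true), (Gen.c, true), (Gen.d, true), (Gen.e, true), (Gen.f, true), (Gen.g, true), (Gen.h, true), (Gen.b, true), (Gen.c, true), (Gen.d, true), (Gen.e, true), (Gen.f, true), (Gen.g, true), (Gen.h, true), (Gen.b, true), (Gen.c, true), (Gen.d, true), (Gen.e, true), (Gen.f, true), (Gen.g, true), (Gen.h, true), (Gen.b, true), (Gen.c, true), (Gen.d, true), (Gen.e, true), (Gen.f, true), (Gen.g, true), (Gen.h, true), (Gen.b, true), (Gen.c, true), (Gen.d, true), (Gen.e, true), (Gen.f, true), (Gen.g, true)]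 RW_78]
def ct_h : Nat := 109240820393268258357115333187683686134043626303000125407185847273473737057531305703557909955873989461141210863947982279261224383885131874637902837602116319687694720758347474746701279171617540930365544143058973846907671546349789785203448025585103366823713940378791844282775047371118048945318657364279195817387979983948156836742778329009194473821699979201457985680051869382468638819965735820836733455795821350841646131050842185644464185012499493928018127784766544368806659993218091561875635542674022164566602445829092299290585991609844901425163465639119295843695855304512141170383535584540032658387032054420279009147560848455993369865718085500189101458343691632573745635288372410980305566562371774183550866142191271905981130746172463906657853685686472854623496841683493863904772963818306164432415495272240181104982567760079370824895137960899895749588889922563994573855195857409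
def certL_i : List (Cert D.rels D.S Gen.i) :=
  [Cert.tree,
   Cert.sub true [] [] (D.sub_mem Gen.i (by decide)),
   Cert.rel true [(Gen.g, true), (Gen.i, true), (Gen.g, true)] RW_37,
   Cert.rel true [(Gen.f, true), (Gen.i, true), (Gen.f, true)] RW_23,
   Cert.rel true [(Gen.e, true), (Gen.i, true), (Gen.e, true)] RW_11,
   Cert.rel true [(Gen.d, true), (Gen.i, true), (Gen.d, true)] RW_29,
   Cert.rel true [(Gen.c, true), (Gen.i, true), (Gen.c, true)] RW_3,
   Cert.rel true [(Gen.b, true), (Gen.i, true), (Gen.b, true)] RW_8,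
   Cert.rel true [(Gen.i, true)] RW_79,
   Cert.rel true [(Gen.h, true), (Gen.i, true), (Gen.h, true), (Gen.i, true), (Gen.h, true)] RW_45,
   Cert.rel true [(Gen.d, true), (Gen.c, true), (Gen.b, true), (Gen.d, true), (Gen.e, true), (Gen.f, true), (Gen.d, true), (Gen.h, true), (Gen.i, true), (Gen.d, true), (Gen.c, true), (Gen.b, true), (Gen.d, true), (Gen.e, true), (Gen.f, true), (Gen.d, true), (Gen.h, true), (Gen.i, true), (Gen.d, true), (Gen.c, true), (Gen.b, true), (Gen.d, true), (Gen.e, true), (Gen.f, true), (Gen.d, true), (Gen.h, true), (Gen.i, true), (Gen.d, true), (Gen.c, true), (Gen.b, true), (Gen.d, true), (Gen.e, true), (Gen.f, true), (Gen.d, true), (Gen.h, true), (Gen.i, true), (Gen.d, true), (Gen.c, true), (Gen.b, true), (Gen.d, true), (Gen.e, true), (Gen.f, true), (Gen.d, true), (Gen.h, true), (Gen.i, true), (Gen.d, true), (Gen.c, true), (Gen.b, true), (Gen.d, true), (Gen.e, true), (Gen.f, true), (Gen.d, true), (Gen.h, true), (Gen.i, true), (Gen.d, true), (Gen.c, true), (Gen.b, true), (Gen.d,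 true), (Gen.e, true), (Gen.f, true), (Gen.d, true), (Gen.h, true), (Gen.i, true), (Gen.d, true), (Gen.c, true), (Gen.b, true), (Gen.d, true), (Gen.e, true), (Gen.f, true), (Gen.d, true), (Gen.h, true), (Gen.i, true), (Gen.d, true), (Gen.c, true), (Gen.b, true), (Gen.d, true), (Gen.e, true), (Gen.f, true), (Gen.d, true), (Gen.h, true), (Gen.i, true), (Gen.d, true), (Gen.c, true), (Gen.b, true), (Gen.d, true), (Gen.e, true), (Gen.f, true), (Gen.d, true), (Gen.h, true)] RW_80,
   Cert.rel true [(Gen.h, true), (Gen.d, true), (Gen.f, true), (Gen.e, true), (Gen.d, true), (Gen.b, true), (Gen.c, true), (Gen.d, true), (Gen.i, true), (Gen.h, true), (Gen.d, true), (Gen.f, true), (Gen.e, true), (Gen.d, true), (Gen.b, true), (Gen.c, true), (Gen.d, true), (Gen.i, true), (Gen.h, true), (Gen.d, true), (Gen.f, true), (Gen.e, true), (Gen.d, true), (Gen.b, true), (Gen.c, true), (Gen.d, true), (Gen.i, true), (Gen.h, true), (Gen.d, true), (Gen.f, true), (Gen.e, true), (Gen.d, true), (Gen.b, true), (Gen.c, true), (Gen.d, true),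 (Gen.i, true), (Gen.h, true), (Gen.d, true), (Gen.f, true), (Gen.e, true), (Gen.d, true), (Gen.b, true), (Gen.c, true), (Gen.d, true), (Gen.i, true), (Gen.h, true), (Gen.d, true), (Gen.f, true), (Gen.e, true), (Gen.d, true), (Gen.b, true), (Gen.c, true), (Gen.d, true), (Gen.i, true), (Gen.h, true), (Gen.d, true), (Gen.f, true), (Gen.e, true), (Gen.d, true), (Gen.b, true), (Gen.c, true), (Gen.d, true), (Gen.i, true), (Gen.h, true), (Gen.d, true), (Gen.f, true), (Gen.e, true), (Gen.d, true), (Gen.b, true), (Gen.c, true), (Gen.d, true), (Gen.i, true), (Gen.h, true), (Gen.d, true), (Gen.f, true), (Gen.e, true), (Gen.d, true), (Gen.b, true), (Gen.c, true), (Gen.d, true), (Gen.i, true), (Gen.h, true), (Gen.d, true), (Gen.f, true), (Gen.e, true), (Gen.d, true), (Gen.b, true), (Gen.c, true), (Gen.d, true)] RW_81]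
def ct_i : Nat := 77882123201466050607659658957812690170964494743310689565014084817726531325759825736942904061143023508266045286112564478004564637071336554922802131141938711912956699103722862474766658478656640774511891524915473903756333092864707627511483080105941619098578923437686379912865439100746376969205073432866804257068832597444030518898386224001818198031001764872628786340092926916649891670416376159719802331240118150788478645401714134186000729753337836290537369200980392281082429106139825055963440680926605831488299140058543429777645235600928940914290173806126073384630477670437854510309601717067670748449460420681272292571349464804851021435048460121081022861436930662943218848147608061483346338994319154406791153633147711018604747011726510894416190544193639606455814867045221297165833964508144825940650670930099309615443733460240226901281614776520307048053650161720514384440636670465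
def cert : (x : Gen) → Fin D.n → Cert D.rels D.S x
  | .a, p => pick certL_a (look8 ct_a p.val) Cert.tree
  | .b, p => pick certL_b (look8 ct_b p.val) Cert.tree
  | .c, p => pick certL_c (look8 ct_c p.val) Cert.tree
  | .d, p => pick certL_d (look8 ct_d p.val) Cert.tree
  | .e, p => pick certL_e (look8 ct_e p.val) Cert.tree
  | .f, p => pick certL_f (look8 ct_f p.val) Cert.tree
  | .g, p => pick certL_g (look8 ct_g p.val) Cert.tree
  | .h, p => pick certL_h (look8 ct_h p.val) Cert.tree
  | .i, p => pick certL_i (look8 ct_i p.val) Cert.tree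

end

end Cfsg.Agent.Helper27.Fi22TC.A1
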