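import Cfsg.Agent.Lib.Helper27.Fi22.A1.Certs

set_option autoImplicit false
set_option maxRecDepth 100000
set_option linter.all false

namespace Cfsg.Agent.Helper27.Fi22TC.A1

open Cfsg.Agent.Helper28 Cfsg.Agent.Helper27.Fi22TC
open Cfsg.Spor.Fi22 (Gen)

noncomputable section

abbrev Q : Type := PresentedGroup D.rels ⧸ subH D.rels D.S
abbrev ed (y : Gen) (c : Q) : Q := lG D.rels (y, true) • c
def V_364 : Q := ed Gen.c (D.P 67)
def V_365 : Q := ed Gen.b V_364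
def V_366 : Q := ed Gen.e V_365
def V_367 : Q := ed Gen.b V_366
def V_368 : Q := ed Gen.e (D.P 67)
def V_369 : Q := ed Gen.g V_367
def V_370 : Q := ed Gen.c V_365
def V_371 : Q := ed Gen.d V_367
def V_372 : Q := ed Gen.f V_367
def V_373 : Q := ed Gen.d V_370
def V_374 : Q := ed Gen.e V_373
def V_375 : Q := ed Gen.f V_374
def V_376 : Q := ed Gen.g V_375
def V_377 : Q := ed Gen.h V_376
def V_378 : Q := ed Gen.d (D.P 335)
def V_379 : Q := ed Gen.e V_378
def V_380 : Q := ed Gen.f V_379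
def V_381 : Q := ed Gen.g V_380
def V_382 : Q := ed Gen.h V_381
def V_383 : Q := ed Gen.c V_382
def V_384 : Q := ed Gen.d V_383
def V_385 : Q := ed Gen.e V_384
def V_386 : Q := ed Gen.f V_385
def V_387 : Q := ed Gen.g V_386
def V_388 : Q := ed Gen.h V_387
def V_389 : Q := ed Gen.b V_388
def V_390 : Q := ed Gen.c V_389
def V_391 : Q := ed Gen.d V_390
def V_392 : Q := ed Gen.e V_391
def V_393 : Q := ed Gen.f V_392
def V_394 : Q := ed Gen.g V_393
def V_395 : Q := ed Gen.h V_394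
def V_396 : Q := ed Gen.b V_395
def V_397 : Q := ed Gen.c V_396
def V_398 : Q := ed Gen.d V_397
def V_399 : Q := ed Gen.e V_398
def V_400 : Q := ed Gen.f V_399
def V_401 : Q := ed Gen.g V_400
def V_402 : Q := ed Gen.h V_401
def V_403 : Q := ed Gen.b (D.P 122)
def V_404 : Q := ed Gen.h V_403
def V_405 : Q := ed Gen.g V_404
def V_406 : Q := ed Gen.f V_405
def V_407 : Q := ed Gen.e V_406
def V_408 : Q := ed Gen.d V_407
def V_409 : Q := ed Gen.c V_408
def V_410 : Q := ed Gen.b V_409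
def V_411 : Q := ed Gen.h V_410
def V_412 : Q := ed Gen.f V_411
def V_413 : Q := ed Gen.e V_412
def V_414 : Q := ed Gen.d V_413
def V_415 : Q := ed Gen.c V_414
def V_416 : Q := ed Gen.b V_415
def V_417 : Q := ed Gen.h V_416
def V_418 : Q := ed Gen.g V_417
def V_419 : Q := ed Gen.f V_418
def V_420 : Q := ed Gen.e V_419
def V_421 : Q := ed Gen.d V_420
def V_422 : Q := ed Gen.c V_421
def V_423 : Q := ed Gen.b (D.P 234)
def V_424 : Q := ed Gen.h V_423
def V_425 : Q := ed Gen.g V_424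
def V_426 : Q := ed Gen.f V_425
def V_427 : Q := ed Gen.e V_426
def V_428 : Q := ed Gen.d V_427
def V_429 : Q := ed Gen.c V_428
def V_430 : Q := ed Gen.b V_429
def V_431 : Q := ed Gen.h V_430
def V_432 : Q := ed Gen.g V_431
def V_433 : Q := ed Gen.f V_432
def V_434 : Q := ed Gen.e V_433
def V_435 : Q := ed Gen.d V_434
def V_436 : Q := ed Gen.c V_435
def V_437 : Q := ed Gen.b V_436
def V_438 : Q := ed Gen.h V_437
def V_439 : Q := ed Gen.f V_438
def V_440 : Q := ed Gen.e V_439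
def V_441 : Q := ed Gen.d V_440
def V_442 : Q := ed Gen.c V_441
def V_443 : Q := ed Gen.b V_442
def V_444 : Q := ed Gen.h V_443
def V_445 : Q := ed Gen.g V_444
def V_446 : Q := ed Gen.f V_445
def V_447 : Q := ed Gen.e V_446
def V_448 : Q := ed Gen.d V_447
def V_449 : Q := ed Gen.c V_448
def V_450 : Q := ed Gen.b V_371
def V_451 : Q := ed Gen.h V_450
def V_452 : Q := ed Gen.g V_451
def V_453 : Q := ed Gen.f V_452
def V_454 : Q := ed Gen.e V_453
def V_455 : Q := ed Gen.d V_454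
def V_456 : Q := ed Gen.c V_455
def V_457 : Q := ed Gen.b V_456
def V_458 : Q := ed Gen.h V_457
def V_459 : Q := ed Gen.g V_458
def V_460 : Q := ed Gen.f V_459
def V_461 : Q := ed Gen.e V_460
def V_462 : Q := ed Gen.d V_461
def V_463 : Q := ed Gen.c V_462
def V_464 : Q := ed Gen.b V_463
def V_465 : Q := ed Gen.h V_464
def V_466 : Q := ed Gen.e V_465
def V_467 : Q := ed Gen.d V_466
def V_468 : Q := ed Gen.c V_467
def V_469 : Q := ed Gen.b V_468
def V_470 : Q := ed Gen.h V_469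
def V_471 : Q := ed Gen.f V_470
def V_472 : Q := ed Gen.e V_471
def V_473 : Q := ed Gen.d V_472
def V_474 : Q := ed Gen.c V_473
def V_475 : Q := ed Gen.b V_474
def V_476 : Q := ed Gen.h V_475
def V_477 : Q := ed Gen.g V_476
def V_478 : Q := ed Gen.f V_477
def V_479 : Q := ed Gen.e V_478
def V_480 : Q := ed Gen.d V_479
def V_481 : Q := ed Gen.c V_480
def V_482 : Q := ed Gen.h V_373
def V_483 : Q := ed Gen.e V_482
def V_484 : Q := ed Gen.d V_483
def V_485 : Q := ed Gen.d (D.P 170)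
def V_486 : Q := ed Gen.h V_485
def V_487 : Q := ed Gen.d V_486
def V_488 : Q := ed Gen.f V_487
def V_489 : Q := ed Gen.d V_488
def V_490 : Q := ed Gen.i (D.P 189)
def V_491 : Q := ed Gen.h V_490
def V_492 : Q := ed Gen.f V_491
def V_493 : Q := ed Gen.e V_492
def V_494 : Q := ed Gen.d V_493
def V_495 : Q := ed Gen.b V_494
def V_496 : Q := ed Gen.c V_495
def V_497 : Q := ed Gen.d V_496
def V_498 : Q := ed Gen.i V_497
def V_499 : Q := ed Gen.h V_498
def V_500 : Q := ed Gen.d V_499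
def V_501 : Q := ed Gen.e V_500
def V_502 : Q := ed Gen.d V_501
def V_503 : Q := ed Gen.b V_502
def V_504 : Q := ed Gen.c V_503
def V_505 : Q := ed Gen.d V_504
def V_506 : Q := ed Gen.i V_505
def V_507 : Q := ed Gen.h V_506
def V_508 : Q := ed Gen.d V_507
def V_509 : Q := ed Gen.f V_508
def V_510 : Q := ed Gen.e V_509
def V_511 : Q := ed Gen.d V_510
def V_512 : Q := ed Gen.b V_511
def V_513 : Q := ed Gen.c V_512
def V_514 : Q := ed Gen.d V_513
def V_515 : Q := ed Gen.i V_514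
def V_516 : Q := ed Gen.h V_515
def V_517 : Q := ed Gen.d V_516
def V_518 : Q := ed Gen.f V_517
def V_519 : Q := ed Gen.e V_518
def V_520 : Q := ed Gen.d V_519
def V_521 : Q := ed Gen.b V_520
def V_522 : Q := ed Gen.c V_521
def V_523 : Q := ed Gen.d V_522
def V_524 : Q := ed Gen.i V_523
def V_525 : Q := ed Gen.h V_524
def V_526 : Q := ed Gen.d V_525
def V_527 : Q := ed Gen.f V_526
def V_528 : Q := ed Gen.e V_527
def V_529 : Q := ed Gen.d V_528
def V_530 : Q := ed Gen.b V_529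
def V_531 : Q := ed Gen.c V_530
def V_532 : Q := ed Gen.d V_531
def V_533 : Q := ed Gen.i V_532
def V_534 : Q := ed Gen.h V_533
def V_535 : Q := ed Gen.d V_534
def V_536 : Q := ed Gen.f V_535
def V_537 : Q := ed Gen.e V_536
def V_538 : Q := ed Gen.d V_537
def V_539 : Q := ed Gen.b V_538
def V_540 : Q := ed Gen.c V_539
def V_541 : Q := ed Gen.d V_540
def V_542 : Q := ed Gen.i V_541
def V_543 : Q := ed Gen.h V_542
def V_544 : Q := ed Gen.d V_449
def V_545 : Q := ed Gen.h V_544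
def V_546 : Q := ed Gen.c V_537
def V_575 : Q := ed Gen.c (D.P 273)
def V_576 : Q := ed Gen.b V_575
def V_577 : Q := ed Gen.d V_576
def V_578 : Q := ed Gen.e V_577
def V_579 : Q := ed Gen.f V_578
def V_580 : Q := ed Gen.d V_579
def V_581 : Q := ed Gen.h V_580
def V_582 : Q := ed Gen.i V_581
def V_583 : Q := ed Gen.d V_582
def V_584 : Q := ed Gen.c V_583
def V_585 : Q := ed Gen.b V_584
def V_586 : Q := ed Gen.d V_585
def V_587 : Q := ed Gen.e V_586
def V_588 : Q := ed Gen.f V_587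
def V_589 : Q := ed Gen.d V_588
def V_590 : Q := ed Gen.h V_589
def V_591 : Q := ed Gen.i V_590
def V_592 : Q := ed Gen.d V_591
def V_593 : Q := ed Gen.c V_592
def V_594 : Q := ed Gen.b V_593
def V_595 : Q := ed Gen.d V_594
def V_596 : Q := ed Gen.e V_595
def V_597 : Q := ed Gen.f V_596
def V_598 : Q := ed Gen.d V_597
def V_599 : Q := ed Gen.h V_598
def V_600 : Q := ed Gen.i V_599
def V_601 : Q := ed Gen.d V_600
def V_602 : Q := ed Gen.c V_601
def V_603 : Q := ed Gen.b V_602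
def V_604 : Q := ed Gen.d V_603
def V_605 : Q := ed Gen.e V_604
def V_606 : Q := ed Gen.f V_605
def V_607 : Q := ed Gen.d V_606
def V_608 : Q := ed Gen.h V_607
def V_609 : Q := ed Gen.i V_608
def V_610 : Q := ed Gen.d V_609
def V_611 : Q := ed Gen.c V_610
def V_612 : Q := ed Gen.b V_611
def V_613 : Q := ed Gen.d V_612
def V_614 : Q := ed Gen.e V_613
def V_615 : Q := ed Gen.f V_614
def V_616 : Q := ed Gen.d V_615
def V_617 : Q := ed Gen.h V_616
def V_618 : Q := ed Gen.i V_617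
def V_619 : Q := ed Gen.d V_618
def V_620 : Q := ed Gen.c V_619
def V_621 : Q := ed Gen.b V_620
def V_622 : Q := ed Gen.d V_621
def V_623 : Q := ed Gen.e V_622
def V_624 : Q := ed Gen.f V_623
def V_625 : Q := ed Gen.d V_624
def V_626 : Q := ed Gen.h V_625
def V_627 : Q := ed Gen.i V_626
def V_628 : Q := ed Gen.d V_627
def V_629 : Q := ed Gen.g V_366
def V_630 : Q := ed Gen.c V_378
def V_631 : Q := ed Gen.b V_630
def V_632 : Q := ed Gen.h V_631
def V_633 : Q := ed Gen.g V_632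
def V_634 : Q := ed Gen.f V_633
def V_635 : Q := ed Gen.e V_634
def V_636 : Q := ed Gen.d V_635
def V_637 : Q := ed Gen.c V_636
def V_638 : Q := ed Gen.b V_637
def V_639 : Q := ed Gen.h V_638
def V_640 : Q := ed Gen.g V_639
def V_641 : Q := ed Gen.f V_640
def V_642 : Q := ed Gen.e V_641
def V_643 : Q := ed Gen.d V_642
def V_644 : Q := ed Gen.c V_643
def V_645 : Q := ed Gen.b V_644
def V_646 : Q := ed Gen.h V_645
def V_647 : Q := ed Gen.g V_646
def V_648 : Q := ed Gen.f V_647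
def V_649 : Q := ed Gen.e V_648
def V_650 : Q := ed Gen.d V_649
def V_651 : Q := ed Gen.c V_650
def V_652 : Q := ed Gen.b V_651
def V_653 : Q := ed Gen.h V_652
def V_654 : Q := ed Gen.g V_653
def V_655 : Q := ed Gen.f V_654
def V_656 : Q := ed Gen.e V_655
def V_657 : Q := ed Gen.d V_656
def V_658 : Q := ed Gen.h V_628
def V_659 : Q := ed Gen.d V_456
def V_660 : Q := ed Gen.h V_659
def V_661 : Q := ed Gen.g V_660
def V_662 : Q := ed Gen.f V_661
def V_663 : Q := ed Gen.e V_662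
def V_664 : Q := ed Gen.d V_663
def V_665 : Q := ed Gen.c V_664
def V_666 : Q := ed Gen.b V_665
def V_667 : Q := ed Gen.h V_666
def V_668 : Q := ed Gen.f V_667
def V_669 : Q := ed Gen.e V_668
def V_670 : Q := ed Gen.d V_669
def V_671 : Q := ed Gen.c V_670
def V_672 : Q := ed Gen.b V_671
def V_673 : Q := ed Gen.h V_672
def V_674 : Q := ed Gen.g V_673
def V_675 : Q := ed Gen.f V_674
def V_676 : Q := ed Gen.e V_675
def V_677 : Q := ed Gen.d V_676
def V_678 : Q := ed Gen.c V_677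
def V_679 : Q := ed Gen.b V_678
def V_680 : Q := ed Gen.h V_679
def V_681 : Q := ed Gen.g V_680
def V_682 : Q := ed Gen.f V_681
def V_683 : Q := ed Gen.e V_682
def V_684 : Q := ed Gen.d (D.P 168)
def V_685 : Q := ed Gen.h V_684
def V_686 : Q := ed Gen.i V_685
def V_687 : Q := ed Gen.d V_686
def V_688 : Q := ed Gen.c V_687
def V_689 : Q := ed Gen.b V_688
def V_690 : Q := ed Gen.e V_689
def V_691 : Q := ed Gen.f V_690
def V_692 : Q := ed Gen.d V_691
def V_693 : Q := ed Gen.h V_692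
def V_694 : Q := ed Gen.i V_693
def V_695 : Q := ed Gen.d V_694
def V_753 : Q := ed Gen.g V_450
def V_754 : Q := ed Gen.b V_368
def V_755 : Q := ed Gen.c V_754
def V_756 : Q := ed Gen.d V_400
def V_758 : Q := ed Gen.c (D.P 362)
def V_759 : Q := ed Gen.d V_758
def V_779 : Q := ed Gen.h (D.P 212)
def V_780 : Q := ed Gen.c (D.P 327)
def V_781 : Q := ed Gen.g V_780
def V_782 : Q := ed Gen.f V_781
def V_783 : Q := ed Gen.c V_759
def V_784 : Q := ed Gen.b V_783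
def V_785 : Q := ed Gen.h V_784
def V_786 : Q := ed Gen.e V_785
def V_787 : Q := ed Gen.d V_786
def V_788 : Q := ed Gen.c V_787
def V_789 : Q := ed Gen.b V_788
def V_790 : Q := ed Gen.h V_789
def V_791 : Q := ed Gen.f V_790
def V_792 : Q := ed Gen.e V_791
def V_793 : Q := ed Gen.d V_792
def V_794 : Q := ed Gen.c V_793
def V_795 : Q := ed Gen.b V_794
def V_796 : Q := ed Gen.h V_795
def V_797 : Q := ed Gen.g V_796
def V_798 : Q := ed Gen.f V_797
def V_847 : Q := ed Gen.b V_655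
def V_848 : Q := ed Gen.c V_847
def V_849 : Q := ed Gen.d V_848
def V_850 : Q := ed Gen.h V_849
def V_851 : Q := ed Gen.f V_850
def V_852 : Q := ed Gen.e V_851
def V_853 : Q := ed Gen.d V_852
def V_914 : Q := ed Gen.i V_451
def V_915 : Q := ed Gen.c V_914
def V_916 : Q := ed Gen.d V_915
def V_917 : Q := ed Gen.e V_916
def V_918 : Q := ed Gen.f V_917
def V_919 : Q := ed Gen.h V_918
def V_920 : Q := ed Gen.i V_919
def V_921 : Q := ed Gen.d V_920
def V_922 : Q := ed Gen.c V_921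
def V_923 : Q := ed Gen.b V_922
def V_924 : Q := ed Gen.e V_923
def V_925 : Q := ed Gen.f V_924
def V_926 : Q := ed Gen.d V_925
def V_927 : Q := ed Gen.h V_926
def V_928 : Q := ed Gen.i V_927
def V_929 : Q := ed Gen.d V_928
def V_930 : Q := ed Gen.c V_929
def V_931 : Q := ed Gen.b V_930
def V_932 : Q := ed Gen.d V_931
def V_933 : Q := ed Gen.e V_932
def V_934 : Q := ed Gen.f V_933
def V_935 : Q := ed Gen.d V_934
def V_936 : Q := ed Gen.h V_935
def V_937 : Q := ed Gen.i V_936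
def V_938 : Q := ed Gen.d V_937
def V_939 : Q := ed Gen.c V_938
def V_940 : Q := ed Gen.b V_939
def V_941 : Q := ed Gen.d V_940
def V_942 : Q := ed Gen.e V_941
def V_943 : Q := ed Gen.f V_942
def V_944 : Q := ed Gen.d V_943
def V_945 : Q := ed Gen.h V_944
def V_946 : Q := ed Gen.i V_945
def V_947 : Q := ed Gen.d V_946
def V_948 : Q := ed Gen.c V_947
def V_949 : Q := ed Gen.b V_948
def V_950 : Q := ed Gen.d V_949
def V_951 : Q := ed Gen.e V_950
def V_952 : Q := ed Gen.f V_951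
def V_953 : Q := ed Gen.d V_952
def V_954 : Q := ed Gen.h V_953
def V_955 : Q := ed Gen.i V_954
def V_956 : Q := ed Gen.d V_955
def V_957 : Q := ed Gen.c V_956
def V_958 : Q := ed Gen.b V_957
def V_959 : Q := ed Gen.d V_958
def V_960 : Q := ed Gen.e V_959
def V_961 : Q := ed Gen.f V_960
def V_962 : Q := ed Gen.d V_961
def V_963 : Q := ed Gen.h V_962
def V_964 : Q := ed Gen.i V_963
def V_965 : Q := ed Gen.d V_964
def V_966 : Q := ed Gen.c V_965
def V_967 : Q := ed Gen.b V_966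
def V_968 : Q := ed Gen.d V_967
def V_969 : Q := ed Gen.e V_968
def V_970 : Q := ed Gen.f V_969
def V_971 : Q := ed Gen.d V_970
def V_972 : Q := ed Gen.h V_971
def V_973 : Q := ed Gen.i V_972
def V_974 : Q := ed Gen.d V_973
def V_975 : Q := ed Gen.c V_974
def V_1097 : Q := ed Gen.d (D.P 141)
def V_1120 : Q := ed Gen.d V_458
def V_1121 : Q := ed Gen.e V_850
def V_1122 : Q := ed Gen.b V_973
def V_1123 : Q := ed Gen.f V_1122
def V_1124 : Q := ed Gen.e V_1123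
def V_1125 : Q := ed Gen.d V_1124
def V_1126 : Q := ed Gen.c V_1125
def V_1127 : Q := ed Gen.b V_1126
def V_1128 : Q := ed Gen.h V_1127
def V_1129 : Q := ed Gen.g V_1128
def V_1130 : Q := ed Gen.f V_1129
def V_1131 : Q := ed Gen.e V_1130
def V_1132 : Q := ed Gen.d V_1131
def V_1133 : Q := ed Gen.c V_1132
def V_1134 : Q := ed Gen.b V_1133
def V_1135 : Q := ed Gen.h V_1134
def V_1136 : Q := ed Gen.e V_1135
def V_1137 : Q := ed Gen.d V_1136
def V_1138 : Q := ed Gen.c V_1137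
def V_1139 : Q := ed Gen.b V_1138
def V_1140 : Q := ed Gen.h V_1139
def V_1141 : Q := ed Gen.f V_1140
def V_1142 : Q := ed Gen.e V_1141
def V_1143 : Q := ed Gen.d V_1142
def V_1144 : Q := ed Gen.c V_1143
def V_1145 : Q := ed Gen.b V_1144
def V_1146 : Q := ed Gen.h V_1145
def V_1352 : Q := ed Gen.i (D.P 208)
def V_1353 : Q := ed Gen.h V_1352
def V_1354 : Q := ed Gen.d V_1353
def V_1552 : Q := ed Gen.h (D.P 353)
def V_1553 : Q := ed Gen.d V_1134
def V_1554 : Q := ed Gen.e V_1553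
def V_1555 : Q := ed Gen.f V_1554
def V_1556 : Q := ed Gen.g V_1555
def V_1557 : Q := ed Gen.c V_1127
def V_1558 : Q := ed Gen.d V_1557
def V_1559 : Q := ed Gen.e V_1558
theorem F_0 (IH : D.IHyp) : ed Gen.c (D.P 67) = V_364 :=
  rfl
theorem F_1 (IH : D.IHyp) : ed Gen.c V_364 = (D.P 67) :=
  flipE D.rels D.S (hinv Gen.c) (F_0 IH)
theorem F_2 (IH : D.IHyp) : ed Gen.b V_364 = V_365 :=
  rfl
theorem F_3 (IH : D.IHyp) : ed Gen.b V_365 = V_364 :=
  flipE D.rels D.S (hinv Gen.b) (F_2 IH)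
theorem F_4 (IH : D.IHyp) : ed Gen.f (D.P 67) = (D.P 67) :=
  D.real_edge' IH Gen.f 67 67 (by decide +kernel)
theorem F_5 (IH : D.IHyp) : ed Gen.f V_364 = V_364 :=
  gap_rel RW_0 (path_edge (F_0 IH) (path_edge (F_4 IH) (path_edge (F_1 IH) (path_nil _))))
theorem F_6 (IH : D.IHyp) : ed Gen.g (D.P 67) = (D.P 52) :=
  D.real_edge' IH Gen.g 67 52 (by decide +kernel)
theorem F_7 (IH : D.IHyp) : ed Gen.c (D.P 52) = (D.P 68) :=
  D.real_edge' IH Gen.c 52 68 (by decide +kernel)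
theorem F_8 (IH : D.IHyp) : ed Gen.g (D.P 68) = V_364 :=
  gap_rel RW_1 (path_edge (F_7 IH) (path_edge (F_6 IH) (path_edge (F_1 IH) (path_nil _))))
theorem F_9 (IH : D.IHyp) : ed Gen.g V_364 = (D.P 68) :=
  flipE D.rels D.S (hinv Gen.g) (F_8 IH)
theorem F_10 (IH : D.IHyp) : ed Gen.h (D.P 67) = (D.P 67) :=
  D.real_edge' IH Gen.h 67 67 (by decide +kernel)
theorem F_11 (IH : D.IHyp) : ed Gen.h V_364 = V_364 :=
  gap_rel RW_2 (path_edge (F_0 IH) (path_edge (F_10 IH) (path_edge (F_1 IH) (path_nil _))))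
theorem F_12 (IH : D.IHyp) : ed Gen.i (D.P 67) = (D.P 67) :=
  D.real_edge' IH Gen.i 67 67 (by decide +kernel)
theorem F_13 (IH : D.IHyp) : ed Gen.i V_364 = V_364 :=
  gap_rel RW_3 (path_edge (F_0 IH) (path_edge (F_12 IH) (path_edge (F_1 IH) (path_nil _))))
theorem F_14 (IH : D.IHyp) : ed Gen.d (D.P 68) = (D.P 68) :=
  D.real_edge' IH Gen.d 68 68 (by decide +kernel)
theorem F_15 (IH : D.IHyp) : ed Gen.d V_364 = V_364 :=
  gap_rel RW_4 (path_edge (F_8 IH) (path_edge (F_14 IH) (path_edge (F_9 IH) (path_nil _))))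
theorem F_16 (IH : D.IHyp) : ed Gen.f V_365 = V_365 :=
  gap_rel RW_5 (path_edge (F_2 IH) (path_edge (F_5 IH) (path_edge (F_3 IH) (path_nil _))))
theorem F_17 (IH : D.IHyp) : ed Gen.b (D.P 68) = (D.P 86) :=
  D.real_edge' IH Gen.b 68 86 (by decide +kernel)
theorem F_18 (IH : D.IHyp) : ed Gen.g (D.P 86) = V_365 :=
  gap_rel RW_6 (path_edge (F_17 IH) (path_edge (F_9 IH) (path_edge (F_3 IH) (path_nil _))))
theorem F_19 (IH : D.IHyp) : ed Gen.g V_365 = (D.P 86) :=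
  flipE D.rels D.S (hinv Gen.g) (F_18 IH)
theorem F_20 (IH : D.IHyp) : ed Gen.c (D.P 68) = (D.P 52) :=
  D.real_edge' IH Gen.c 68 52 (by decide +kernel)
theorem F_21 (IH : D.IHyp) : ed Gen.g (D.P 52) = (D.P 67) :=
  D.real_edge' IH Gen.g 52 67 (by decide +kernel)
theorem F_22 (IH : D.IHyp) : ed Gen.h (D.P 68) = (D.P 68) :=
  D.real_edge' IH Gen.h 68 68 (by decide +kernel)
theorem F_24 (IH : D.IHyp) : ed Gen.h V_365 = V_365 :=
  gap_rel RW_7 (path_edge (F_2 IH) (path_edge (F_11 IH) (path_edge (F_3 IH) (path_nil _))))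
theorem F_25 (IH : D.IHyp) : ed Gen.i V_365 = V_365 :=
  gap_rel RW_8 (path_edge (F_2 IH) (path_edge (F_13 IH) (path_edge (F_3 IH) (path_nil _))))
theorem F_26 (IH : D.IHyp) : ed Gen.b (D.P 67) = (D.P 82) :=
  D.real_edge' IH Gen.b 67 82 (by decide +kernel)
theorem F_27 (IH : D.IHyp) : ed Gen.c (D.P 82) = (D.P 101) :=
  D.real_edge' IH Gen.c 82 101 (by decide +kernel)
theorem F_28 (IH : D.IHyp) : ed Gen.d (D.P 67) = (D.P 51) :=
  D.real_edge' IH Gen.d 67 51 (by decide +kernel)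
theorem F_30 (IH : D.IHyp) : ed Gen.d (D.P 51) = (D.P 67) :=
  D.real_edge' IH Gen.d 51 67 (by decide +kernel)
theorem F_31 (IH : D.IHyp) : ed Gen.f (D.P 68) = (D.P 53) :=
  D.real_edge' IH Gen.f 68 53 (by decide +kernel)
theorem F_34 (IH : D.IHyp) : ed Gen.e (D.P 53) = (D.P 53) :=
  D.real_edge' IH Gen.e 53 53 (by decide +kernel)
theorem F_35 (IH : D.IHyp) : ed Gen.d (D.P 53) = (D.P 53) :=
  D.real_edge' IH Gen.d 53 53 (by decide +kernel)
theorem F_36 (IH : D.IHyp) : ed Gen.c (D.P 53) = (D.P 40) :=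
  D.real_edge' IH Gen.c 53 40 (by decide +kernel)
theorem F_37 (IH : D.IHyp) : ed Gen.b (D.P 40) = (D.P 50) :=
  D.real_edge' IH Gen.b 40 50 (by decide +kernel)
theorem F_38 (IH : D.IHyp) : ed Gen.h (D.P 50) = (D.P 50) :=
  D.real_edge' IH Gen.h 50 50 (by decide +kernel)
theorem F_39 (IH : D.IHyp) : ed Gen.g (D.P 50) = (D.P 50) :=
  D.real_edge' IH Gen.g 50 50 (by decide +kernel)
theorem F_40 (IH : D.IHyp) : ed Gen.f (D.P 50) = (D.P 65) :=
  D.real_edge' IH Gen.f 50 65 (by decide +kernel)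
theorem F_41 (IH : D.IHyp) : ed Gen.e (D.P 65) = (D.P 84) :=
  D.real_edge' IH Gen.e 65 84 (by decide +kernel)
theorem F_42 (IH : D.IHyp) : ed Gen.d (D.P 84) = (D.P 84) :=
  D.real_edge' IH Gen.d 84 84 (by decide +kernel)
theorem F_43 (IH : D.IHyp) : ed Gen.c (D.P 84) = (D.P 103) :=
  D.real_edge' IH Gen.c 84 103 (by decide +kernel)
theorem F_44 (IH : D.IHyp) : ed Gen.f (D.P 86) = (D.P 70) :=
  D.real_edge' IH Gen.f 86 70 (by decide +kernel)
theorem F_45 (IH : D.IHyp) : ed Gen.e (D.P 70) = (D.P 70) :=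
  D.real_edge' IH Gen.e 70 70 (by decide +kernel)
theorem F_46 (IH : D.IHyp) : ed Gen.d (D.P 70) = (D.P 70) :=
  D.real_edge' IH Gen.d 70 70 (by decide +kernel)
theorem F_47 (IH : D.IHyp) : ed Gen.c (D.P 70) = (D.P 85) :=
  D.real_edge' IH Gen.c 70 85 (by decide +kernel)
theorem F_48 (IH : D.IHyp) : ed Gen.b (D.P 85) = (D.P 66) :=
  D.real_edge' IH Gen.b 85 66 (by decide +kernel)
theorem F_49 (IH : D.IHyp) : ed Gen.h (D.P 66) = (D.P 66) :=
  D.real_edge' IH Gen.h 66 66 (by decide +kernel)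
theorem F_50 (IH : D.IHyp) : ed Gen.g (D.P 66) = (D.P 66) :=
  D.real_edge' IH Gen.g 66 66 (by decide +kernel)
theorem F_51 (IH : D.IHyp) : ed Gen.f (D.P 66) = (D.P 83) :=
  D.real_edge' IH Gen.f 66 83 (by decide +kernel)
theorem F_52 (IH : D.IHyp) : ed Gen.e (D.P 83) = (D.P 103) :=
  D.real_edge' IH Gen.e 83 103 (by decide +kernel)
theorem F_53 (IH : D.IHyp) : ed Gen.d (D.P 103) = (D.P 122) :=
  D.real_edge' IH Gen.d 103 122 (by decide +kernel)
theorem F_54 (IH : D.IHyp) : ed Gen.c (D.P 122) = (D.P 122) :=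
  D.real_edge' IH Gen.c 122 122 (by decide +kernel)
theorem F_55 (IH : D.IHyp) : ed Gen.e (D.P 51) = (D.P 51) :=
  D.real_edge' IH Gen.e 51 51 (by decide +kernel)
theorem F_56 (IH : D.IHyp) : ed Gen.f (D.P 51) = (D.P 51) :=
  D.real_edge' IH Gen.f 51 51 (by decide +kernel)
theorem F_59 (IH : D.IHyp) : ed Gen.b (D.P 29) = (D.P 36) :=
  D.real_edge' IH Gen.b 29 36 (by decide +kernel)
theorem F_61 (IH : D.IHyp) : ed Gen.d (D.P 45) = (D.P 57) :=
  D.real_edge' IH Gen.d 45 57 (by decide +kernel)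
theorem F_63 (IH : D.IHyp) : ed Gen.f (D.P 71) = (D.P 71) :=
  D.real_edge' IH Gen.f 71 71 (by decide +kernel)
theorem F_66 (IH : D.IHyp) : ed Gen.b (D.P 89) = (D.P 89) :=
  D.real_edge' IH Gen.b 89 89 (by decide +kernel)
theorem F_67 (IH : D.IHyp) : ed Gen.c (D.P 89) = (D.P 89) :=
  D.real_edge' IH Gen.c 89 89 (by decide +kernel)
theorem F_68 (IH : D.IHyp) : ed Gen.d (D.P 89) = (D.P 106) :=
  D.real_edge' IH Gen.d 89 106 (by decide +kernel)
theorem F_71 (IH : D.IHyp) : ed Gen.g (D.P 155) = (D.P 185) :=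
  D.real_edge' IH Gen.g 155 185 (by decide +kernel)
theorem F_72 (IH : D.IHyp) : ed Gen.h (D.P 185) = (D.P 185) :=
  D.real_edge' IH Gen.h 185 185 (by decide +kernel)
theorem F_73 (IH : D.IHyp) : ed Gen.b (D.P 185) = (D.P 185) :=
  D.real_edge' IH Gen.b 185 185 (by decide +kernel)
theorem F_78 (IH : D.IHyp) : ed Gen.g (D.P 304) = (D.P 304) :=
  D.real_edge' IH Gen.g 304 304 (by decide +kernel)
theorem F_80 (IH : D.IHyp) : ed Gen.h (D.P 82) = (D.P 82) :=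
  D.real_edge' IH Gen.h 82 82 (by decide +kernel)
theorem F_81 (IH : D.IHyp) : ed Gen.g (D.P 82) = (D.P 65) :=
  D.real_edge' IH Gen.g 82 65 (by decide +kernel)
theorem F_82 (IH : D.IHyp) : ed Gen.f (D.P 65) = (D.P 50) :=
  D.real_edge' IH Gen.f 65 50 (by decide +kernel)
theorem F_83 (IH : D.IHyp) : ed Gen.e (D.P 50) = (D.P 50) :=
  D.real_edge' IH Gen.e 50 50 (by decide +kernel)
theorem F_84 (IH : D.IHyp) : ed Gen.d (D.P 50) = (D.P 37) :=
  D.real_edge' IH Gen.d 50 37 (by decide +kernel)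
theorem F_85 (IH : D.IHyp) : ed Gen.c (D.P 37) = (D.P 46) :=
  D.real_edge' IH Gen.c 37 46 (by decide +kernel)
theorem F_86 (IH : D.IHyp) : ed Gen.b (D.P 46) = (D.P 46) :=
  D.real_edge' IH Gen.b 46 46 (by decide +kernel)
theorem F_87 (IH : D.IHyp) : ed Gen.h (D.P 46) = (D.P 33) :=
  D.real_edge' IH Gen.h 46 33 (by decide +kernel)
theorem F_88 (IH : D.IHyp) : ed Gen.g (D.P 33) = (D.P 33) :=
  D.real_edge' IH Gen.g 33 33 (by decide +kernel)
theorem F_89 (IH : D.IHyp) : ed Gen.f (D.P 33) = (D.P 45) :=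
  D.real_edge' IH Gen.f 33 45 (by decide +kernel)
theorem F_90 (IH : D.IHyp) : ed Gen.e (D.P 45) = (D.P 45) :=
  D.real_edge' IH Gen.e 45 45 (by decide +kernel)
theorem F_91 (IH : D.IHyp) : ed Gen.c (D.P 57) = (D.P 57) :=
  D.real_edge' IH Gen.c 57 57 (by decide +kernel)
theorem F_92 (IH : D.IHyp) : ed Gen.b (D.P 57) = (D.P 57) :=
  D.real_edge' IH Gen.b 57 57 (by decide +kernel)
theorem F_93 (IH : D.IHyp) : ed Gen.h (D.P 57) = (D.P 74) :=
  D.real_edge' IH Gen.h 57 74 (by decide +kernel)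
theorem F_94 (IH : D.IHyp) : ed Gen.g (D.P 74) = (D.P 88) :=
  D.real_edge' IH Gen.g 74 88 (by decide +kernel)
theorem F_95 (IH : D.IHyp) : ed Gen.f (D.P 88) = (D.P 88) :=
  D.real_edge' IH Gen.f 88 88 (by decide +kernel)
theorem F_96 (IH : D.IHyp) : ed Gen.e (D.P 88) = (D.P 89) :=
  D.real_edge' IH Gen.e 88 89 (by decide +kernel)
theorem F_97 (IH : D.IHyp) : ed Gen.c (D.P 106) = (D.P 127) :=
  D.real_edge' IH Gen.c 106 127 (by decide +kernel)
theorem F_98 (IH : D.IHyp) : ed Gen.b (D.P 127) = (D.P 153) :=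
  D.real_edge' IH Gen.b 127 153 (by decide +kernel)
theorem F_99 (IH : D.IHyp) : ed Gen.h (D.P 153) = (D.P 153) :=
  D.real_edge' IH Gen.h 153 153 (by decide +kernel)
theorem F_100 (IH : D.IHyp) : ed Gen.g (D.P 153) = (D.P 148) :=
  D.real_edge' IH Gen.g 153 148 (by decide +kernel)
theorem F_101 (IH : D.IHyp) : ed Gen.f (D.P 148) = (D.P 148) :=
  D.real_edge' IH Gen.f 148 148 (by decide +kernel)
theorem F_102 (IH : D.IHyp) : ed Gen.e (D.P 148) = (D.P 175) :=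
  D.real_edge' IH Gen.e 148 175 (by decide +kernel)
theorem F_103 (IH : D.IHyp) : ed Gen.d (D.P 175) = (D.P 205) :=
  D.real_edge' IH Gen.d 175 205 (by decide +kernel)
theorem F_104 (IH : D.IHyp) : ed Gen.c (D.P 205) = (D.P 234) :=
  D.real_edge' IH Gen.c 205 234 (by decide +kernel)
theorem F_106 (IH : D.IHyp) : ed Gen.d (D.P 102) = (D.P 116) :=
  D.real_edge' IH Gen.d 102 116 (by decide +kernel)
theorem F_107 (IH : D.IHyp) : ed Gen.e (D.P 116) = (D.P 141) :=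
  D.real_edge' IH Gen.e 116 141 (by decide +kernel)
theorem F_108 (IH : D.IHyp) : ed Gen.f (D.P 141) = (D.P 170) :=
  D.real_edge' IH Gen.f 141 170 (by decide +kernel)
theorem F_109 (IH : D.IHyp) : ed Gen.g (D.P 170) = (D.P 202) :=
  D.real_edge' IH Gen.g 170 202 (by decide +kernel)
theorem F_110 (IH : D.IHyp) : ed Gen.h (D.P 202) = (D.P 218) :=
  D.real_edge' IH Gen.h 202 218 (by decide +kernel)
theorem F_114 (IH : D.IHyp) : ed Gen.e (D.P 178) = (D.P 178) :=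
  D.real_edge' IH Gen.e 178 178 (by decide +kernel)
theorem F_116 (IH : D.IHyp) : ed Gen.g (D.P 185) = (D.P 155) :=
  D.real_edge' IH Gen.g 185 155 (by decide +kernel)
theorem F_117 (IH : D.IHyp) : ed Gen.h (D.P 155) = (D.P 155) :=
  D.real_edge' IH Gen.h 155 155 (by decide +kernel)
theorem F_118 (IH : D.IHyp) : ed Gen.b (D.P 155) = (D.P 155) :=
  D.real_edge' IH Gen.b 155 155 (by decide +kernel)
theorem F_122 (IH : D.IHyp) : ed Gen.f (D.P 245) = (D.P 245) :=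
  D.real_edge' IH Gen.f 245 245 (by decide +kernel)
theorem F_143 (IH : D.IHyp) : ed Gen.h (D.P 36) = (D.P 49) :=
  D.real_edge' IH Gen.h 36 49 (by decide +kernel)
theorem F_145 (IH : D.IHyp) : ed Gen.b (D.P 37) = (D.P 30) :=
  D.real_edge' IH Gen.b 37 30 (by decide +kernel)
theorem F_151 (IH : D.IHyp) : ed Gen.f (D.P 30) = (D.P 39) :=
  D.real_edge' IH Gen.f 30 39 (by decide +kernel)
theorem F_152 (IH : D.IHyp) : ed Gen.e (D.P 39) = (D.P 39) :=
  D.real_edge' IH Gen.e 39 39 (by decide +kernel)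
theorem F_153 (IH : D.IHyp) : ed Gen.d (D.P 39) = (D.P 52) :=
  D.real_edge' IH Gen.d 39 52 (by decide +kernel)
theorem F_154 (IH : D.IHyp) : ed Gen.b (D.P 52) = (D.P 65) :=
  D.real_edge' IH Gen.b 52 65 (by decide +kernel)
theorem F_158 (IH : D.IHyp) : ed Gen.h (D.P 95) = (D.P 107) :=
  D.real_edge' IH Gen.h 95 107 (by decide +kernel)
theorem F_170 (IH : D.IHyp) : ed Gen.d (D.P 82) = (D.P 64) :=
  D.real_edge' IH Gen.d 82 64 (by decide +kernel)
theorem F_171 (IH : D.IHyp) : ed Gen.e (D.P 64) = (D.P 64) :=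
  D.real_edge' IH Gen.e 64 64 (by decide +kernel)
theorem F_172 (IH : D.IHyp) : ed Gen.f (D.P 64) = (D.P 64) :=
  D.real_edge' IH Gen.f 64 64 (by decide +kernel)
theorem F_173 (IH : D.IHyp) : ed Gen.d (D.P 64) = (D.P 82) :=
  D.real_edge' IH Gen.d 64 82 (by decide +kernel)
theorem F_174 (IH : D.IHyp) : ed Gen.i (D.P 82) = (D.P 82) :=
  D.real_edge' IH Gen.i 82 82 (by decide +kernel)
theorem F_175 (IH : D.IHyp) : ed Gen.c (D.P 64) = (D.P 77) :=
  D.real_edge' IH Gen.c 64 77 (by decide +kernel)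
theorem F_176 (IH : D.IHyp) : ed Gen.b (D.P 77) = (D.P 77) :=
  D.real_edge' IH Gen.b 77 77 (by decide +kernel)
theorem F_177 (IH : D.IHyp) : ed Gen.d (D.P 77) = (D.P 94) :=
  D.real_edge' IH Gen.d 77 94 (by decide +kernel)
theorem F_178 (IH : D.IHyp) : ed Gen.e (D.P 94) = (D.P 115) :=
  D.real_edge' IH Gen.e 94 115 (by decide +kernel)
theorem F_179 (IH : D.IHyp) : ed Gen.f (D.P 115) = (D.P 140) :=
  D.real_edge' IH Gen.f 115 140 (by decide +kernel)
theorem F_180 (IH : D.IHyp) : ed Gen.d (D.P 140) = (D.P 140) :=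
  D.real_edge' IH Gen.d 140 140 (by decide +kernel)
theorem F_181 (IH : D.IHyp) : ed Gen.h (D.P 140) = (D.P 152) :=
  D.real_edge' IH Gen.h 140 152 (by decide +kernel)
theorem F_182 (IH : D.IHyp) : ed Gen.i (D.P 152) = (D.P 150) :=
  D.real_edge' IH Gen.i 152 150 (by decide +kernel)
theorem F_183 (IH : D.IHyp) : ed Gen.d (D.P 150) = (D.P 131) :=
  D.real_edge' IH Gen.d 150 131 (by decide +kernel)
theorem F_184 (IH : D.IHyp) : ed Gen.c (D.P 131) = (D.P 158) :=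
  D.real_edge' IH Gen.c 131 158 (by decide +kernel)
theorem F_185 (IH : D.IHyp) : ed Gen.b (D.P 158) = (D.P 187) :=
  D.real_edge' IH Gen.b 158 187 (by decide +kernel)
theorem F_186 (IH : D.IHyp) : ed Gen.d (D.P 187) = (D.P 217) :=
  D.real_edge' IH Gen.d 187 217 (by decide +kernel)
theorem F_187 (IH : D.IHyp) : ed Gen.e (D.P 217) = (D.P 248) :=
  D.real_edge' IH Gen.e 217 248 (by decide +kernel)
theorem F_188 (IH : D.IHyp) : ed Gen.f (D.P 248) = (D.P 248) :=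
  D.real_edge' IH Gen.f 248 248 (by decide +kernel)
theorem F_189 (IH : D.IHyp) : ed Gen.d (D.P 248) = (D.P 230) :=
  D.real_edge' IH Gen.d 248 230 (by decide +kernel)
theorem F_190 (IH : D.IHyp) : ed Gen.h (D.P 230) = (D.P 230) :=
  D.real_edge' IH Gen.h 230 230 (by decide +kernel)
theorem F_191 (IH : D.IHyp) : ed Gen.i (D.P 230) = (D.P 255) :=
  D.real_edge' IH Gen.i 230 255 (by decide +kernel)
theorem F_192 (IH : D.IHyp) : ed Gen.d (D.P 255) = (D.P 273) :=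
  D.real_edge' IH Gen.d 255 273 (by decide +kernel)
theorem F_193 (IH : D.IHyp) : ed Gen.d V_365 = V_365 :=
  gap_rel RW_9 (path_edge (F_2 IH) (path_edge (F_15 IH) (path_edge (F_3 IH) (path_nil _))))
theorem F_195 (IH : D.IHyp) : ed Gen.b (D.P 86) = (D.P 68) :=
  D.real_edge' IH Gen.b 86 68 (by decide +kernel)
theorem F_196 (IH : D.IHyp) : ed Gen.h (D.P 86) = (D.P 86) :=
  D.real_edge' IH Gen.h 86 86 (by decide +kernel)
theorem F_202 (IH : D.IHyp) : ed Gen.g (D.P 30) = (D.P 30) :=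
  D.real_edge' IH Gen.g 30 30 (by decide +kernel)
theorem F_203 (IH : D.IHyp) : ed Gen.h (D.P 30) = (D.P 21) :=
  D.real_edge' IH Gen.h 30 21 (by decide +kernel)
theorem F_207 (IH : D.IHyp) : ed Gen.e (D.P 43) = (D.P 43) :=
  D.real_edge' IH Gen.e 43 43 (by decide +kernel)
theorem F_211 (IH : D.IHyp) : ed Gen.b (D.P 88) = (D.P 88) :=
  D.real_edge' IH Gen.b 88 88 (by decide +kernel)
theorem F_212 (IH : D.IHyp) : ed Gen.c (D.P 88) = (D.P 88) :=
  D.real_edge' IH Gen.c 88 88 (by decide +kernel)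
theorem F_218 (IH : D.IHyp) : ed Gen.b (D.P 169) = (D.P 169) :=
  D.real_edge' IH Gen.b 169 169 (by decide +kernel)
theorem F_233 (IH : D.IHyp) : ed Gen.b (D.P 83) = (D.P 102) :=
  D.real_edge' IH Gen.b 83 102 (by decide +kernel)
theorem F_234 (IH : D.IHyp) : ed Gen.c (D.P 102) = (D.P 86) :=
  D.real_edge' IH Gen.c 102 86 (by decide +kernel)
theorem F_236 (IH : D.IHyp) : ed Gen.h (D.P 65) = (D.P 65) :=
  D.real_edge' IH Gen.h 65 65 (by decide +kernel)
theorem F_237 (IH : D.IHyp) : ed Gen.g (D.P 65) = (D.P 82) :=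
  D.real_edge' IH Gen.g 65 82 (by decide +kernel)
theorem F_238 (IH : D.IHyp) : ed Gen.f (D.P 82) = (D.P 82) :=
  D.real_edge' IH Gen.f 82 82 (by decide +kernel)
theorem F_239 (IH : D.IHyp) : ed Gen.d (D.P 85) = (D.P 97) :=
  D.real_edge' IH Gen.d 85 97 (by decide +kernel)
theorem F_245 (IH : D.IHyp) : ed Gen.c (D.P 167) = (D.P 138) :=
  D.real_edge' IH Gen.c 167 138 (by decide +kernel)
theorem F_249 (IH : D.IHyp) : ed Gen.g (D.P 181) = (D.P 152) :=
  D.real_edge' IH Gen.g 181 152 (by decide +kernel)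
theorem F_270 (IH : D.IHyp) : ed Gen.d (D.P 29) = (D.P 29) :=
  D.real_edge' IH Gen.d 29 29 (by decide +kernel)
theorem F_319 (IH : D.IHyp) : ed Gen.f (D.P 170) = (D.P 141) :=
  D.real_edge' IH Gen.f 170 141 (by decide +kernel)
theorem F_327 (IH : D.IHyp) : ed Gen.c (D.P 157) = (D.P 176) :=
  D.real_edge' IH Gen.c 157 176 (by decide +kernel)
theorem F_343 (IH : D.IHyp) : ed Gen.c (D.P 29) = (D.P 29) :=
  D.real_edge' IH Gen.c 29 29 (by decide +kernel)
theorem F_354 (IH : D.IHyp) : ed Gen.d (D.P 192) = (D.P 223) :=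
  D.real_edge' IH Gen.d 192 223 (by decide +kernel)
theorem F_355 (IH : D.IHyp) : ed Gen.c (D.P 223) = (D.P 253) :=
  D.real_edge' IH Gen.c 223 253 (by decide +kernel)
theorem F_356 (IH : D.IHyp) : ed Gen.b (D.P 253) = (D.P 253) :=
  D.real_edge' IH Gen.b 253 253 (by decide +kernel)
theorem F_361 (IH : D.IHyp) : ed Gen.f (D.P 102) = (D.P 85) :=
  D.real_edge' IH Gen.f 102 85 (by decide +kernel)
theorem F_368 (IH : D.IHyp) : ed Gen.c (D.P 116) = (D.P 116) :=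
  D.real_edge' IH Gen.c 116 116 (by decide +kernel)
theorem F_369 (IH : D.IHyp) : ed Gen.d (D.P 116) = (D.P 102) :=
  D.real_edge' IH Gen.d 116 102 (by decide +kernel)
theorem F_386 (IH : D.IHyp) : ed Gen.d (D.P 143) = (D.P 171) :=
  D.real_edge' IH Gen.d 143 171 (by decide +kernel)
theorem F_387 (IH : D.IHyp) : ed Gen.h (D.P 171) = (D.P 204) :=
  D.real_edge' IH Gen.h 171 204 (by decide +kernel)
theorem F_389 (IH : D.IHyp) : ed Gen.f (D.P 21) = (D.P 29) :=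
  D.real_edge' IH Gen.f 21 29 (by decide +kernel)
theorem F_390 (IH : D.IHyp) : ed Gen.e (D.P 29) = (D.P 29) :=
  D.real_edge' IH Gen.e 29 29 (by decide +kernel)
theorem F_405 (IH : D.IHyp) : ed Gen.d (D.P 151) = (D.P 179) :=
  D.real_edge' IH Gen.d 151 179 (by decide +kernel)
theorem F_406 (IH : D.IHyp) : ed Gen.i (D.P 179) = (D.P 176) :=
  D.real_edge' IH Gen.i 179 176 (by decide +kernel)
theorem F_407 (IH : D.IHyp) : ed Gen.h (D.P 176) = (D.P 208) :=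
  D.real_edge' IH Gen.h 176 208 (by decide +kernel)
theorem F_412 (IH : D.IHyp) : ed Gen.b (D.P 301) = (D.P 327) :=
  D.real_edge' IH Gen.b 301 327 (by decide +kernel)
theorem F_413 (IH : D.IHyp) : ed Gen.d (D.P 66) = (D.P 79) :=
  D.real_edge' IH Gen.d 66 79 (by decide +kernel)
theorem F_426 (IH : D.IHyp) : ed Gen.e V_365 = V_366 :=
  rfl
theorem F_427 (IH : D.IHyp) : ed Gen.e V_366 = V_365 :=
  flipE D.rels D.S (hinv Gen.e) (F_426 IH)
theorem F_428 (IH : D.IHyp) : ed Gen.h V_366 = V_366 :=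
  gap_rel RW_10 (path_edge (F_426 IH) (path_edge (F_24 IH) (path_edge (F_427 IH) (path_nil _))))
theorem F_429 (IH : D.IHyp) : ed Gen.i V_366 = V_366 :=
  gap_rel RW_11 (path_edge (F_426 IH) (path_edge (F_25 IH) (path_edge (F_427 IH) (path_nil _))))
theorem F_430 (IH : D.IHyp) : ed Gen.b V_366 = V_367 :=
  rfl
theorem F_431 (IH : D.IHyp) : ed Gen.b V_367 = V_366 :=
  flipE D.rels D.S (hinv Gen.b) (F_430 IH)
theorem F_432 (IH : D.IHyp) : ed Gen.e V_367 = V_364 :=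
  gap_rel RW_12 (path_edge (F_430 IH) (path_edge (F_426 IH) (path_edge (F_2 IH) (path_nil _))))
theorem F_433 (IH : D.IHyp) : ed Gen.e V_364 = V_367 :=
  flipE D.rels D.S (hinv Gen.e) (F_432 IH)
theorem F_434 (IH : D.IHyp) : ed Gen.h V_367 = V_367 :=
  gap_rel RW_7 (path_edge (F_430 IH) (path_edge (F_428 IH) (path_edge (F_431 IH) (path_nil _))))
theorem F_435 (IH : D.IHyp) : ed Gen.i V_367 = V_367 :=
  gap_rel RW_8 (path_edge (F_430 IH) (path_edge (F_429 IH) (path_edge (F_431 IH) (path_nil _))))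
theorem F_436 (IH : D.IHyp) : ed Gen.e (D.P 67) = V_368 :=
  rfl
theorem F_437 (IH : D.IHyp) : ed Gen.e V_368 = (D.P 67) :=
  flipE D.rels D.S (hinv Gen.e) (F_436 IH)
theorem F_439 (IH : D.IHyp) : ed Gen.b (D.P 82) = (D.P 67) :=
  D.real_edge' IH Gen.b 82 67 (by decide +kernel)
theorem F_440 (IH : D.IHyp) : ed Gen.c V_367 = V_368 :=
  gap_rel RW_13 (path_edge (F_433 IH) (path_edge (F_0 IH) (path_edge (F_437 IH) (path_nil _))))
theorem F_441 (IH : D.IHyp) : ed Gen.c V_368 = V_367 :=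
  flipE D.rels D.S (hinv Gen.c) (F_440 IH)
theorem F_443 (IH : D.IHyp) : ed Gen.e (D.P 69) = (D.P 52) :=
  D.real_edge' IH Gen.e 69 52 (by decide +kernel)
theorem F_444 (IH : D.IHyp) : ed Gen.g V_368 = (D.P 69) :=
  gap_rel RW_14 (path_edge (F_436 IH) (path_edge (F_21 IH) (path_edge (F_443 IH) (path_nil _))))
theorem F_448 (IH : D.IHyp) : ed Gen.g (D.P 39) = (D.P 51) :=
  D.real_edge' IH Gen.g 39 51 (by decide +kernel)
theorem F_449 (IH : D.IHyp) : ed Gen.d V_368 = V_368 :=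
  gap_rel RW_15 (path_edge (F_436 IH) (path_edge (F_30 IH) (path_edge (F_55 IH) (path_edge (F_28 IH) (path_edge (F_437 IH) (path_nil _))))))
theorem F_452 (IH : D.IHyp) : ed Gen.d (D.P 101) = (D.P 114) :=
  D.real_edge' IH Gen.d 101 114 (by decide +kernel)
theorem F_453 (IH : D.IHyp) : ed Gen.e (D.P 114) = (D.P 139) :=
  D.real_edge' IH Gen.e 114 139 (by decide +kernel)
theorem F_454 (IH : D.IHyp) : ed Gen.f (D.P 139) = (D.P 168) :=
  D.real_edge' IH Gen.f 139 168 (by decide +kernel)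
theorem F_455 (IH : D.IHyp) : ed Gen.g (D.P 168) = (D.P 201) :=
  D.real_edge' IH Gen.g 168 201 (by decide +kernel)
theorem F_456 (IH : D.IHyp) : ed Gen.h (D.P 201) = (D.P 211) :=
  D.real_edge' IH Gen.h 201 211 (by decide +kernel)
theorem F_484 (IH : D.IHyp) : ed Gen.b (D.P 190) = (D.P 218) :=
  D.real_edge' IH Gen.b 190 218 (by decide +kernel)
theorem F_491 (IH : D.IHyp) : ed Gen.h (D.P 114) = (D.P 125) :=
  D.real_edge' IH Gen.h 114 125 (by decide +kernel)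
theorem F_493 (IH : D.IHyp) : ed Gen.f (D.P 125) = (D.P 125) :=
  D.real_edge' IH Gen.f 125 125 (by decide +kernel)
theorem F_494 (IH : D.IHyp) : ed Gen.e (D.P 125) = (D.P 151) :=
  D.real_edge' IH Gen.e 125 151 (by decide +kernel)
theorem F_497 (IH : D.IHyp) : ed Gen.d (D.P 105) = (D.P 88) :=
  D.real_edge' IH Gen.d 105 88 (by decide +kernel)
theorem F_503 (IH : D.IHyp) : ed Gen.f (D.P 83) = (D.P 66) :=
  D.real_edge' IH Gen.f 83 66 (by decide +kernel)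
theorem F_504 (IH : D.IHyp) : ed Gen.e (D.P 66) = (D.P 66) :=
  D.real_edge' IH Gen.e 66 66 (by decide +kernel)
theorem F_506 (IH : D.IHyp) : ed Gen.c (D.P 97) = (D.P 97) :=
  D.real_edge' IH Gen.c 97 97 (by decide +kernel)
theorem F_532 (IH : D.IHyp) : ed Gen.f (D.P 226) = (D.P 226) :=
  D.real_edge' IH Gen.f 226 226 (by decide +kernel)
theorem F_534 (IH : D.IHyp) : ed Gen.b (D.P 69) = (D.P 84) :=
  D.real_edge' IH Gen.b 69 84 (by decide +kernel)
theorem F_536 (IH : D.IHyp) : ed Gen.h (D.P 69) = (D.P 69) :=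
  D.real_edge' IH Gen.h 69 69 (by decide +kernel)
theorem F_538 (IH : D.IHyp) : ed Gen.f (D.P 69) = (D.P 69) :=
  D.real_edge' IH Gen.f 69 69 (by decide +kernel)
theorem F_560 (IH : D.IHyp) : ed Gen.e (D.P 122) = (D.P 142) :=
  D.real_edge' IH Gen.e 122 142 (by decide +kernel)
theorem F_561 (IH : D.IHyp) : ed Gen.f (D.P 142) = (D.P 171) :=
  D.real_edge' IH Gen.f 142 171 (by decide +kernel)
theorem F_562 (IH : D.IHyp) : ed Gen.g (D.P 171) = (D.P 203) :=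
  D.real_edge' IH Gen.g 171 203 (by decide +kernel)
theorem F_563 (IH : D.IHyp) : ed Gen.h (D.P 203) = (D.P 233) :=
  D.real_edge' IH Gen.h 203 233 (by decide +kernel)
theorem F_564 (IH : D.IHyp) : ed Gen.b (D.P 84) = (D.P 69) :=
  D.real_edge' IH Gen.b 84 69 (by decide +kernel)
theorem F_578 (IH : D.IHyp) : ed Gen.b (D.P 293) = (D.P 264) :=
  D.real_edge' IH Gen.b 293 264 (by decide +kernel)
theorem F_581 (IH : D.IHyp) : ed Gen.e (D.P 279) = (D.P 302) :=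
  D.real_edge' IH Gen.e 279 302 (by decide +kernel)
theorem F_585 (IH : D.IHyp) : ed Gen.h (D.P 122) = (D.P 147) :=
  D.real_edge' IH Gen.h 122 147 (by decide +kernel)
theorem F_589 (IH : D.IHyp) : ed Gen.d (D.P 172) = (D.P 189) :=
  D.real_edge' IH Gen.d 172 189 (by decide +kernel)
theorem F_627 (IH : D.IHyp) : ed Gen.d (D.P 57) = (D.P 45) :=
  D.real_edge' IH Gen.d 57 45 (by decide +kernel)
theorem F_657 (IH : D.IHyp) : ed Gen.b (D.P 183) = (D.P 212) :=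
  D.real_edge' IH Gen.b 183 212 (by decide +kernel)
theorem F_658 (IH : D.IHyp) : ed Gen.g V_367 = V_369 :=
  rfl
theorem F_659 (IH : D.IHyp) : ed Gen.g V_369 = V_367 :=
  flipE D.rels D.S (hinv Gen.g) (F_658 IH)
theorem F_660 (IH : D.IHyp) : ed Gen.c (D.P 69) = V_369 :=
  gap_rel RW_16 (path_edge (F_444 IH) (path_edge (F_440 IH) (path_edge (F_659 IH) (path_nil _))))
theorem F_661 (IH : D.IHyp) : ed Gen.c V_369 = (D.P 69) :=
  flipE D.rels D.S (hinv Gen.c) (F_660 IH)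
theorem F_662 (IH : D.IHyp) : ed Gen.e (D.P 68) = V_369 :=
  gap_rel RW_17 (path_edge (F_9 IH) (path_edge (F_432 IH) (path_edge (F_659 IH) (path_nil _))))
theorem F_663 (IH : D.IHyp) : ed Gen.e V_369 = (D.P 68) :=
  flipE D.rels D.S (hinv Gen.e) (F_662 IH)
theorem F_664 (IH : D.IHyp) : ed Gen.h V_369 = V_369 :=
  gap_rel RW_18 (path_edge (F_658 IH) (path_edge (F_434 IH) (path_edge (F_659 IH) (path_nil _))))
theorem F_666 (IH : D.IHyp) : ed Gen.f V_369 = V_369 :=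
  gap_rel RW_0 (path_edge (F_660 IH) (path_edge (F_538 IH) (path_edge (F_661 IH) (path_nil _))))
theorem F_667 (IH : D.IHyp) : ed Gen.c V_365 = V_370 :=
  rfl
theorem F_668 (IH : D.IHyp) : ed Gen.c V_370 = V_365 :=
  flipE D.rels D.S (hinv Gen.c) (F_667 IH)
theorem F_669 (IH : D.IHyp) : ed Gen.f V_370 = V_370 :=
  gap_rel RW_0 (path_edge (F_667 IH) (path_edge (F_16 IH) (path_edge (F_668 IH) (path_nil _))))
theorem F_670 (IH : D.IHyp) : ed Gen.g V_370 = (D.P 102) :=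
  gap_rel RW_1 (path_edge (F_667 IH) (path_edge (F_18 IH) (path_edge (F_234 IH) (path_nil _))))
theorem F_671 (IH : D.IHyp) : ed Gen.g (D.P 102) = V_370 :=
  flipE D.rels D.S (hinv Gen.g) (F_670 IH)
theorem F_672 (IH : D.IHyp) : ed Gen.h V_370 = V_370 :=
  gap_rel RW_2 (path_edge (F_667 IH) (path_edge (F_24 IH) (path_edge (F_668 IH) (path_nil _))))
theorem F_673 (IH : D.IHyp) : ed Gen.i V_370 = V_370 :=
  gap_rel RW_3 (path_edge (F_667 IH) (path_edge (F_25 IH) (path_edge (F_668 IH) (path_nil _))))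
theorem F_674 (IH : D.IHyp) : ed Gen.b (D.P 101) = V_370 :=
  gap_rel RW_19 (path_edge (F_27 IH) (path_edge (F_26 IH) (path_edge (F_1 IH) (path_edge (F_3 IH) (path_edge (F_668 IH) (path_nil _))))))
theorem F_675 (IH : D.IHyp) : ed Gen.b V_370 = (D.P 101) :=
  flipE D.rels D.S (hinv Gen.b) (F_674 IH)
theorem F_677 (IH : D.IHyp) : ed Gen.h (D.P 101) = (D.P 101) :=
  D.real_edge' IH Gen.h 101 101 (by decide +kernel)
theorem F_678 (IH : D.IHyp) : ed Gen.g (D.P 101) = (D.P 83) :=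
  D.real_edge' IH Gen.g 101 83 (by decide +kernel)
theorem F_679 (IH : D.IHyp) : ed Gen.c (D.P 79) = (D.P 62) :=
  D.real_edge' IH Gen.c 79 62 (by decide +kernel)
theorem F_680 (IH : D.IHyp) : ed Gen.b (D.P 62) = (D.P 62) :=
  D.real_edge' IH Gen.b 62 62 (by decide +kernel)
theorem F_681 (IH : D.IHyp) : ed Gen.h (D.P 62) = (D.P 76) :=
  D.real_edge' IH Gen.h 62 76 (by decide +kernel)
theorem F_682 (IH : D.IHyp) : ed Gen.g (D.P 76) = (D.P 76) :=
  D.real_edge' IH Gen.g 76 76 (by decide +kernel)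
theorem F_683 (IH : D.IHyp) : ed Gen.f (D.P 76) = (D.P 90) :=
  D.real_edge' IH Gen.f 76 90 (by decide +kernel)
theorem F_684 (IH : D.IHyp) : ed Gen.e (D.P 90) = (D.P 108) :=
  D.real_edge' IH Gen.e 90 108 (by decide +kernel)
theorem F_685 (IH : D.IHyp) : ed Gen.d (D.P 108) = (D.P 124) :=
  D.real_edge' IH Gen.d 108 124 (by decide +kernel)
theorem F_686 (IH : D.IHyp) : ed Gen.c (D.P 124) = (D.P 149) :=
  D.real_edge' IH Gen.c 124 149 (by decide +kernel)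
theorem F_687 (IH : D.IHyp) : ed Gen.b (D.P 149) = (D.P 175) :=
  D.real_edge' IH Gen.b 149 175 (by decide +kernel)
theorem F_688 (IH : D.IHyp) : ed Gen.h (D.P 175) = (D.P 175) :=
  D.real_edge' IH Gen.h 175 175 (by decide +kernel)
theorem F_689 (IH : D.IHyp) : ed Gen.g (D.P 175) = (D.P 182) :=
  D.real_edge' IH Gen.g 175 182 (by decide +kernel)
theorem F_690 (IH : D.IHyp) : ed Gen.f (D.P 182) = (D.P 213) :=
  D.real_edge' IH Gen.f 182 213 (by decide +kernel)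
theorem F_691 (IH : D.IHyp) : ed Gen.e (D.P 213) = (D.P 192) :=
  D.real_edge' IH Gen.e 213 192 (by decide +kernel)
theorem F_692 (IH : D.IHyp) : ed Gen.h (D.P 253) = (D.P 283) :=
  D.real_edge' IH Gen.h 253 283 (by decide +kernel)
theorem F_693 (IH : D.IHyp) : ed Gen.g (D.P 283) = (D.P 312) :=
  D.real_edge' IH Gen.g 283 312 (by decide +kernel)
theorem F_694 (IH : D.IHyp) : ed Gen.f (D.P 312) = (D.P 312) :=
  D.real_edge' IH Gen.f 312 312 (by decide +kernel)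
theorem F_695 (IH : D.IHyp) : ed Gen.e (D.P 312) = (D.P 335) :=
  D.real_edge' IH Gen.e 312 335 (by decide +kernel)
theorem F_698 (IH : D.IHyp) : ed Gen.b (D.P 36) = (D.P 29) :=
  D.real_edge' IH Gen.b 36 29 (by decide +kernel)
theorem F_699 (IH : D.IHyp) : ed Gen.g (D.P 21) = (D.P 21) :=
  D.real_edge' IH Gen.g 21 21 (by decide +kernel)
theorem F_700 (IH : D.IHyp) : ed Gen.h (D.P 21) = (D.P 30) :=
  D.real_edge' IH Gen.h 21 30 (by decide +kernel)
theorem F_703 (IH : D.IHyp) : ed Gen.b (D.P 138) = (D.P 138) :=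
  D.real_edge' IH Gen.b 138 138 (by decide +kernel)
theorem F_708 (IH : D.IHyp) : ed Gen.g (D.P 264) = (D.P 264) :=
  D.real_edge' IH Gen.g 264 264 (by decide +kernel)
theorem F_709 (IH : D.IHyp) : ed Gen.h (D.P 264) = (D.P 264) :=
  D.real_edge' IH Gen.h 264 264 (by decide +kernel)
theorem F_713 (IH : D.IHyp) : ed Gen.e (D.P 341) = (D.P 353) :=
  D.real_edge' IH Gen.e 341 353 (by decide +kernel)
theorem F_714 (IH : D.IHyp) : ed Gen.f (D.P 353) = (D.P 353) :=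
  D.real_edge' IH Gen.f 353 353 (by decide +kernel)
theorem F_715 (IH : D.IHyp) : ed Gen.g (D.P 353) = (D.P 353) :=
  D.real_edge' IH Gen.g 353 353 (by decide +kernel)
theorem F_716 (IH : D.IHyp) : ed Gen.e (D.P 85) = (D.P 85) :=
  D.real_edge' IH Gen.e 85 85 (by decide +kernel)
theorem F_717 (IH : D.IHyp) : ed Gen.b (D.P 97) = (D.P 79) :=
  D.real_edge' IH Gen.b 97 79 (by decide +kernel)
theorem F_718 (IH : D.IHyp) : ed Gen.h (D.P 79) = (D.P 92) :=
  D.real_edge' IH Gen.h 79 92 (by decide +kernel)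
theorem F_719 (IH : D.IHyp) : ed Gen.g (D.P 92) = (D.P 92) :=
  D.real_edge' IH Gen.g 92 92 (by decide +kernel)
theorem F_720 (IH : D.IHyp) : ed Gen.f (D.P 92) = (D.P 107) :=
  D.real_edge' IH Gen.f 92 107 (by decide +kernel)
theorem F_721 (IH : D.IHyp) : ed Gen.e (D.P 107) = (D.P 130) :=
  D.real_edge' IH Gen.e 107 130 (by decide +kernel)
theorem F_722 (IH : D.IHyp) : ed Gen.d (D.P 130) = (D.P 157) :=
  D.real_edge' IH Gen.d 130 157 (by decide +kernel)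
theorem F_723 (IH : D.IHyp) : ed Gen.b (D.P 176) = (D.P 205) :=
  D.real_edge' IH Gen.b 176 205 (by decide +kernel)
theorem F_724 (IH : D.IHyp) : ed Gen.h (D.P 205) = (D.P 236) :=
  D.real_edge' IH Gen.h 205 236 (by decide +kernel)
theorem F_726 (IH : D.IHyp) : ed Gen.b (D.P 26) = (D.P 21) :=
  D.real_edge' IH Gen.b 26 21 (by decide +kernel)
theorem F_758 (IH : D.IHyp) : ed Gen.i (D.P 183) = (D.P 157) :=
  D.real_edge' IH Gen.i 183 157 (by decide +kernel)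
theorem F_759 (IH : D.IHyp) : ed Gen.h (D.P 157) = (D.P 189) :=
  D.real_edge' IH Gen.h 157 189 (by decide +kernel)
theorem F_760 (IH : D.IHyp) : ed Gen.d (D.P 189) = (D.P 172) :=
  D.real_edge' IH Gen.d 189 172 (by decide +kernel)
theorem F_763 (IH : D.IHyp) : ed Gen.d (D.P 204) = (D.P 221) :=
  D.real_edge' IH Gen.d 204 221 (by decide +kernel)
theorem F_766 (IH : D.IHyp) : ed Gen.b (D.P 116) = (D.P 95) :=
  D.real_edge' IH Gen.b 116 95 (by decide +kernel)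
theorem F_769 (IH : D.IHyp) : ed Gen.g (D.P 107) = (D.P 125) :=
  D.real_edge' IH Gen.g 107 125 (by decide +kernel)
theorem F_770 (IH : D.IHyp) : ed Gen.c (D.P 179) = (D.P 183) :=
  D.real_edge' IH Gen.c 179 183 (by decide +kernel)
theorem F_809 (IH : D.IHyp) : ed Gen.f (D.P 57) = (D.P 43) :=
  D.real_edge' IH Gen.f 57 43 (by decide +kernel)
theorem F_810 (IH : D.IHyp) : ed Gen.d (D.P 43) = (D.P 33) :=
  D.real_edge' IH Gen.d 43 33 (by decide +kernel)
theorem F_812 (IH : D.IHyp) : ed Gen.c (D.P 33) = (D.P 26) :=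
  D.real_edge' IH Gen.c 33 26 (by decide +kernel)
theorem F_818 (IH : D.IHyp) : ed Gen.h (D.P 29) = (D.P 39) :=
  D.real_edge' IH Gen.h 29 39 (by decide +kernel)
theorem F_830 (IH : D.IHyp) : ed Gen.f (D.P 103) = (D.P 103) :=
  D.real_edge' IH Gen.f 103 103 (by decide +kernel)
theorem F_842 (IH : D.IHyp) : ed Gen.f (D.P 221) = (D.P 189) :=
  D.real_edge' IH Gen.f 221 189 (by decide +kernel)
theorem F_843 (IH : D.IHyp) : ed Gen.e (D.P 189) = (D.P 189) :=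
  D.real_edge' IH Gen.e 189 189 (by decide +kernel)
theorem F_850 (IH : D.IHyp) : ed Gen.d (D.P 62) = (D.P 46) :=
  D.real_edge' IH Gen.d 62 46 (by decide +kernel)
theorem F_901 (IH : D.IHyp) : ed Gen.b (D.P 143) = (D.P 170) :=
  D.real_edge' IH Gen.b 143 170 (by decide +kernel)
theorem F_906 (IH : D.IHyp) : ed Gen.c (D.P 46) = (D.P 37) :=
  D.real_edge' IH Gen.c 46 37 (by decide +kernel)
theorem F_912 (IH : D.IHyp) : ed Gen.d V_367 = V_371 :=
  rfl
theorem F_913 (IH : D.IHyp) : ed Gen.d V_371 = V_367 :=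
  flipE D.rels D.S (hinv Gen.d) (F_912 IH)
theorem F_915 (IH : D.IHyp) : ed Gen.c V_371 = V_371 :=
  gap_rel RW_20 (path_edge (F_912 IH) (path_edge (F_441 IH) (path_edge (F_449 IH) (path_edge (F_440 IH) (path_edge (F_913 IH) (path_nil _))))))
theorem F_916 (IH : D.IHyp) : ed Gen.e V_371 = V_371 :=
  gap_rel RW_21 (path_edge (F_912 IH) (path_edge (F_433 IH) (path_edge (F_15 IH) (path_edge (F_432 IH) (path_edge (F_913 IH) (path_nil _))))))
theorem F_917 (IH : D.IHyp) : ed Gen.f V_367 = V_372 :=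
  rfl
theorem F_918 (IH : D.IHyp) : ed Gen.f V_372 = V_367 :=
  flipE D.rels D.S (hinv Gen.f) (F_917 IH)
theorem F_919 (IH : D.IHyp) : ed Gen.h V_372 = V_372 :=
  gap_rel RW_22 (path_edge (F_917 IH) (path_edge (F_434 IH) (path_edge (F_918 IH) (path_nil _))))
theorem F_920 (IH : D.IHyp) : ed Gen.i V_372 = V_372 :=
  gap_rel RW_23 (path_edge (F_917 IH) (path_edge (F_435 IH) (path_edge (F_918 IH) (path_nil _))))
theorem F_921 (IH : D.IHyp) : ed Gen.e V_372 = V_372 :=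
  gap_rel RW_24 (path_edge (F_917 IH) (path_edge (F_433 IH) (path_edge (F_5 IH) (path_edge (F_432 IH) (path_edge (F_918 IH) (path_nil _))))))
theorem F_922 (IH : D.IHyp) : ed Gen.g V_372 = V_372 :=
  gap_rel RW_25 (path_edge (F_917 IH) (path_edge (F_659 IH) (path_edge (F_666 IH) (path_edge (F_658 IH) (path_edge (F_918 IH) (path_nil _))))))
theorem F_923 (IH : D.IHyp) : ed Gen.d V_370 = V_373 :=
  rfl
theorem F_924 (IH : D.IHyp) : ed Gen.d V_373 = V_370 :=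
  flipE D.rels D.S (hinv Gen.d) (F_923 IH)
theorem F_925 (IH : D.IHyp) : ed Gen.b (D.P 114) = V_373 :=
  gap_rel RW_26 (path_edge (F_452 IH) (path_edge (F_675 IH) (path_edge (F_924 IH) (path_nil _))))
theorem F_926 (IH : D.IHyp) : ed Gen.b V_373 = (D.P 114) :=
  flipE D.rels D.S (hinv Gen.b) (F_925 IH)
theorem F_927 (IH : D.IHyp) : ed Gen.f V_373 = V_373 :=
  gap_rel RW_27 (path_edge (F_923 IH) (path_edge (F_669 IH) (path_edge (F_924 IH) (path_nil _))))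
theorem F_928 (IH : D.IHyp) : ed Gen.g V_373 = (D.P 116) :=
  gap_rel RW_28 (path_edge (F_923 IH) (path_edge (F_671 IH) (path_edge (F_369 IH) (path_nil _))))
theorem F_929 (IH : D.IHyp) : ed Gen.g (D.P 116) = V_373 :=
  flipE D.rels D.S (hinv Gen.g) (F_928 IH)
theorem F_930 (IH : D.IHyp) : ed Gen.i V_373 = V_373 :=
  gap_rel RW_29 (path_edge (F_923 IH) (path_edge (F_673 IH) (path_edge (F_924 IH) (path_nil _))))
theorem F_967 (IH : D.IHyp) : ed Gen.b (D.P 290) = (D.P 317) :=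
  D.real_edge' IH Gen.b 290 317 (by decide +kernel)
theorem F_969 (IH : D.IHyp) : ed Gen.c (D.P 45) = (D.P 36) :=
  D.real_edge' IH Gen.c 45 36 (by decide +kernel)
theorem F_974 (IH : D.IHyp) : ed Gen.h (D.P 89) = (D.P 73) :=
  D.real_edge' IH Gen.h 89 73 (by decide +kernel)
theorem F_976 (IH : D.IHyp) : ed Gen.g (D.P 72) = (D.P 57) :=
  D.real_edge' IH Gen.g 72 57 (by decide +kernel)
theorem F_984 (IH : D.IHyp) : ed Gen.d (D.P 173) = (D.P 203) :=
  D.real_edge' IH Gen.d 173 203 (by decide +kernel)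
theorem F_1020 (IH : D.IHyp) : ed Gen.h (D.P 218) = (D.P 202) :=
  D.real_edge' IH Gen.h 218 202 (by decide +kernel)
theorem F_1026 (IH : D.IHyp) : ed Gen.g (D.P 121) = (D.P 99) :=
  D.real_edge' IH Gen.g 121 99 (by decide +kernel)
theorem F_1065 (IH : D.IHyp) : ed Gen.e (D.P 141) = (D.P 116) :=
  D.real_edge' IH Gen.e 141 116 (by decide +kernel)
theorem F_1090 (IH : D.IHyp) : ed Gen.g (D.P 134) = (D.P 163) :=
  D.real_edge' IH Gen.g 134 163 (by decide +kernel)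
theorem F_1103 (IH : D.IHyp) : ed Gen.h (D.P 88) = (D.P 72) :=
  D.real_edge' IH Gen.h 88 72 (by decide +kernel)
theorem F_1115 (IH : D.IHyp) : ed Gen.d (D.P 106) = (D.P 89) :=
  D.real_edge' IH Gen.d 106 89 (by decide +kernel)
theorem F_1117 (IH : D.IHyp) : ed Gen.e V_373 = V_374 :=
  rfl
theorem F_1118 (IH : D.IHyp) : ed Gen.e V_374 = V_373 :=
  flipE D.rels D.S (hinv Gen.e) (F_1117 IH)
theorem F_1119 (IH : D.IHyp) : ed Gen.b (D.P 139) = V_374 :=
  gap_rel RW_30 (path_edge (F_453 IH) (path_edge (F_926 IH) (path_edge (F_1118 IH) (path_nil _))))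
theorem F_1120 (IH : D.IHyp) : ed Gen.b V_374 = (D.P 139) :=
  flipE D.rels D.S (hinv Gen.b) (F_1119 IH)
theorem F_1122 (IH : D.IHyp) : ed Gen.g V_374 = (D.P 141) :=
  gap_rel RW_14 (path_edge (F_1117 IH) (path_edge (F_929 IH) (path_edge (F_1065 IH) (path_nil _))))
theorem F_1169 (IH : D.IHyp) : ed Gen.b (D.P 134) = (D.P 134) :=
  D.real_edge' IH Gen.b 134 134 (by decide +kernel)
theorem F_1179 (IH : D.IHyp) : ed Gen.b (D.P 212) = (D.P 183) :=
  D.real_edge' IH Gen.b 212 183 (by decide +kernel)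
theorem F_1180 (IH : D.IHyp) : ed Gen.c (D.P 183) = (D.P 179) :=
  D.real_edge' IH Gen.c 183 179 (by decide +kernel)
theorem F_1192 (IH : D.IHyp) : ed Gen.d (D.P 117) = (D.P 142) :=
  D.real_edge' IH Gen.d 117 142 (by decide +kernel)
theorem F_1207 (IH : D.IHyp) : ed Gen.h (D.P 130) = (D.P 117) :=
  D.real_edge' IH Gen.h 130 117 (by decide +kernel)
theorem F_1208 (IH : D.IHyp) : ed Gen.f (D.P 201) = (D.P 173) :=
  D.real_edge' IH Gen.f 201 173 (by decide +kernel)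
theorem F_1212 (IH : D.IHyp) : ed Gen.g (D.P 201) = (D.P 168) :=
  D.real_edge' IH Gen.g 201 168 (by decide +kernel)
theorem F_1248 (IH : D.IHyp) : ed Gen.e (D.P 71) = (D.P 57) :=
  D.real_edge' IH Gen.e 71 57 (by decide +kernel)
theorem F_1256 (IH : D.IHyp) : ed Gen.c (D.P 170) = (D.P 170) :=
  D.real_edge' IH Gen.c 170 170 (by decide +kernel)
theorem F_1257 (IH : D.IHyp) : ed Gen.b (D.P 170) = (D.P 143) :=
  D.real_edge' IH Gen.b 170 143 (by decide +kernel)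
theorem F_1260 (IH : D.IHyp) : ed Gen.i (D.P 170) = (D.P 170) :=
  D.real_edge' IH Gen.i 170 170 (by decide +kernel)
theorem F_1283 (IH : D.IHyp) : ed Gen.f (D.P 247) = (D.P 215) :=
  D.real_edge' IH Gen.f 247 215 (by decide +kernel)
theorem F_1285 (IH : D.IHyp) : ed Gen.d (D.P 215) = (D.P 215) :=
  D.real_edge' IH Gen.d 215 215 (by decide +kernel)
theorem F_1286 (IH : D.IHyp) : ed Gen.e (D.P 142) = (D.P 122) :=
  D.real_edge' IH Gen.e 142 122 (by decide +kernel)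
theorem F_1287 (IH : D.IHyp) : ed Gen.f (D.P 122) = (D.P 122) :=
  D.real_edge' IH Gen.f 122 122 (by decide +kernel)
theorem F_1288 (IH : D.IHyp) : ed Gen.d (D.P 122) = (D.P 103) :=
  D.real_edge' IH Gen.d 122 103 (by decide +kernel)
theorem F_1289 (IH : D.IHyp) : ed Gen.h (D.P 103) = (D.P 103) :=
  D.real_edge' IH Gen.h 103 103 (by decide +kernel)
theorem F_1290 (IH : D.IHyp) : ed Gen.i (D.P 103) = (D.P 103) :=
  D.real_edge' IH Gen.i 103 103 (by decide +kernel)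
theorem F_1298 (IH : D.IHyp) : ed Gen.d (D.P 306) = (D.P 276) :=
  D.real_edge' IH Gen.d 306 276 (by decide +kernel)
theorem F_1299 (IH : D.IHyp) : ed Gen.f (D.P 99) = (D.P 80) :=
  D.real_edge' IH Gen.f 99 80 (by decide +kernel)
theorem F_1300 (IH : D.IHyp) : ed Gen.e (D.P 80) = (D.P 62) :=
  D.real_edge' IH Gen.e 80 62 (by decide +kernel)
theorem F_1302 (IH : D.IHyp) : ed Gen.f V_374 = V_375 :=
  rfl
theorem F_1303 (IH : D.IHyp) : ed Gen.f V_375 = V_374 :=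
  flipE D.rels D.S (hinv Gen.f) (F_1302 IH)
theorem F_1304 (IH : D.IHyp) : ed Gen.b (D.P 168) = V_375 :=
  gap_rel RW_31 (path_edge (F_454 IH) (path_edge (F_1120 IH) (path_edge (F_1303 IH) (path_nil _))))
theorem F_1305 (IH : D.IHyp) : ed Gen.b V_375 = (D.P 168) :=
  flipE D.rels D.S (hinv Gen.b) (F_1304 IH)
theorem F_1334 (IH : D.IHyp) : ed Gen.f (D.P 155) = (D.P 128) :=
  D.real_edge' IH Gen.f 155 128 (by decide +kernel)
theorem F_1335 (IH : D.IHyp) : ed Gen.e (D.P 128) = (D.P 106) :=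
  D.real_edge' IH Gen.e 128 106 (by decide +kernel)
theorem F_1352 (IH : D.IHyp) : ed Gen.h (D.P 183) = (D.P 215) :=
  D.real_edge' IH Gen.h 183 215 (by decide +kernel)
theorem F_1357 (IH : D.IHyp) : ed Gen.c (D.P 201) = (D.P 169) :=
  D.real_edge' IH Gen.c 201 169 (by decide +kernel)
theorem F_1397 (IH : D.IHyp) : ed Gen.d (D.P 193) = (D.P 162) :=
  D.real_edge' IH Gen.d 193 162 (by decide +kernel)
theorem F_1401 (IH : D.IHyp) : ed Gen.g V_375 = V_376 :=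
  rfl
theorem F_1402 (IH : D.IHyp) : ed Gen.g V_376 = V_375 :=
  flipE D.rels D.S (hinv Gen.g) (F_1401 IH)
theorem F_1403 (IH : D.IHyp) : ed Gen.b (D.P 201) = V_376 :=
  gap_rel RW_32 (path_edge (F_455 IH) (path_edge (F_1305 IH) (path_edge (F_1402 IH) (path_nil _))))
theorem F_1404 (IH : D.IHyp) : ed Gen.b V_376 = (D.P 201) :=
  flipE D.rels D.S (hinv Gen.b) (F_1403 IH)
theorem F_1408 (IH : D.IHyp) : ed Gen.f (D.P 202) = V_376 :=
  gap_rel RW_33 (path_edge (F_109 IH) (path_edge (F_108 IH) (path_edge (F_1122 IH) (path_edge (F_1303 IH) (path_edge (F_1402 IH) (path_nil _))))))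
theorem F_1409 (IH : D.IHyp) : ed Gen.f V_376 = (D.P 202) :=
  flipE D.rels D.S (hinv Gen.f) (F_1408 IH)
theorem F_1410 (IH : D.IHyp) : ed Gen.g (D.P 202) = (D.P 170) :=
  D.real_edge' IH Gen.g 202 170 (by decide +kernel)
theorem F_1442 (IH : D.IHyp) : ed Gen.h (D.P 246) = (D.P 277) :=
  D.real_edge' IH Gen.h 246 277 (by decide +kernel)
theorem F_1444 (IH : D.IHyp) : ed Gen.h (D.P 169) = (D.P 181) :=
  D.real_edge' IH Gen.h 169 181 (by decide +kernel)
theorem F_1446 (IH : D.IHyp) : ed Gen.f (D.P 185) = (D.P 178) :=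
  D.real_edge' IH Gen.f 185 178 (by decide +kernel)
theorem F_1447 (IH : D.IHyp) : ed Gen.d (D.P 178) = (D.P 159) :=
  D.real_edge' IH Gen.d 178 159 (by decide +kernel)
theorem F_1449 (IH : D.IHyp) : ed Gen.c (D.P 159) = (D.P 190) :=
  D.real_edge' IH Gen.c 159 190 (by decide +kernel)
theorem F_1459 (IH : D.IHyp) : ed Gen.d (D.P 233) = (D.P 252) :=
  D.real_edge' IH Gen.d 233 252 (by decide +kernel)
theorem F_1460 (IH : D.IHyp) : ed Gen.c (D.P 181) = (D.P 211) :=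
  D.real_edge' IH Gen.c 181 211 (by decide +kernel)
theorem F_1465 (IH : D.IHyp) : ed Gen.d (D.P 211) = (D.P 242) :=
  D.real_edge' IH Gen.d 211 242 (by decide +kernel)
theorem F_1471 (IH : D.IHyp) : ed Gen.f (D.P 152) = (D.P 126) :=
  D.real_edge' IH Gen.f 152 126 (by decide +kernel)
theorem F_1472 (IH : D.IHyp) : ed Gen.e (D.P 126) = (D.P 105) :=
  D.real_edge' IH Gen.e 126 105 (by decide +kernel)
theorem F_1478 (IH : D.IHyp) : ed Gen.d (D.P 185) = (D.P 181) :=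
  D.real_edge' IH Gen.d 185 181 (by decide +kernel)
theorem F_1486 (IH : D.IHyp) : ed Gen.d (D.P 249) = (D.P 218) :=
  D.real_edge' IH Gen.d 249 218 (by decide +kernel)
theorem F_1514 (IH : D.IHyp) : ed Gen.d (D.P 200) = (D.P 167) :=
  D.real_edge' IH Gen.d 200 167 (by decide +kernel)
theorem F_1520 (IH : D.IHyp) : ed Gen.h V_376 = V_377 :=
  rfl
theorem F_1521 (IH : D.IHyp) : ed Gen.h V_377 = V_376 :=
  flipE D.rels D.S (hinv Gen.h) (F_1520 IH)
theorem F_1522 (IH : D.IHyp) : ed Gen.b (D.P 211) = V_377 :=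
  gap_rel RW_34 (path_edge (F_456 IH) (path_edge (F_1404 IH) (path_edge (F_1521 IH) (path_nil _))))
theorem F_1526 (IH : D.IHyp) : ed Gen.f (D.P 218) = V_377 :=
  gap_rel RW_35 (path_edge (F_110 IH) (path_edge (F_1409 IH) (path_edge (F_1521 IH) (path_nil _))))
theorem F_1528 (IH : D.IHyp) : ed Gen.f (D.P 163) = (D.P 163) :=
  D.real_edge' IH Gen.f 163 163 (by decide +kernel)
theorem F_1530 (IH : D.IHyp) : ed Gen.h (D.P 134) = (D.P 134) :=
  D.real_edge' IH Gen.h 134 134 (by decide +kernel)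
theorem F_1556 (IH : D.IHyp) : ed Gen.c (D.P 322) = (D.P 293) :=
  D.real_edge' IH Gen.c 322 293 (by decide +kernel)
theorem F_1557 (IH : D.IHyp) : ed Gen.d (D.P 293) = (D.P 307) :=
  D.real_edge' IH Gen.d 293 307 (by decide +kernel)
theorem F_1571 (IH : D.IHyp) : ed Gen.e (D.P 242) = (D.P 272) :=
  D.real_edge' IH Gen.e 242 272 (by decide +kernel)
theorem F_1572 (IH : D.IHyp) : ed Gen.f (D.P 272) = (D.P 302) :=
  D.real_edge' IH Gen.f 272 302 (by decide +kernel)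
theorem F_1581 (IH : D.IHyp) : ed Gen.f (D.P 280) = (D.P 308) :=
  D.real_edge' IH Gen.f 280 308 (by decide +kernel)
theorem F_1609 (IH : D.IHyp) : ed Gen.c (D.P 242) = (D.P 246) :=
  D.real_edge' IH Gen.c 242 246 (by decide +kernel)
theorem F_1610 (IH : D.IHyp) : ed Gen.d (D.P 246) = (D.P 216) :=
  D.real_edge' IH Gen.d 246 216 (by decide +kernel)
theorem F_1611 (IH : D.IHyp) : ed Gen.c (D.P 216) = (D.P 185) :=
  D.real_edge' IH Gen.c 216 185 (by decide +kernel)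
theorem F_1635 (IH : D.IHyp) : ed Gen.e (D.P 277) = (D.P 305) :=
  D.real_edge' IH Gen.e 277 305 (by decide +kernel)
theorem F_1668 (IH : D.IHyp) : ed Gen.e (D.P 278) = (D.P 249) :=
  D.real_edge' IH Gen.e 278 249 (by decide +kernel)
theorem F_1725 (IH : D.IHyp) : ed Gen.c (D.P 184) = (D.P 155) :=
  D.real_edge' IH Gen.c 184 155 (by decide +kernel)
theorem F_1751 (IH : D.IHyp) : ed Gen.d (D.P 335) = V_378 :=
  rfl
theorem F_1752 (IH : D.IHyp) : ed Gen.d V_378 = (D.P 335) :=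
  flipE D.rels D.S (hinv Gen.d) (F_1751 IH)
theorem F_1753 (IH : D.IHyp) : ed Gen.b (D.P 335) = (D.P 335) :=
  D.real_edge' IH Gen.b 335 335 (by decide +kernel)
theorem F_1754 (IH : D.IHyp) : ed Gen.b V_378 = V_378 :=
  gap_rel RW_26 (path_edge (F_1751 IH) (path_edge (F_1753 IH) (path_edge (F_1752 IH) (path_nil _))))
theorem F_1766 (IH : D.IHyp) : ed Gen.c (D.P 335) = (D.P 316) :=
  D.real_edge' IH Gen.c 335 316 (by decide +kernel)
theorem F_1796 (IH : D.IHyp) : ed Gen.b (D.P 316) = (D.P 289) :=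
  D.real_edge' IH Gen.b 316 289 (by decide +kernel)
theorem F_1813 (IH : D.IHyp) : ed Gen.h (D.P 289) = (D.P 258) :=
  D.real_edge' IH Gen.h 289 258 (by decide +kernel)
theorem F_1814 (IH : D.IHyp) : ed Gen.g (D.P 258) = (D.P 226) :=
  D.real_edge' IH Gen.g 258 226 (by decide +kernel)
theorem F_1815 (IH : D.IHyp) : ed Gen.e (D.P 226) = (D.P 193) :=
  D.real_edge' IH Gen.e 226 193 (by decide +kernel)
theorem F_1816 (IH : D.IHyp) : ed Gen.c (D.P 162) = (D.P 134) :=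
  D.real_edge' IH Gen.c 162 134 (by decide +kernel)
theorem F_1817 (IH : D.IHyp) : ed Gen.e (D.P 163) = (D.P 185) :=
  D.real_edge' IH Gen.e 163 185 (by decide +kernel)
theorem F_1846 (IH : D.IHyp) : ed Gen.g (D.P 212) = (D.P 205) :=
  D.real_edge' IH Gen.g 212 205 (by decide +kernel)
theorem F_1848 (IH : D.IHyp) : ed Gen.c (D.P 208) = (D.P 189) :=
  D.real_edge' IH Gen.c 208 189 (by decide +kernel)
theorem F_1849 (IH : D.IHyp) : ed Gen.e (D.P 172) = (D.P 147) :=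
  D.real_edge' IH Gen.e 172 147 (by decide +kernel)
theorem F_1859 (IH : D.IHyp) : ed Gen.f (D.P 204) = (D.P 172) :=
  D.real_edge' IH Gen.f 204 172 (by decide +kernel)
theorem F_1865 (IH : D.IHyp) : ed Gen.c (D.P 279) = (D.P 299) :=
  D.real_edge' IH Gen.c 279 299 (by decide +kernel)
theorem F_1866 (IH : D.IHyp) : ed Gen.b (D.P 299) = (D.P 325) :=
  D.real_edge' IH Gen.b 299 325 (by decide +kernel)
theorem F_1881 (IH : D.IHyp) : ed Gen.e V_378 = V_379 :=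
  rfl
theorem F_1882 (IH : D.IHyp) : ed Gen.e V_379 = V_378 :=
  flipE D.rels D.S (hinv Gen.e) (F_1881 IH)
theorem F_1883 (IH : D.IHyp) : ed Gen.b V_379 = V_379 :=
  gap_rel RW_30 (path_edge (F_1881 IH) (path_edge (F_1754 IH) (path_edge (F_1882 IH) (path_nil _))))
theorem F_1885 (IH : D.IHyp) : ed Gen.f V_379 = V_380 :=
  rfl
theorem F_1886 (IH : D.IHyp) : ed Gen.f V_380 = V_379 :=
  flipE D.rels D.S (hinv Gen.f) (F_1885 IH)
theorem F_1887 (IH : D.IHyp) : ed Gen.b V_380 = V_380 :=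
  gap_rel RW_31 (path_edge (F_1885 IH) (path_edge (F_1883 IH) (path_edge (F_1886 IH) (path_nil _))))
theorem F_1889 (IH : D.IHyp) : ed Gen.g V_380 = V_381 :=
  rfl
theorem F_1890 (IH : D.IHyp) : ed Gen.g V_381 = V_380 :=
  flipE D.rels D.S (hinv Gen.g) (F_1889 IH)
theorem F_1891 (IH : D.IHyp) : ed Gen.b V_381 = V_381 :=
  gap_rel RW_32 (path_edge (F_1889 IH) (path_edge (F_1887 IH) (path_edge (F_1890 IH) (path_nil _))))
theorem F_1893 (IH : D.IHyp) : ed Gen.h V_381 = V_382 :=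
  rfl
theorem F_1894 (IH : D.IHyp) : ed Gen.h V_382 = V_381 :=
  flipE D.rels D.S (hinv Gen.h) (F_1893 IH)
theorem F_1895 (IH : D.IHyp) : ed Gen.b V_382 = V_382 :=
  gap_rel RW_34 (path_edge (F_1893 IH) (path_edge (F_1891 IH) (path_edge (F_1894 IH) (path_nil _))))
theorem F_1896 (IH : D.IHyp) : ed Gen.c V_382 = V_383 :=
  rfl
theorem F_1897 (IH : D.IHyp) : ed Gen.c V_383 = V_382 :=
  flipE D.rels D.S (hinv Gen.c) (F_1896 IH)
theorem F_1898 (IH : D.IHyp) : ed Gen.d V_383 = V_384 :=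
  rfl
theorem F_1899 (IH : D.IHyp) : ed Gen.d V_384 = V_383 :=
  flipE D.rels D.S (hinv Gen.d) (F_1898 IH)
theorem F_1900 (IH : D.IHyp) : ed Gen.e V_384 = V_385 :=
  rfl
theorem F_1901 (IH : D.IHyp) : ed Gen.e V_385 = V_384 :=
  flipE D.rels D.S (hinv Gen.e) (F_1900 IH)
theorem F_1902 (IH : D.IHyp) : ed Gen.f V_385 = V_386 :=
  rfl
theorem F_1903 (IH : D.IHyp) : ed Gen.f V_386 = V_385 :=
  flipE D.rels D.S (hinv Gen.f) (F_1902 IH)
theorem F_1904 (IH : D.IHyp) : ed Gen.g V_386 = V_387 :=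
  rfl
theorem F_1905 (IH : D.IHyp) : ed Gen.g V_387 = V_386 :=
  flipE D.rels D.S (hinv Gen.g) (F_1904 IH)
theorem F_1906 (IH : D.IHyp) : ed Gen.h V_387 = V_388 :=
  rfl
theorem F_1907 (IH : D.IHyp) : ed Gen.h V_388 = V_387 :=
  flipE D.rels D.S (hinv Gen.h) (F_1906 IH)
theorem F_1908 (IH : D.IHyp) : ed Gen.b V_388 = V_389 :=
  rfl
theorem F_1909 (IH : D.IHyp) : ed Gen.b V_389 = V_388 :=
  flipE D.rels D.S (hinv Gen.b) (F_1908 IH)
theorem F_1910 (IH : D.IHyp) : ed Gen.c V_389 = V_390 :=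
  rfl
theorem F_1911 (IH : D.IHyp) : ed Gen.c V_390 = V_389 :=
  flipE D.rels D.S (hinv Gen.c) (F_1910 IH)
theorem F_1912 (IH : D.IHyp) : ed Gen.d V_390 = V_391 :=
  rfl
theorem F_1913 (IH : D.IHyp) : ed Gen.d V_391 = V_390 :=
  flipE D.rels D.S (hinv Gen.d) (F_1912 IH)
theorem F_1914 (IH : D.IHyp) : ed Gen.e V_391 = V_392 :=
  rfl
theorem F_1915 (IH : D.IHyp) : ed Gen.e V_392 = V_391 :=
  flipE D.rels D.S (hinv Gen.e) (F_1914 IH)
theorem F_1916 (IH : D.IHyp) : ed Gen.f V_392 = V_393 :=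
  rfl
theorem F_1917 (IH : D.IHyp) : ed Gen.f V_393 = V_392 :=
  flipE D.rels D.S (hinv Gen.f) (F_1916 IH)
theorem F_1918 (IH : D.IHyp) : ed Gen.g V_393 = V_394 :=
  rfl
theorem F_1919 (IH : D.IHyp) : ed Gen.g V_394 = V_393 :=
  flipE D.rels D.S (hinv Gen.g) (F_1918 IH)
theorem F_1920 (IH : D.IHyp) : ed Gen.h V_394 = V_395 :=
  rfl
theorem F_1921 (IH : D.IHyp) : ed Gen.h V_395 = V_394 :=
  flipE D.rels D.S (hinv Gen.h) (F_1920 IH)
theorem F_1922 (IH : D.IHyp) : ed Gen.b V_395 = V_396 :=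
  rfl
theorem F_1923 (IH : D.IHyp) : ed Gen.b V_396 = V_395 :=
  flipE D.rels D.S (hinv Gen.b) (F_1922 IH)
theorem F_1924 (IH : D.IHyp) : ed Gen.c V_396 = V_397 :=
  rfl
theorem F_1925 (IH : D.IHyp) : ed Gen.c V_397 = V_396 :=
  flipE D.rels D.S (hinv Gen.c) (F_1924 IH)
theorem F_1926 (IH : D.IHyp) : ed Gen.d V_397 = V_398 :=
  rfl
theorem F_1927 (IH : D.IHyp) : ed Gen.d V_398 = V_397 :=
  flipE D.rels D.S (hinv Gen.d) (F_1926 IH)
theorem F_1928 (IH : D.IHyp) : ed Gen.e V_398 = V_399 :=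
  rfl
theorem F_1929 (IH : D.IHyp) : ed Gen.e V_399 = V_398 :=
  flipE D.rels D.S (hinv Gen.e) (F_1928 IH)
theorem F_1930 (IH : D.IHyp) : ed Gen.f V_399 = V_400 :=
  rfl
theorem F_1931 (IH : D.IHyp) : ed Gen.f V_400 = V_399 :=
  flipE D.rels D.S (hinv Gen.f) (F_1930 IH)
theorem F_1932 (IH : D.IHyp) : ed Gen.g V_400 = V_401 :=
  rfl
theorem F_1933 (IH : D.IHyp) : ed Gen.g V_401 = V_400 :=
  flipE D.rels D.S (hinv Gen.g) (F_1932 IH)
theorem F_1934 (IH : D.IHyp) : ed Gen.h V_401 = V_402 :=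
  rfl
theorem F_1935 (IH : D.IHyp) : ed Gen.h V_402 = V_401 :=
  flipE D.rels D.S (hinv Gen.h) (F_1934 IH)
theorem F_1936 (IH : D.IHyp) : ed Gen.b (D.P 103) = V_402 :=
  gap_rel RW_36 (path_edge (F_43 IH) (path_edge (F_42 IH) (path_edge (F_41 IH) (path_edge (F_40 IH) (path_edge (F_39 IH) (path_edge (F_38 IH) (path_edge (F_37 IH) (path_edge (F_36 IH) (path_edge (F_35 IH) (path_edge (F_34 IH) (path_edge (F_31 IH) (path_edge (F_9 IH) (path_edge (F_11 IH) (path_edge (F_3 IH) (path_edge (F_668 IH) (path_edge (F_924 IH) (path_edge (F_1118 IH) (path_edge (F_1303 IH) (path_edge (F_1402 IH) (path_edge (F_1521 IH) (path_edge (F_1522 IH) (path_edge (F_1460 IH) (path_edge (F_1478 IH) (path_edge (F_1817 IH) (path_edge (F_1528 IH) (path_edge (F_1090 IH) (path_edge (F_1530 IH) (path_edge (F_1169 IH) (path_edge (F_1816 IH) (path_edge (F_1397 IH) (path_edge (F_1815 IH) (path_edge (F_532 IH) (path_edge (F_1814 IH) (path_edge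 (F_1813 IH) (path_edge (F_1796 IH) (path_edge (F_1766 IH) (path_edge (F_1752 IH) (path_edge (F_1882 IH) (path_edge (F_1886 IH) (path_edge (F_1890 IH) (path_edge (F_1894 IH) (path_edge (F_1895 IH) (path_edge (F_1897 IH) (path_edge (F_1899 IH) (path_edge (F_1901 IH) (path_edge (F_1903 IH) (path_edge (F_1905 IH) (path_edge (F_1907 IH) (path_edge (F_1909 IH) (path_edge (F_1911 IH) (path_edge (F_1913 IH) (path_edge (F_1915 IH) (path_edge (F_1917 IH) (path_edge (F_1919 IH) (path_edge (F_1921 IH) (path_edge (F_1923 IH) (path_edge (F_1925 IH) (path_edge (F_1927 IH) (path_edge (F_1929 IH) (path_edge (F_1931 IH) (path_edge (F_1933 IH) (path_edge (F_1935 IH) (path_nil _)))))))))))))))))))))))))))))))))))))))))))))))))))))))))))))))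
theorem F_1937 (IH : D.IHyp) : ed Gen.b V_402 = (D.P 103) :=
  flipE D.rels D.S (hinv Gen.b) (F_1936 IH)
theorem F_1938 (IH : D.IHyp) : ed Gen.c (D.P 103) = (D.P 84) :=
  D.real_edge' IH Gen.c 103 84 (by decide +kernel)
theorem F_1940 (IH : D.IHyp) : ed Gen.e (D.P 103) = (D.P 83) :=
  D.real_edge' IH Gen.e 103 83 (by decide +kernel)
theorem F_1941 (IH : D.IHyp) : ed Gen.e (D.P 102) = V_402 :=
  gap_rel RW_12 (path_edge (F_233 IH) (path_edge (F_1940 IH) (path_edge (F_1937 IH) (path_nil _))))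
theorem F_1942 (IH : D.IHyp) : ed Gen.e V_402 = (D.P 102) :=
  flipE D.rels D.S (hinv Gen.e) (F_1941 IH)
theorem F_1943 (IH : D.IHyp) : ed Gen.f V_402 = V_402 :=
  gap_rel RW_5 (path_edge (F_1936 IH) (path_edge (F_830 IH) (path_edge (F_1937 IH) (path_nil _))))
theorem F_1944 (IH : D.IHyp) : V_402 = V_401 :=
  loop_rel RW_7 (path_edge (F_1935 IH) (path_edge (F_1936 IH) (path_edge (F_1289 IH) (path_edge (F_1937 IH) (path_nil _)))))
theorem F_1945 (IH : D.IHyp) : ed Gen.b V_401 = (D.P 103) :=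
  edge_congr (F_1937 IH) (F_1944 IH)
theorem F_1946 (IH : D.IHyp) : ed Gen.b (D.P 103) = V_401 :=
  flipE D.rels D.S (hinv Gen.b) (F_1945 IH)
theorem F_1947 (IH : D.IHyp) : ed Gen.e V_401 = (D.P 102) :=
  edge_congr (F_1942 IH) (F_1944 IH)
theorem F_1949 (IH : D.IHyp) : ed Gen.f V_402 = V_401 :=
  (F_1943 IH).trans (F_1944 IH)
theorem F_1950 (IH : D.IHyp) : ed Gen.f V_401 = V_401 :=
  edge_congr (F_1949 IH) (F_1944 IH)
theorem F_1951 (IH : D.IHyp) : ed Gen.h V_401 = V_401 :=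
  edge_congr (F_1935 IH) (F_1944 IH)
theorem F_1952 (IH : D.IHyp) : ed Gen.i V_401 = V_401 :=
  gap_rel RW_8 (path_edge (F_1946 IH) (path_edge (F_1290 IH) (path_edge (F_1945 IH) (path_nil _))))
theorem F_1953 (IH : D.IHyp) : ed Gen.e V_370 = V_400 :=
  gap_rel RW_17 (path_edge (F_671 IH) (path_edge (F_1947 IH) (path_edge (F_1932 IH) (path_nil _))))
theorem F_1954 (IH : D.IHyp) : ed Gen.e V_400 = V_370 :=
  flipE D.rels D.S (hinv Gen.e) (F_1953 IH)
theorem F_1955 (IH : D.IHyp) : ed Gen.h V_400 = V_400 :=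
  gap_rel RW_18 (path_edge (F_1933 IH) (path_edge (F_1951 IH) (path_edge (F_1932 IH) (path_nil _))))
theorem F_1956 (IH : D.IHyp) : ed Gen.i V_400 = V_400 :=
  gap_rel RW_37 (path_edge (F_1933 IH) (path_edge (F_1952 IH) (path_edge (F_1932 IH) (path_nil _))))
theorem F_1961 (IH : D.IHyp) : ed Gen.d (D.P 171) = (D.P 143) :=
  D.real_edge' IH Gen.d 171 143 (by decide +kernel)
theorem F_1965 (IH : D.IHyp) : ed Gen.h (D.P 147) = (D.P 122) :=
  D.real_edge' IH Gen.h 147 122 (by decide +kernel)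
theorem F_1981 (IH : D.IHyp) : ed Gen.c V_366 = V_400 :=
  gap_rel RW_13 (path_edge (F_426 IH) (path_edge (F_668 IH) (path_edge (F_1954 IH) (path_nil _))))
theorem F_1982 (IH : D.IHyp) : ed Gen.c V_400 = V_366 :=
  flipE D.rels D.S (hinv Gen.c) (F_1981 IH)
theorem F_1983 (IH : D.IHyp) : ed Gen.f V_398 = V_400 :=
  gap_rel RW_38 (path_edge (F_1929 IH) (path_edge (F_1931 IH) (path_edge (F_1953 IH) (path_edge (F_669 IH) (path_edge (F_1954 IH) (path_nil _))))))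
theorem F_1984 (IH : D.IHyp) : ed Gen.f V_400 = V_398 :=
  flipE D.rels D.S (hinv Gen.f) (F_1983 IH)
theorem F_1985 (IH : D.IHyp) : V_399 = V_398 :=
  edge_fun (F_1931 IH) (F_1984 IH)
theorem F_1987 (IH : D.IHyp) : ed Gen.f V_398 = V_400 :=
  edge_congr (F_1930 IH) (F_1985 IH)
theorem F_1988 (IH : D.IHyp) : ed Gen.f V_400 = V_398 :=
  flipE D.rels D.S (hinv Gen.f) (F_1987 IH)
theorem F_2005 (IH : D.IHyp) : ed Gen.b (D.P 122) = V_403 :=
  rfl
theorem F_2006 (IH : D.IHyp) : ed Gen.b V_403 = (D.P 122) :=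
  flipE D.rels D.S (hinv Gen.b) (F_2005 IH)
theorem F_2007 (IH : D.IHyp) : ed Gen.d V_403 = V_401 :=
  gap_rel RW_9 (path_edge (F_2005 IH) (path_edge (F_53 IH) (path_edge (F_1945 IH) (path_nil _))))
theorem F_2008 (IH : D.IHyp) : ed Gen.d V_401 = V_403 :=
  flipE D.rels D.S (hinv Gen.d) (F_2007 IH)
theorem F_2009 (IH : D.IHyp) : ed Gen.f V_403 = V_403 :=
  gap_rel RW_5 (path_edge (F_2005 IH) (path_edge (F_1287 IH) (path_edge (F_2006 IH) (path_nil _))))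
theorem F_2016 (IH : D.IHyp) : ed Gen.e (D.P 171) = (D.P 171) :=
  D.real_edge' IH Gen.e 171 171 (by decide +kernel)
theorem F_2017 (IH : D.IHyp) : ed Gen.f (D.P 171) = (D.P 142) :=
  D.real_edge' IH Gen.f 171 142 (by decide +kernel)
theorem F_2018 (IH : D.IHyp) : ed Gen.h V_403 = V_404 :=
  rfl
theorem F_2019 (IH : D.IHyp) : ed Gen.h V_404 = V_403 :=
  flipE D.rels D.S (hinv Gen.h) (F_2018 IH)
theorem F_2020 (IH : D.IHyp) : ed Gen.b (D.P 147) = V_404 :=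
  gap_rel RW_34 (path_edge (F_585 IH) (path_edge (F_2006 IH) (path_edge (F_2019 IH) (path_nil _))))
theorem F_2021 (IH : D.IHyp) : ed Gen.b V_404 = (D.P 147) :=
  flipE D.rels D.S (hinv Gen.b) (F_2020 IH)
theorem F_2022 (IH : D.IHyp) : ed Gen.f V_404 = V_404 :=
  gap_rel RW_35 (path_edge (F_2018 IH) (path_edge (F_2009 IH) (path_edge (F_2019 IH) (path_nil _))))
theorem F_2023 (IH : D.IHyp) : ed Gen.d V_404 = V_404 :=
  gap_rel RW_39 (path_edge (F_2018 IH) (path_edge (F_2008 IH) (path_edge (F_1951 IH) (path_edge (F_2007 IH) (path_edge (F_2019 IH) (path_nil _))))))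
theorem F_2025 (IH : D.IHyp) : ed Gen.h (D.P 233) = (D.P 203) :=
  D.real_edge' IH Gen.h 233 203 (by decide +kernel)
theorem F_2027 (IH : D.IHyp) : ed Gen.d (D.P 214) = (D.P 184) :=
  D.real_edge' IH Gen.d 214 184 (by decide +kernel)
theorem F_2031 (IH : D.IHyp) : ed Gen.c (D.P 172) = (D.P 172) :=
  D.real_edge' IH Gen.c 172 172 (by decide +kernel)
theorem F_2038 (IH : D.IHyp) : ed Gen.g V_404 = V_405 :=
  rfl
theorem F_2039 (IH : D.IHyp) : ed Gen.g V_405 = V_404 :=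
  flipE D.rels D.S (hinv Gen.g) (F_2038 IH)
theorem F_2040 (IH : D.IHyp) : ed Gen.d V_405 = V_405 :=
  gap_rel RW_4 (path_edge (F_2038 IH) (path_edge (F_2023 IH) (path_edge (F_2039 IH) (path_nil _))))
theorem F_2041 (IH : D.IHyp) : ed Gen.f V_405 = V_406 :=
  rfl
theorem F_2042 (IH : D.IHyp) : ed Gen.f V_406 = V_405 :=
  flipE D.rels D.S (hinv Gen.f) (F_2041 IH)
theorem F_2043 (IH : D.IHyp) : ed Gen.d V_406 = V_406 :=
  gap_rel RW_40 (path_edge (F_2041 IH) (path_edge (F_2040 IH) (path_edge (F_2042 IH) (path_nil _))))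
theorem F_2044 (IH : D.IHyp) : ed Gen.g V_406 = V_406 :=
  gap_rel RW_25 (path_edge (F_2041 IH) (path_edge (F_2038 IH) (path_edge (F_2022 IH) (path_edge (F_2039 IH) (path_edge (F_2042 IH) (path_nil _))))))
theorem F_2045 (IH : D.IHyp) : ed Gen.e V_406 = V_407 :=
  rfl
theorem F_2046 (IH : D.IHyp) : ed Gen.e V_407 = V_406 :=
  flipE D.rels D.S (hinv Gen.e) (F_2045 IH)
theorem F_2047 (IH : D.IHyp) : ed Gen.g V_407 = V_407 :=
  gap_rel RW_14 (path_edge (F_2045 IH) (path_edge (F_2044 IH) (path_edge (F_2046 IH) (path_nil _))))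
theorem F_2048 (IH : D.IHyp) : ed Gen.d V_407 = V_408 :=
  rfl
theorem F_2049 (IH : D.IHyp) : ed Gen.d V_408 = V_407 :=
  flipE D.rels D.S (hinv Gen.d) (F_2048 IH)
theorem F_2050 (IH : D.IHyp) : ed Gen.g V_408 = V_408 :=
  gap_rel RW_28 (path_edge (F_2048 IH) (path_edge (F_2047 IH) (path_edge (F_2049 IH) (path_nil _))))
theorem F_2051 (IH : D.IHyp) : ed Gen.e V_408 = V_408 :=
  gap_rel RW_21 (path_edge (F_2048 IH) (path_edge (F_2045 IH) (path_edge (F_2043 IH) (path_edge (F_2046 IH) (path_edge (F_2049 IH) (path_nil _))))))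
theorem F_2052 (IH : D.IHyp) : ed Gen.c V_408 = V_409 :=
  rfl
theorem F_2053 (IH : D.IHyp) : ed Gen.c V_409 = V_408 :=
  flipE D.rels D.S (hinv Gen.c) (F_2052 IH)
theorem F_2055 (IH : D.IHyp) : ed Gen.g V_409 = V_409 :=
  gap_rel RW_1 (path_edge (F_2052 IH) (path_edge (F_2050 IH) (path_edge (F_2053 IH) (path_nil _))))
theorem F_2056 (IH : D.IHyp) : ed Gen.b V_409 = V_410 :=
  rfl
theorem F_2057 (IH : D.IHyp) : ed Gen.b V_410 = V_409 :=
  flipE D.rels D.S (hinv Gen.b) (F_2056 IH)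
theorem F_2059 (IH : D.IHyp) : ed Gen.g V_410 = V_410 :=
  gap_rel RW_6 (path_edge (F_2056 IH) (path_edge (F_2055 IH) (path_edge (F_2057 IH) (path_nil _))))
theorem F_2060 (IH : D.IHyp) : ed Gen.h V_410 = V_411 :=
  rfl
theorem F_2061 (IH : D.IHyp) : ed Gen.h V_411 = V_410 :=
  flipE D.rels D.S (hinv Gen.h) (F_2060 IH)
theorem F_2063 (IH : D.IHyp) : ed Gen.g V_411 = V_411 :=
  gap_rel RW_41 (path_edge (F_2060 IH) (path_edge (F_2059 IH) (path_edge (F_2061 IH) (path_nil _))))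
theorem F_2064 (IH : D.IHyp) : ed Gen.f V_411 = V_412 :=
  rfl
theorem F_2065 (IH : D.IHyp) : ed Gen.f V_412 = V_411 :=
  flipE D.rels D.S (hinv Gen.f) (F_2064 IH)
theorem F_2066 (IH : D.IHyp) : ed Gen.e V_412 = V_413 :=
  rfl
theorem F_2069 (IH : D.IHyp) : ed Gen.d V_413 = V_414 :=
  rfl
theorem F_2072 (IH : D.IHyp) : ed Gen.c V_414 = V_415 :=
  rfl
theorem F_2075 (IH : D.IHyp) : ed Gen.b V_415 = V_416 :=
  rfl
theorem F_2078 (IH : D.IHyp) : ed Gen.h V_416 = V_417 :=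
  rfl
theorem F_2081 (IH : D.IHyp) : ed Gen.g V_417 = V_418 :=
  rfl
theorem F_2082 (IH : D.IHyp) : ed Gen.g V_418 = V_417 :=
  flipE D.rels D.S (hinv Gen.g) (F_2081 IH)
theorem F_2083 (IH : D.IHyp) : ed Gen.f V_418 = V_419 :=
  rfl
theorem F_2086 (IH : D.IHyp) : ed Gen.e V_419 = V_420 :=
  rfl
theorem F_2089 (IH : D.IHyp) : ed Gen.d V_420 = V_421 :=
  rfl
theorem F_2092 (IH : D.IHyp) : ed Gen.c V_421 = V_422 :=
  rfl
theorem F_2095 (IH : D.IHyp) : ed Gen.h (D.P 331) = (D.P 304) :=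
  D.real_edge' IH Gen.h 331 304 (by decide +kernel)
theorem F_2096 (IH : D.IHyp) : ed Gen.f (D.P 304) = (D.P 275) :=
  D.real_edge' IH Gen.f 304 275 (by decide +kernel)
theorem F_2097 (IH : D.IHyp) : ed Gen.e (D.P 275) = (D.P 246) :=
  D.real_edge' IH Gen.e 275 246 (by decide +kernel)
theorem F_2098 (IH : D.IHyp) : ed Gen.g (D.P 73) = (D.P 71) :=
  D.real_edge' IH Gen.g 73 71 (by decide +kernel)
theorem F_2099 (IH : D.IHyp) : ed Gen.b V_422 = (D.P 331) :=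
  gap_rel RW_36 (path_edge (F_2092 IH) (path_edge (F_2089 IH) (path_edge (F_2086 IH) (path_edge (F_2083 IH) (path_edge (F_2081 IH) (path_edge (F_2078 IH) (path_edge (F_2075 IH) (path_edge (F_2072 IH) (path_edge (F_2069 IH) (path_edge (F_2066 IH) (path_edge (F_2064 IH) (path_edge (F_2063 IH) (path_edge (F_2060 IH) (path_edge (F_2056 IH) (path_edge (F_2052 IH) (path_edge (F_2048 IH) (path_edge (F_2045 IH) (path_edge (F_2041 IH) (path_edge (F_2038 IH) (path_edge (F_2018 IH) (path_edge (F_2005 IH) (path_edge (F_54 IH) (path_edge (F_53 IH) (path_edge (F_52 IH) (path_edge (F_51 IH) (path_edge (F_50 IH) (path_edge (F_49 IH) (path_edge (F_48 IH) (path_edge (F_47 IH) (path_edge (F_46 IH) (path_edge (F_45 IH) (path_edge (F_44 IH) (path_edge (F_19 IH) (path_edge (F_24 IH) (path_edge (F_2 IH) (path_edge (F_0 IH) (path_edge (F_30 IH) (path_edge (F_55 IH) (path_edge (F_56 IH) (path_edge (F_448 IH) (path_edge (F_818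 IH) (path_edge (F_698 IH) (path_edge (F_969 IH) (path_edge (F_627 IH) (path_edge (F_1248 IH) (path_edge (F_63 IH) (path_edge (F_2098 IH) (path_edge (F_974 IH) (path_edge (F_66 IH) (path_edge (F_67 IH) (path_edge (F_1115 IH) (path_edge (F_1335 IH) (path_edge (F_1334 IH) (path_edge (F_116 IH) (path_edge (F_72 IH) (path_edge (F_73 IH) (path_edge (F_1611 IH) (path_edge (F_1610 IH) (path_edge (F_2097 IH) (path_edge (F_2096 IH) (path_edge (F_78 IH) (path_edge (F_2095 IH) (path_nil _)))))))))))))))))))))))))))))))))))))))))))))))))))))))))))))))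
theorem F_2100 (IH : D.IHyp) : ed Gen.b (D.P 331) = V_422 :=
  flipE D.rels D.S (hinv Gen.b) (F_2099 IH)
theorem F_2120 (IH : D.IHyp) : ed Gen.e (D.P 355) = (D.P 362) :=
  D.real_edge' IH Gen.e 355 362 (by decide +kernel)
theorem F_2154 (IH : D.IHyp) : ed Gen.h (D.P 138) = (D.P 121) :=
  D.real_edge' IH Gen.h 138 121 (by decide +kernel)
theorem F_2164 (IH : D.IHyp) : ed Gen.f (D.P 305) = (D.P 331) :=
  D.real_edge' IH Gen.f 305 331 (by decide +kernel)
theorem F_2166 (IH : D.IHyp) : ed Gen.d (D.P 347) = (D.P 331) :=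
  D.real_edge' IH Gen.d 347 331 (by decide +kernel)
theorem F_2171 (IH : D.IHyp) : ed Gen.h (D.P 305) = (D.P 275) :=
  D.real_edge' IH Gen.h 305 275 (by decide +kernel)
theorem F_2178 (IH : D.IHyp) : ed Gen.e (D.P 357) = (D.P 347) :=
  D.real_edge' IH Gen.e 357 347 (by decide +kernel)
theorem F_2207 (IH : D.IHyp) : ed Gen.e (D.P 350) = (D.P 359) :=
  D.real_edge' IH Gen.e 350 359 (by decide +kernel)
theorem F_2222 (IH : D.IHyp) : ed Gen.c (D.P 325) = (D.P 343) :=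
  D.real_edge' IH Gen.c 325 343 (by decide +kernel)
theorem F_2224 (IH : D.IHyp) : ed Gen.f (D.P 345) = (D.P 355) :=
  D.real_edge' IH Gen.f 345 355 (by decide +kernel)
theorem F_2226 (IH : D.IHyp) : ed Gen.b (D.P 325) = (D.P 299) :=
  D.real_edge' IH Gen.b 325 299 (by decide +kernel)
theorem F_2239 (IH : D.IHyp) : ed Gen.f (D.P 362) = (D.P 362) :=
  D.real_edge' IH Gen.f 362 362 (by decide +kernel)
theorem F_2240 (IH : D.IHyp) : ed Gen.g (D.P 362) = (D.P 362) :=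
  D.real_edge' IH Gen.g 362 362 (by decide +kernel)
theorem F_2245 (IH : D.IHyp) : ed Gen.h (D.P 306) = (D.P 290) :=
  D.real_edge' IH Gen.h 306 290 (by decide +kernel)
theorem F_2248 (IH : D.IHyp) : ed Gen.f (D.P 264) = (D.P 232) :=
  D.real_edge' IH Gen.f 264 232 (by decide +kernel)
theorem F_2265 (IH : D.IHyp) : ed Gen.b (D.P 279) = (D.P 307) :=
  D.real_edge' IH Gen.b 279 307 (by decide +kernel)
theorem F_2272 (IH : D.IHyp) : ed Gen.b (D.P 307) = (D.P 279) :=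
  D.real_edge' IH Gen.b 307 279 (by decide +kernel)
theorem F_2274 (IH : D.IHyp) : ed Gen.f (D.P 307) = (D.P 278) :=
  D.real_edge' IH Gen.f 307 278 (by decide +kernel)
theorem F_2299 (IH : D.IHyp) : ed Gen.b (D.P 234) = V_423 :=
  rfl
theorem F_2300 (IH : D.IHyp) : ed Gen.b V_423 = (D.P 234) :=
  flipE D.rels D.S (hinv Gen.b) (F_2299 IH)
theorem F_2303 (IH : D.IHyp) : ed Gen.e (D.P 234) = (D.P 234) :=
  D.real_edge' IH Gen.e 234 234 (by decide +kernel)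
theorem F_2304 (IH : D.IHyp) : ed Gen.e V_423 = V_423 :=
  gap_rel RW_12 (path_edge (F_2299 IH) (path_edge (F_2303 IH) (path_edge (F_2300 IH) (path_nil _))))
theorem F_2390 (IH : D.IHyp) : ed Gen.h V_423 = V_424 :=
  rfl
theorem F_2391 (IH : D.IHyp) : ed Gen.h V_424 = V_423 :=
  flipE D.rels D.S (hinv Gen.h) (F_2390 IH)
theorem F_2392 (IH : D.IHyp) : ed Gen.e V_424 = V_424 :=
  gap_rel RW_42 (path_edge (F_2390 IH) (path_edge (F_2304 IH) (path_edge (F_2391 IH) (path_nil _))))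
theorem F_2393 (IH : D.IHyp) : ed Gen.g V_424 = V_425 :=
  rfl
theorem F_2394 (IH : D.IHyp) : ed Gen.g V_425 = V_424 :=
  flipE D.rels D.S (hinv Gen.g) (F_2393 IH)
theorem F_2395 (IH : D.IHyp) : ed Gen.e V_425 = V_425 :=
  gap_rel RW_17 (path_edge (F_2393 IH) (path_edge (F_2392 IH) (path_edge (F_2394 IH) (path_nil _))))
theorem F_2396 (IH : D.IHyp) : ed Gen.f V_425 = V_426 :=
  rfl
theorem F_2397 (IH : D.IHyp) : ed Gen.f V_426 = V_425 :=
  flipE D.rels D.S (hinv Gen.f) (F_2396 IH)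
theorem F_2398 (IH : D.IHyp) : ed Gen.e V_426 = V_427 :=
  rfl
theorem F_2399 (IH : D.IHyp) : ed Gen.e V_427 = V_426 :=
  flipE D.rels D.S (hinv Gen.e) (F_2398 IH)
theorem F_2400 (IH : D.IHyp) : ed Gen.f V_427 = V_427 :=
  gap_rel RW_38 (path_edge (F_2398 IH) (path_edge (F_2396 IH) (path_edge (F_2395 IH) (path_edge (F_2397 IH) (path_edge (F_2399 IH) (path_nil _))))))
theorem F_2401 (IH : D.IHyp) : ed Gen.d V_427 = V_428 :=
  rfl
theorem F_2402 (IH : D.IHyp) : ed Gen.d V_428 = V_427 :=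
  flipE D.rels D.S (hinv Gen.d) (F_2401 IH)
theorem F_2403 (IH : D.IHyp) : ed Gen.f V_428 = V_428 :=
  gap_rel RW_27 (path_edge (F_2401 IH) (path_edge (F_2400 IH) (path_edge (F_2402 IH) (path_nil _))))
theorem F_2404 (IH : D.IHyp) : ed Gen.c V_428 = V_429 :=
  rfl
theorem F_2405 (IH : D.IHyp) : ed Gen.c V_429 = V_428 :=
  flipE D.rels D.S (hinv Gen.c) (F_2404 IH)
theorem F_2406 (IH : D.IHyp) : ed Gen.f V_429 = V_429 :=
  gap_rel RW_0 (path_edge (F_2404 IH) (path_edge (F_2403 IH) (path_edge (F_2405 IH) (path_nil _))))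
theorem F_2407 (IH : D.IHyp) : ed Gen.b V_429 = V_430 :=
  rfl
theorem F_2408 (IH : D.IHyp) : ed Gen.b V_430 = V_429 :=
  flipE D.rels D.S (hinv Gen.b) (F_2407 IH)
theorem F_2409 (IH : D.IHyp) : ed Gen.f V_430 = V_430 :=
  gap_rel RW_5 (path_edge (F_2407 IH) (path_edge (F_2406 IH) (path_edge (F_2408 IH) (path_nil _))))
theorem F_2410 (IH : D.IHyp) : ed Gen.h V_430 = V_431 :=
  rfl
theorem F_2411 (IH : D.IHyp) : ed Gen.h V_431 = V_430 :=
  flipE D.rels D.S (hinv Gen.h) (F_2410 IH)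
theorem F_2412 (IH : D.IHyp) : ed Gen.f V_431 = V_431 :=
  gap_rel RW_35 (path_edge (F_2410 IH) (path_edge (F_2409 IH) (path_edge (F_2411 IH) (path_nil _))))
theorem F_2413 (IH : D.IHyp) : ed Gen.g V_431 = V_432 :=
  rfl
theorem F_2414 (IH : D.IHyp) : ed Gen.g V_432 = V_431 :=
  flipE D.rels D.S (hinv Gen.g) (F_2413 IH)
theorem F_2415 (IH : D.IHyp) : ed Gen.f V_432 = V_433 :=
  rfl
theorem F_2416 (IH : D.IHyp) : ed Gen.f V_433 = V_432 :=
  flipE D.rels D.S (hinv Gen.f) (F_2415 IH)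
theorem F_2417 (IH : D.IHyp) : ed Gen.g V_433 = V_433 :=
  gap_rel RW_25 (path_edge (F_2415 IH) (path_edge (F_2413 IH) (path_edge (F_2412 IH) (path_edge (F_2414 IH) (path_edge (F_2416 IH) (path_nil _))))))
theorem F_2418 (IH : D.IHyp) : ed Gen.e V_433 = V_434 :=
  rfl
theorem F_2419 (IH : D.IHyp) : ed Gen.e V_434 = V_433 :=
  flipE D.rels D.S (hinv Gen.e) (F_2418 IH)
theorem F_2420 (IH : D.IHyp) : ed Gen.g V_434 = V_434 :=
  gap_rel RW_14 (path_edge (F_2418 IH) (path_edge (F_2417 IH) (path_edge (F_2419 IH) (path_nil _))))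
theorem F_2421 (IH : D.IHyp) : ed Gen.d V_434 = V_435 :=
  rfl
theorem F_2422 (IH : D.IHyp) : ed Gen.d V_435 = V_434 :=
  flipE D.rels D.S (hinv Gen.d) (F_2421 IH)
theorem F_2423 (IH : D.IHyp) : ed Gen.g V_435 = V_435 :=
  gap_rel RW_28 (path_edge (F_2421 IH) (path_edge (F_2420 IH) (path_edge (F_2422 IH) (path_nil _))))
theorem F_2424 (IH : D.IHyp) : ed Gen.c V_435 = V_436 :=
  rfl
theorem F_2425 (IH : D.IHyp) : ed Gen.c V_436 = V_435 :=
  flipE D.rels D.S (hinv Gen.c) (F_2424 IH)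
theorem F_2426 (IH : D.IHyp) : ed Gen.g V_436 = V_436 :=
  gap_rel RW_1 (path_edge (F_2424 IH) (path_edge (F_2423 IH) (path_edge (F_2425 IH) (path_nil _))))
theorem F_2427 (IH : D.IHyp) : ed Gen.b V_436 = V_437 :=
  rfl
theorem F_2428 (IH : D.IHyp) : ed Gen.b V_437 = V_436 :=
  flipE D.rels D.S (hinv Gen.b) (F_2427 IH)
theorem F_2429 (IH : D.IHyp) : ed Gen.g V_437 = V_437 :=
  gap_rel RW_6 (path_edge (F_2427 IH) (path_edge (F_2426 IH) (path_edge (F_2428 IH) (path_nil _))))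
theorem F_2430 (IH : D.IHyp) : ed Gen.h V_437 = V_438 :=
  rfl
theorem F_2431 (IH : D.IHyp) : ed Gen.h V_438 = V_437 :=
  flipE D.rels D.S (hinv Gen.h) (F_2430 IH)
theorem F_2432 (IH : D.IHyp) : ed Gen.g V_438 = V_438 :=
  gap_rel RW_41 (path_edge (F_2430 IH) (path_edge (F_2429 IH) (path_edge (F_2431 IH) (path_nil _))))
theorem F_2433 (IH : D.IHyp) : ed Gen.f V_438 = V_439 :=
  rfl
theorem F_2435 (IH : D.IHyp) : ed Gen.e V_439 = V_440 :=
  rfl
theorem F_2437 (IH : D.IHyp) : ed Gen.d V_440 = V_441 :=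
  rfl
theorem F_2439 (IH : D.IHyp) : ed Gen.c V_441 = V_442 :=
  rfl
theorem F_2441 (IH : D.IHyp) : ed Gen.b V_442 = V_443 :=
  rfl
theorem F_2443 (IH : D.IHyp) : ed Gen.h V_443 = V_444 :=
  rfl
theorem F_2445 (IH : D.IHyp) : ed Gen.g V_444 = V_445 :=
  rfl
theorem F_2447 (IH : D.IHyp) : ed Gen.f V_445 = V_446 :=
  rfl
theorem F_2449 (IH : D.IHyp) : ed Gen.e V_446 = V_447 :=
  rfl
theorem F_2451 (IH : D.IHyp) : ed Gen.d V_447 = V_448 :=
  rfl
theorem F_2453 (IH : D.IHyp) : ed Gen.c V_448 = V_449 :=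
  rfl
theorem F_2454 (IH : D.IHyp) : ed Gen.c V_449 = V_448 :=
  flipE D.rels D.S (hinv Gen.c) (F_2453 IH)
theorem F_2455 (IH : D.IHyp) : ed Gen.b V_449 = V_372 :=
  gap_rel RW_36 (path_edge (F_2453 IH) (path_edge (F_2451 IH) (path_edge (F_2449 IH) (path_edge (F_2447 IH) (path_edge (F_2445 IH) (path_edge (F_2443 IH) (path_edge (F_2441 IH) (path_edge (F_2439 IH) (path_edge (F_2437 IH) (path_edge (F_2435 IH) (path_edge (F_2433 IH) (path_edge (F_2432 IH) (path_edge (F_2430 IH) (path_edge (F_2427 IH) (path_edge (F_2424 IH) (path_edge (F_2421 IH) (path_edge (F_2418 IH) (path_edge (F_2415 IH) (path_edge (F_2413 IH) (path_edge (F_2410 IH) (path_edge (F_2407 IH) (path_edge (F_2404 IH) (path_edge (F_2401 IH) (path_edge (F_2398 IH) (path_edge (F_2396 IH) (path_edge (F_2393 IH) (path_edge (F_2390 IH) (path_edge (F_2299 IH) (path_edge (F_104 IH) (path_edge (F_103 IH) (path_edge (F_102 IH) (path_edge (F_101 IH) (path_edge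 (F_100 IH) (path_edge (F_99 IH) (path_edge (F_98 IH) (path_edge (F_97 IH) (path_edge (F_68 IH) (path_edge (F_96 IH) (path_edge (F_95 IH) (path_edge (F_94 IH) (path_edge (F_93 IH) (path_edge (F_92 IH) (path_edge (F_91 IH) (path_edge (F_61 IH) (path_edge (F_90 IH) (path_edge (F_89 IH) (path_edge (F_88 IH) (path_edge (F_87 IH) (path_edge (F_86 IH) (path_edge (F_85 IH) (path_edge (F_84 IH) (path_edge (F_83 IH) (path_edge (F_82 IH) (path_edge (F_81 IH) (path_edge (F_80 IH) (path_edge (F_26 IH) (path_edge (F_1 IH) (path_edge (F_15 IH) (path_edge (F_432 IH) (path_edge (F_918 IH) (path_edge (F_922 IH) (path_edge (F_919 IH) (path_nil _)))))))))))))))))))))))))))))))))))))))))))))))))))))))))))))))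
theorem F_2456 (IH : D.IHyp) : ed Gen.b V_372 = V_449 :=
  flipE D.rels D.S (hinv Gen.b) (F_2455 IH)
theorem F_2457 (IH : D.IHyp) : ed Gen.e V_449 = V_449 :=
  gap_rel RW_12 (path_edge (F_2456 IH) (path_edge (F_921 IH) (path_edge (F_2455 IH) (path_nil _))))
theorem F_2458 (IH : D.IHyp) : ed Gen.f V_366 = V_449 :=
  gap_rel RW_5 (path_edge (F_431 IH) (path_edge (F_918 IH) (path_edge (F_2455 IH) (path_nil _))))
theorem F_2459 (IH : D.IHyp) : ed Gen.f V_449 = V_366 :=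
  flipE D.rels D.S (hinv Gen.f) (F_2458 IH)
theorem F_2460 (IH : D.IHyp) : ed Gen.g V_449 = V_449 :=
  gap_rel RW_6 (path_edge (F_2456 IH) (path_edge (F_922 IH) (path_edge (F_2455 IH) (path_nil _))))
theorem F_2461 (IH : D.IHyp) : ed Gen.h V_449 = V_449 :=
  gap_rel RW_7 (path_edge (F_2456 IH) (path_edge (F_919 IH) (path_edge (F_2455 IH) (path_nil _))))
theorem F_2464 (IH : D.IHyp) : ed Gen.f V_448 = V_400 :=
  gap_rel RW_0 (path_edge (F_2454 IH) (path_edge (F_2458 IH) (path_edge (F_1982 IH) (path_nil _))))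
theorem F_2465 (IH : D.IHyp) : ed Gen.f V_400 = V_448 :=
  flipE D.rels D.S (hinv Gen.f) (F_2464 IH)
theorem F_2466 (IH : D.IHyp) : V_398 = V_448 :=
  edge_fun (F_1988 IH) (F_2465 IH)
theorem F_2467 (IH : D.IHyp) : V_448 = V_398 :=
  (F_2466 IH).symm
theorem F_2468 (IH : D.IHyp) : ed Gen.c V_398 = V_449 :=
  edge_congr (F_2453 IH) (F_2467 IH)
theorem F_2469 (IH : D.IHyp) : ed Gen.c V_449 = V_398 :=
  flipE D.rels D.S (hinv Gen.c) (F_2468 IH)
theorem F_2499 (IH : D.IHyp) : ed Gen.b V_371 = V_450 :=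
  rfl
theorem F_2500 (IH : D.IHyp) : ed Gen.b V_450 = V_371 :=
  flipE D.rels D.S (hinv Gen.b) (F_2499 IH)
theorem F_2501 (IH : D.IHyp) : ed Gen.d V_450 = V_366 :=
  gap_rel RW_9 (path_edge (F_2499 IH) (path_edge (F_912 IH) (path_edge (F_430 IH) (path_nil _))))
theorem F_2502 (IH : D.IHyp) : ed Gen.d V_366 = V_450 :=
  flipE D.rels D.S (hinv Gen.d) (F_2501 IH)
theorem F_2503 (IH : D.IHyp) : ed Gen.e V_450 = V_450 :=
  gap_rel RW_12 (path_edge (F_2499 IH) (path_edge (F_916 IH) (path_edge (F_2500 IH) (path_nil _))))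
theorem F_2505 (IH : D.IHyp) : ed Gen.h V_450 = V_451 :=
  rfl
theorem F_2506 (IH : D.IHyp) : ed Gen.h V_451 = V_450 :=
  flipE D.rels D.S (hinv Gen.h) (F_2505 IH)
theorem F_2507 (IH : D.IHyp) : ed Gen.e V_451 = V_451 :=
  gap_rel RW_42 (path_edge (F_2505 IH) (path_edge (F_2503 IH) (path_edge (F_2506 IH) (path_nil _))))
theorem F_2508 (IH : D.IHyp) : ed Gen.d V_451 = V_451 :=
  gap_rel RW_39 (path_edge (F_2505 IH) (path_edge (F_2502 IH) (path_edge (F_428 IH) (path_edge (F_2501 IH) (path_edge (F_2506 IH) (path_nil _))))))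
theorem F_2509 (IH : D.IHyp) : ed Gen.g V_451 = V_452 :=
  rfl
theorem F_2510 (IH : D.IHyp) : ed Gen.g V_452 = V_451 :=
  flipE D.rels D.S (hinv Gen.g) (F_2509 IH)
theorem F_2511 (IH : D.IHyp) : ed Gen.d V_452 = V_452 :=
  gap_rel RW_4 (path_edge (F_2509 IH) (path_edge (F_2508 IH) (path_edge (F_2510 IH) (path_nil _))))
theorem F_2512 (IH : D.IHyp) : ed Gen.e V_452 = V_452 :=
  gap_rel RW_17 (path_edge (F_2509 IH) (path_edge (F_2507 IH) (path_edge (F_2510 IH) (path_nil _))))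
theorem F_2513 (IH : D.IHyp) : ed Gen.f V_452 = V_453 :=
  rfl
theorem F_2514 (IH : D.IHyp) : ed Gen.f V_453 = V_452 :=
  flipE D.rels D.S (hinv Gen.f) (F_2513 IH)
theorem F_2515 (IH : D.IHyp) : ed Gen.d V_453 = V_453 :=
  gap_rel RW_40 (path_edge (F_2513 IH) (path_edge (F_2511 IH) (path_edge (F_2514 IH) (path_nil _))))
theorem F_2516 (IH : D.IHyp) : ed Gen.e V_453 = V_454 :=
  rfl
theorem F_2517 (IH : D.IHyp) : ed Gen.e V_454 = V_453 :=
  flipE D.rels D.S (hinv Gen.e) (F_2516 IH)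
theorem F_2518 (IH : D.IHyp) : ed Gen.f V_454 = V_454 :=
  gap_rel RW_38 (path_edge (F_2516 IH) (path_edge (F_2513 IH) (path_edge (F_2512 IH) (path_edge (F_2514 IH) (path_edge (F_2517 IH) (path_nil _))))))
theorem F_2519 (IH : D.IHyp) : ed Gen.d V_454 = V_455 :=
  rfl
theorem F_2520 (IH : D.IHyp) : ed Gen.d V_455 = V_454 :=
  flipE D.rels D.S (hinv Gen.d) (F_2519 IH)
theorem F_2521 (IH : D.IHyp) : ed Gen.f V_455 = V_455 :=
  gap_rel RW_27 (path_edge (F_2519 IH) (path_edge (F_2518 IH) (path_edge (F_2520 IH) (path_nil _))))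
theorem F_2522 (IH : D.IHyp) : ed Gen.e V_455 = V_455 :=
  gap_rel RW_21 (path_edge (F_2519 IH) (path_edge (F_2516 IH) (path_edge (F_2515 IH) (path_edge (F_2517 IH) (path_edge (F_2520 IH) (path_nil _))))))
theorem F_2523 (IH : D.IHyp) : ed Gen.c V_455 = V_456 :=
  rfl
theorem F_2524 (IH : D.IHyp) : ed Gen.c V_456 = V_455 :=
  flipE D.rels D.S (hinv Gen.c) (F_2523 IH)
theorem F_2525 (IH : D.IHyp) : ed Gen.e V_456 = V_456 :=
  gap_rel RW_43 (path_edge (F_2523 IH) (path_edge (F_2522 IH) (path_edge (F_2524 IH) (path_nil _))))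
theorem F_2526 (IH : D.IHyp) : ed Gen.f V_456 = V_456 :=
  gap_rel RW_0 (path_edge (F_2523 IH) (path_edge (F_2521 IH) (path_edge (F_2524 IH) (path_nil _))))
theorem F_2527 (IH : D.IHyp) : ed Gen.b V_456 = V_457 :=
  rfl
theorem F_2528 (IH : D.IHyp) : ed Gen.b V_457 = V_456 :=
  flipE D.rels D.S (hinv Gen.b) (F_2527 IH)
theorem F_2529 (IH : D.IHyp) : ed Gen.e V_457 = V_457 :=
  gap_rel RW_12 (path_edge (F_2527 IH) (path_edge (F_2525 IH) (path_edge (F_2528 IH) (path_nil _))))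
theorem F_2530 (IH : D.IHyp) : ed Gen.f V_457 = V_457 :=
  gap_rel RW_5 (path_edge (F_2527 IH) (path_edge (F_2526 IH) (path_edge (F_2528 IH) (path_nil _))))
theorem F_2531 (IH : D.IHyp) : ed Gen.h V_457 = V_458 :=
  rfl
theorem F_2532 (IH : D.IHyp) : ed Gen.h V_458 = V_457 :=
  flipE D.rels D.S (hinv Gen.h) (F_2531 IH)
theorem F_2533 (IH : D.IHyp) : ed Gen.e V_458 = V_458 :=
  gap_rel RW_42 (path_edge (F_2531 IH) (path_edge (F_2529 IH) (path_edge (F_2532 IH) (path_nil _))))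
theorem F_2534 (IH : D.IHyp) : ed Gen.f V_458 = V_458 :=
  gap_rel RW_35 (path_edge (F_2531 IH) (path_edge (F_2530 IH) (path_edge (F_2532 IH) (path_nil _))))
theorem F_2535 (IH : D.IHyp) : ed Gen.g V_458 = V_459 :=
  rfl
theorem F_2536 (IH : D.IHyp) : ed Gen.g V_459 = V_458 :=
  flipE D.rels D.S (hinv Gen.g) (F_2535 IH)
theorem F_2537 (IH : D.IHyp) : ed Gen.e V_459 = V_459 :=
  gap_rel RW_17 (path_edge (F_2535 IH) (path_edge (F_2533 IH) (path_edge (F_2536 IH) (path_nil _))))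
theorem F_2538 (IH : D.IHyp) : ed Gen.f V_459 = V_460 :=
  rfl
theorem F_2539 (IH : D.IHyp) : ed Gen.f V_460 = V_459 :=
  flipE D.rels D.S (hinv Gen.f) (F_2538 IH)
theorem F_2540 (IH : D.IHyp) : ed Gen.g V_460 = V_460 :=
  gap_rel RW_25 (path_edge (F_2538 IH) (path_edge (F_2535 IH) (path_edge (F_2534 IH) (path_edge (F_2536 IH) (path_edge (F_2539 IH) (path_nil _))))))
theorem F_2541 (IH : D.IHyp) : ed Gen.e V_460 = V_461 :=
  rfl
theorem F_2542 (IH : D.IHyp) : ed Gen.e V_461 = V_460 :=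
  flipE D.rels D.S (hinv Gen.e) (F_2541 IH)
theorem F_2543 (IH : D.IHyp) : ed Gen.g V_461 = V_461 :=
  gap_rel RW_14 (path_edge (F_2541 IH) (path_edge (F_2540 IH) (path_edge (F_2542 IH) (path_nil _))))
theorem F_2544 (IH : D.IHyp) : ed Gen.f V_461 = V_461 :=
  gap_rel RW_38 (path_edge (F_2541 IH) (path_edge (F_2538 IH) (path_edge (F_2537 IH) (path_edge (F_2539 IH) (path_edge (F_2542 IH) (path_nil _))))))
theorem F_2545 (IH : D.IHyp) : ed Gen.d V_461 = V_462 :=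
  rfl
theorem F_2546 (IH : D.IHyp) : ed Gen.d V_462 = V_461 :=
  flipE D.rels D.S (hinv Gen.d) (F_2545 IH)
theorem F_2547 (IH : D.IHyp) : ed Gen.f V_462 = V_462 :=
  gap_rel RW_27 (path_edge (F_2545 IH) (path_edge (F_2544 IH) (path_edge (F_2546 IH) (path_nil _))))
theorem F_2548 (IH : D.IHyp) : ed Gen.g V_462 = V_462 :=
  gap_rel RW_28 (path_edge (F_2545 IH) (path_edge (F_2543 IH) (path_edge (F_2546 IH) (path_nil _))))
theorem F_2549 (IH : D.IHyp) : ed Gen.c V_462 = V_463 :=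
  rfl
theorem F_2550 (IH : D.IHyp) : ed Gen.c V_463 = V_462 :=
  flipE D.rels D.S (hinv Gen.c) (F_2549 IH)
theorem F_2551 (IH : D.IHyp) : ed Gen.f V_463 = V_463 :=
  gap_rel RW_0 (path_edge (F_2549 IH) (path_edge (F_2547 IH) (path_edge (F_2550 IH) (path_nil _))))
theorem F_2552 (IH : D.IHyp) : ed Gen.g V_463 = V_463 :=
  gap_rel RW_1 (path_edge (F_2549 IH) (path_edge (F_2548 IH) (path_edge (F_2550 IH) (path_nil _))))
theorem F_2553 (IH : D.IHyp) : ed Gen.b V_463 = V_464 :=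
  rfl
theorem F_2554 (IH : D.IHyp) : ed Gen.b V_464 = V_463 :=
  flipE D.rels D.S (hinv Gen.b) (F_2553 IH)
theorem F_2555 (IH : D.IHyp) : ed Gen.f V_464 = V_464 :=
  gap_rel RW_5 (path_edge (F_2553 IH) (path_edge (F_2551 IH) (path_edge (F_2554 IH) (path_nil _))))
theorem F_2556 (IH : D.IHyp) : ed Gen.g V_464 = V_464 :=
  gap_rel RW_6 (path_edge (F_2553 IH) (path_edge (F_2552 IH) (path_edge (F_2554 IH) (path_nil _))))
theorem F_2557 (IH : D.IHyp) : ed Gen.h V_464 = V_465 :=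
  rfl
theorem F_2558 (IH : D.IHyp) : ed Gen.h V_465 = V_464 :=
  flipE D.rels D.S (hinv Gen.h) (F_2557 IH)
theorem F_2559 (IH : D.IHyp) : ed Gen.f V_465 = V_465 :=
  gap_rel RW_35 (path_edge (F_2557 IH) (path_edge (F_2555 IH) (path_edge (F_2558 IH) (path_nil _))))
theorem F_2560 (IH : D.IHyp) : ed Gen.g V_465 = V_465 :=
  gap_rel RW_41 (path_edge (F_2557 IH) (path_edge (F_2556 IH) (path_edge (F_2558 IH) (path_nil _))))
theorem F_2561 (IH : D.IHyp) : ed Gen.e V_465 = V_466 :=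
  rfl
theorem F_2562 (IH : D.IHyp) : ed Gen.e V_466 = V_465 :=
  flipE D.rels D.S (hinv Gen.e) (F_2561 IH)
theorem F_2563 (IH : D.IHyp) : ed Gen.g V_466 = V_466 :=
  gap_rel RW_14 (path_edge (F_2561 IH) (path_edge (F_2560 IH) (path_edge (F_2562 IH) (path_nil _))))
theorem F_2564 (IH : D.IHyp) : ed Gen.d V_466 = V_467 :=
  rfl
theorem F_2565 (IH : D.IHyp) : ed Gen.d V_467 = V_466 :=
  flipE D.rels D.S (hinv Gen.d) (F_2564 IH)
theorem F_2566 (IH : D.IHyp) : ed Gen.g V_467 = V_467 :=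
  gap_rel RW_28 (path_edge (F_2564 IH) (path_edge (F_2563 IH) (path_edge (F_2565 IH) (path_nil _))))
theorem F_2567 (IH : D.IHyp) : ed Gen.c V_467 = V_468 :=
  rfl
theorem F_2568 (IH : D.IHyp) : ed Gen.c V_468 = V_467 :=
  flipE D.rels D.S (hinv Gen.c) (F_2567 IH)
theorem F_2569 (IH : D.IHyp) : ed Gen.g V_468 = V_468 :=
  gap_rel RW_1 (path_edge (F_2567 IH) (path_edge (F_2566 IH) (path_edge (F_2568 IH) (path_nil _))))
theorem F_2570 (IH : D.IHyp) : ed Gen.b V_468 = V_469 :=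
  rfl
theorem F_2571 (IH : D.IHyp) : ed Gen.b V_469 = V_468 :=
  flipE D.rels D.S (hinv Gen.b) (F_2570 IH)
theorem F_2572 (IH : D.IHyp) : ed Gen.g V_469 = V_469 :=
  gap_rel RW_6 (path_edge (F_2570 IH) (path_edge (F_2569 IH) (path_edge (F_2571 IH) (path_nil _))))
theorem F_2573 (IH : D.IHyp) : ed Gen.h V_469 = V_470 :=
  rfl
theorem F_2574 (IH : D.IHyp) : ed Gen.h V_470 = V_469 :=
  flipE D.rels D.S (hinv Gen.h) (F_2573 IH)
theorem F_2575 (IH : D.IHyp) : ed Gen.g V_470 = V_470 :=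
  gap_rel RW_41 (path_edge (F_2573 IH) (path_edge (F_2572 IH) (path_edge (F_2574 IH) (path_nil _))))
theorem F_2576 (IH : D.IHyp) : ed Gen.f V_470 = V_471 :=
  rfl
theorem F_2578 (IH : D.IHyp) : ed Gen.e V_471 = V_472 :=
  rfl
theorem F_2579 (IH : D.IHyp) : ed Gen.e V_472 = V_471 :=
  flipE D.rels D.S (hinv Gen.e) (F_2578 IH)
theorem F_2580 (IH : D.IHyp) : ed Gen.d V_472 = V_473 :=
  rfl
theorem F_2581 (IH : D.IHyp) : ed Gen.d V_473 = V_472 :=
  flipE D.rels D.S (hinv Gen.d) (F_2580 IH)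
theorem F_2582 (IH : D.IHyp) : ed Gen.c V_473 = V_474 :=
  rfl
theorem F_2583 (IH : D.IHyp) : ed Gen.c V_474 = V_473 :=
  flipE D.rels D.S (hinv Gen.c) (F_2582 IH)
theorem F_2584 (IH : D.IHyp) : ed Gen.b V_474 = V_475 :=
  rfl
theorem F_2585 (IH : D.IHyp) : ed Gen.b V_475 = V_474 :=
  flipE D.rels D.S (hinv Gen.b) (F_2584 IH)
theorem F_2586 (IH : D.IHyp) : ed Gen.h V_475 = V_476 :=
  rfl
theorem F_2587 (IH : D.IHyp) : ed Gen.h V_476 = V_475 :=
  flipE D.rels D.S (hinv Gen.h) (F_2586 IH)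
theorem F_2588 (IH : D.IHyp) : ed Gen.g V_476 = V_477 :=
  rfl
theorem F_2590 (IH : D.IHyp) : ed Gen.f V_477 = V_478 :=
  rfl
theorem F_2591 (IH : D.IHyp) : ed Gen.f V_478 = V_477 :=
  flipE D.rels D.S (hinv Gen.f) (F_2590 IH)
theorem F_2592 (IH : D.IHyp) : ed Gen.e V_478 = V_479 :=
  rfl
theorem F_2593 (IH : D.IHyp) : ed Gen.e V_479 = V_478 :=
  flipE D.rels D.S (hinv Gen.e) (F_2592 IH)
theorem F_2594 (IH : D.IHyp) : ed Gen.d V_479 = V_480 :=
  rfl
theorem F_2595 (IH : D.IHyp) : ed Gen.d V_480 = V_479 :=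
  flipE D.rels D.S (hinv Gen.d) (F_2594 IH)
theorem F_2596 (IH : D.IHyp) : ed Gen.c V_480 = V_481 :=
  rfl
theorem F_2597 (IH : D.IHyp) : ed Gen.c V_481 = V_480 :=
  flipE D.rels D.S (hinv Gen.c) (F_2596 IH)
theorem F_2598 (IH : D.IHyp) : ed Gen.g (D.P 275) = (D.P 245) :=
  D.real_edge' IH Gen.g 275 245 (by decide +kernel)
theorem F_2599 (IH : D.IHyp) : ed Gen.e (D.P 245) = (D.P 214) :=
  D.real_edge' IH Gen.e 245 214 (by decide +kernel)
theorem F_2600 (IH : D.IHyp) : ed Gen.b V_481 = (D.P 305) :=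
  gap_rel RW_36 (path_edge (F_2596 IH) (path_edge (F_2594 IH) (path_edge (F_2592 IH) (path_edge (F_2590 IH) (path_edge (F_2588 IH) (path_edge (F_2586 IH) (path_edge (F_2584 IH) (path_edge (F_2582 IH) (path_edge (F_2580 IH) (path_edge (F_2578 IH) (path_edge (F_2576 IH) (path_edge (F_2575 IH) (path_edge (F_2573 IH) (path_edge (F_2570 IH) (path_edge (F_2567 IH) (path_edge (F_2564 IH) (path_edge (F_2561 IH) (path_edge (F_2559 IH) (path_edge (F_2560 IH) (path_edge (F_2557 IH) (path_edge (F_2553 IH) (path_edge (F_2549 IH) (path_edge (F_2545 IH) (path_edge (F_2541 IH) (path_edge (F_2538 IH) (path_edge (F_2535 IH) (path_edge (F_2531 IH) (path_edge (F_2527 IH) (path_edge (F_2523 IH) (path_edge (F_2519 IH) (path_edge (F_2516 IH) (path_edge (F_2513 IH) (path_edge (F_2509 IH) (path_edge (F_2505 IH) (path_edge (F_2499 IH) (path_edge (F_915 IH) (path_edge (F_912 IH) (path_edge (F_433 IH) (path_edge (F_5 IH) (path_edge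 (F_8 IH) (path_edge (F_22 IH) (path_edge (F_195 IH) (path_edge (F_234 IH) (path_edge (F_369 IH) (path_edge (F_1065 IH) (path_edge (F_319 IH) (path_edge (F_1410 IH) (path_edge (F_1020 IH) (path_edge (F_484 IH) (path_edge (F_1449 IH) (path_edge (F_1447 IH) (path_edge (F_114 IH) (path_edge (F_1446 IH) (path_edge (F_71 IH) (path_edge (F_117 IH) (path_edge (F_118 IH) (path_edge (F_1725 IH) (path_edge (F_2027 IH) (path_edge (F_2599 IH) (path_edge (F_122 IH) (path_edge (F_2598 IH) (path_edge (F_2171 IH) (path_nil _)))))))))))))))))))))))))))))))))))))))))))))))))))))))))))))))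
theorem F_2602 (IH : D.IHyp) : ed Gen.f V_422 = V_481 :=
  gap_rel RW_5 (path_edge (F_2100 IH) (path_edge (F_2164 IH) (path_edge (F_2600 IH) (path_nil _))))
theorem F_2606 (IH : D.IHyp) : ed Gen.f V_480 = V_421 :=
  gap_rel RW_0 (path_edge (F_2597 IH) (path_edge (F_2602 IH) (path_edge (F_2092 IH) (path_nil _))))
theorem F_2607 (IH : D.IHyp) : ed Gen.f V_421 = V_480 :=
  flipE D.rels D.S (hinv Gen.f) (F_2606 IH)
theorem F_2614 (IH : D.IHyp) : ed Gen.d (D.P 341) = (D.P 322) :=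
  D.real_edge' IH Gen.d 341 322 (by decide +kernel)
theorem F_2619 (IH : D.IHyp) : ed Gen.e (D.P 276) = (D.P 247) :=
  D.real_edge' IH Gen.e 276 247 (by decide +kernel)
theorem F_2653 (IH : D.IHyp) : ed Gen.f V_479 = V_420 :=
  gap_rel RW_27 (path_edge (F_2595 IH) (path_edge (F_2607 IH) (path_edge (F_2089 IH) (path_nil _))))
theorem F_2654 (IH : D.IHyp) : ed Gen.f V_420 = V_479 :=
  flipE D.rels D.S (hinv Gen.f) (F_2653 IH)
theorem F_2655 (IH : D.IHyp) : ed Gen.e V_477 = V_418 :=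
  gap_rel RW_24 (path_edge (F_2591 IH) (path_edge (F_2593 IH) (path_edge (F_2654 IH) (path_edge (F_2086 IH) (path_edge (F_2083 IH) (path_nil _))))))
theorem F_2657 (IH : D.IHyp) : ed Gen.e V_417 = V_476 :=
  gap_rel RW_17 (path_edge (F_2082 IH) (path_edge (F_2655 IH) (path_edge (F_2588 IH) (path_nil _))))
theorem F_2659 (IH : D.IHyp) : ed Gen.e V_475 = V_416 :=
  gap_rel RW_42 (path_edge (F_2587 IH) (path_edge (F_2657 IH) (path_edge (F_2078 IH) (path_nil _))))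
theorem F_2660 (IH : D.IHyp) : ed Gen.e V_416 = V_475 :=
  flipE D.rels D.S (hinv Gen.e) (F_2659 IH)
theorem F_2661 (IH : D.IHyp) : ed Gen.e V_474 = V_415 :=
  gap_rel RW_12 (path_edge (F_2585 IH) (path_edge (F_2660 IH) (path_edge (F_2075 IH) (path_nil _))))
theorem F_2662 (IH : D.IHyp) : ed Gen.e V_415 = V_474 :=
  flipE D.rels D.S (hinv Gen.e) (F_2661 IH)
theorem F_2663 (IH : D.IHyp) : ed Gen.e V_473 = V_414 :=
  gap_rel RW_43 (path_edge (F_2583 IH) (path_edge (F_2662 IH) (path_edge (F_2072 IH) (path_nil _))))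
theorem F_2664 (IH : D.IHyp) : ed Gen.e V_414 = V_473 :=
  flipE D.rels D.S (hinv Gen.e) (F_2663 IH)
theorem F_2665 (IH : D.IHyp) : ed Gen.d V_471 = V_412 :=
  gap_rel RW_15 (path_edge (F_2579 IH) (path_edge (F_2581 IH) (path_edge (F_2664 IH) (path_edge (F_2069 IH) (path_edge (F_2066 IH) (path_nil _))))))
theorem F_2667 (IH : D.IHyp) : ed Gen.d V_411 = V_470 :=
  gap_rel RW_40 (path_edge (F_2065 IH) (path_edge (F_2665 IH) (path_edge (F_2576 IH) (path_nil _))))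
theorem F_2668 (IH : D.IHyp) : ed Gen.d V_470 = V_411 :=
  flipE D.rels D.S (hinv Gen.d) (F_2667 IH)
theorem F_2669 (IH : D.IHyp) : ed Gen.h V_373 = V_482 :=
  rfl
theorem F_2670 (IH : D.IHyp) : ed Gen.h V_482 = V_373 :=
  flipE D.rels D.S (hinv Gen.h) (F_2669 IH)
theorem F_2671 (IH : D.IHyp) : ed Gen.b (D.P 125) = V_482 :=
  gap_rel RW_34 (path_edge (F_491 IH) (path_edge (F_926 IH) (path_edge (F_2670 IH) (path_nil _))))
theorem F_2672 (IH : D.IHyp) : ed Gen.b V_482 = (D.P 125) :=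
  flipE D.rels D.S (hinv Gen.b) (F_2671 IH)
theorem F_2674 (IH : D.IHyp) : ed Gen.f V_482 = V_482 :=
  gap_rel RW_35 (path_edge (F_2669 IH) (path_edge (F_927 IH) (path_edge (F_2670 IH) (path_nil _))))
theorem F_2677 (IH : D.IHyp) : ed Gen.d V_482 = V_482 :=
  gap_rel RW_39 (path_edge (F_2669 IH) (path_edge (F_923 IH) (path_edge (F_672 IH) (path_edge (F_924 IH) (path_edge (F_2670 IH) (path_nil _))))))
theorem F_2731 (IH : D.IHyp) : ed Gen.g (D.P 49) = (D.P 64) :=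
  D.real_edge' IH Gen.g 49 64 (by decide +kernel)
theorem F_2748 (IH : D.IHyp) : ed Gen.e V_482 = V_483 :=
  rfl
theorem F_2749 (IH : D.IHyp) : ed Gen.e V_483 = V_482 :=
  flipE D.rels D.S (hinv Gen.e) (F_2748 IH)
theorem F_2750 (IH : D.IHyp) : ed Gen.b (D.P 151) = V_483 :=
  gap_rel RW_30 (path_edge (F_494 IH) (path_edge (F_2672 IH) (path_edge (F_2749 IH) (path_nil _))))
theorem F_2751 (IH : D.IHyp) : ed Gen.b V_483 = (D.P 151) :=
  flipE D.rels D.S (hinv Gen.b) (F_2750 IH)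
theorem F_2764 (IH : D.IHyp) : ed Gen.h (D.P 352) = (D.P 357) :=
  D.real_edge' IH Gen.h 352 357 (by decide +kernel)
theorem F_2779 (IH : D.IHyp) : ed Gen.i (D.P 154) = (D.P 130) :=
  D.real_edge' IH Gen.i 154 130 (by decide +kernel)
theorem F_2780 (IH : D.IHyp) : ed Gen.d (D.P 183) = (D.P 154) :=
  D.real_edge' IH Gen.d 183 154 (by decide +kernel)
theorem F_2797 (IH : D.IHyp) : ed Gen.d V_483 = V_484 :=
  rfl
theorem F_2798 (IH : D.IHyp) : ed Gen.d V_484 = V_483 :=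
  flipE D.rels D.S (hinv Gen.d) (F_2797 IH)
theorem F_2799 (IH : D.IHyp) : ed Gen.b (D.P 179) = V_484 :=
  gap_rel RW_26 (path_edge (F_405 IH) (path_edge (F_2751 IH) (path_edge (F_2798 IH) (path_nil _))))
theorem F_2800 (IH : D.IHyp) : ed Gen.b V_484 = (D.P 179) :=
  flipE D.rels D.S (hinv Gen.b) (F_2799 IH)
theorem F_2806 (IH : D.IHyp) : ed Gen.f (D.P 236) = (D.P 268) :=
  D.real_edge' IH Gen.f 236 268 (by decide +kernel)
theorem F_2807 (IH : D.IHyp) : ed Gen.e (D.P 268) = (D.P 297) :=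
  D.real_edge' IH Gen.e 268 297 (by decide +kernel)
theorem F_2808 (IH : D.IHyp) : ed Gen.d (D.P 297) = (D.P 327) :=
  D.real_edge' IH Gen.d 297 327 (by decide +kernel)
theorem F_2809 (IH : D.IHyp) : ed Gen.b (D.P 327) = (D.P 301) :=
  D.real_edge' IH Gen.b 327 301 (by decide +kernel)
theorem F_2810 (IH : D.IHyp) : ed Gen.c (D.P 301) = (D.P 301) :=
  D.real_edge' IH Gen.c 301 301 (by decide +kernel)
theorem F_2834 (IH : D.IHyp) : ed Gen.d (D.P 170) = V_485 :=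
  rfl
theorem F_2835 (IH : D.IHyp) : ed Gen.d V_485 = (D.P 170) :=
  flipE D.rels D.S (hinv Gen.d) (F_2834 IH)
theorem F_2836 (IH : D.IHyp) : ed Gen.b (D.P 171) = V_485 :=
  gap_rel RW_26 (path_edge (F_386 IH) (path_edge (F_1257 IH) (path_edge (F_2835 IH) (path_nil _))))
theorem F_2837 (IH : D.IHyp) : ed Gen.b V_485 = (D.P 171) :=
  flipE D.rels D.S (hinv Gen.b) (F_2836 IH)
theorem F_2838 (IH : D.IHyp) : ed Gen.i V_485 = V_485 :=
  gap_rel RW_29 (path_edge (F_2834 IH) (path_edge (F_1260 IH) (path_edge (F_2835 IH) (path_nil _))))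
theorem F_2850 (IH : D.IHyp) : ed Gen.c (D.P 203) = (D.P 203) :=
  D.real_edge' IH Gen.c 203 203 (by decide +kernel)
theorem F_2851 (IH : D.IHyp) : ed Gen.g (D.P 203) = (D.P 171) :=
  D.real_edge' IH Gen.g 203 171 (by decide +kernel)
theorem F_2855 (IH : D.IHyp) : ed Gen.g (D.P 233) = (D.P 204) :=
  D.real_edge' IH Gen.g 233 204 (by decide +kernel)
theorem F_2856 (IH : D.IHyp) : ed Gen.h V_485 = V_486 :=
  rfl
theorem F_2857 (IH : D.IHyp) : ed Gen.h V_486 = V_485 :=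
  flipE D.rels D.S (hinv Gen.h) (F_2856 IH)
theorem F_2858 (IH : D.IHyp) : ed Gen.b (D.P 204) = V_486 :=
  gap_rel RW_34 (path_edge (F_387 IH) (path_edge (F_2837 IH) (path_edge (F_2857 IH) (path_nil _))))
theorem F_2859 (IH : D.IHyp) : ed Gen.b V_486 = (D.P 204) :=
  flipE D.rels D.S (hinv Gen.b) (F_2858 IH)
theorem F_2865 (IH : D.IHyp) : ed Gen.c (D.P 233) = (D.P 233) :=
  D.real_edge' IH Gen.c 233 233 (by decide +kernel)
theorem F_2876 (IH : D.IHyp) : ed Gen.h (D.P 327) = (D.P 327) :=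
  D.real_edge' IH Gen.h 327 327 (by decide +kernel)
theorem F_2877 (IH : D.IHyp) : ed Gen.d V_486 = V_487 :=
  rfl
theorem F_2878 (IH : D.IHyp) : ed Gen.d V_487 = V_486 :=
  flipE D.rels D.S (hinv Gen.d) (F_2877 IH)
theorem F_2879 (IH : D.IHyp) : ed Gen.b (D.P 221) = V_487 :=
  gap_rel RW_26 (path_edge (F_763 IH) (path_edge (F_2859 IH) (path_edge (F_2878 IH) (path_nil _))))
theorem F_2880 (IH : D.IHyp) : ed Gen.b V_487 = (D.P 221) :=
  flipE D.rels D.S (hinv Gen.b) (F_2879 IH)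
theorem F_2899 (IH : D.IHyp) : ed Gen.e (D.P 252) = (D.P 280) :=
  D.real_edge' IH Gen.e 252 280 (by decide +kernel)
theorem F_2926 (IH : D.IHyp) : ed Gen.f V_487 = V_488 :=
  rfl
theorem F_2927 (IH : D.IHyp) : ed Gen.f V_488 = V_487 :=
  flipE D.rels D.S (hinv Gen.f) (F_2926 IH)
theorem F_2928 (IH : D.IHyp) : ed Gen.b (D.P 189) = V_488 :=
  gap_rel RW_31 (path_edge (F_842 IH) (path_edge (F_2880 IH) (path_edge (F_2927 IH) (path_nil _))))
theorem F_2929 (IH : D.IHyp) : ed Gen.b V_488 = (D.P 189) :=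
  flipE D.rels D.S (hinv Gen.b) (F_2928 IH)
theorem F_2932 (IH : D.IHyp) : ed Gen.e V_488 = V_488 :=
  gap_rel RW_12 (path_edge (F_2928 IH) (path_edge (F_843 IH) (path_edge (F_2929 IH) (path_nil _))))
theorem F_2942 (IH : D.IHyp) : ed Gen.d V_488 = V_489 :=
  rfl
theorem F_2943 (IH : D.IHyp) : ed Gen.d V_489 = V_488 :=
  flipE D.rels D.S (hinv Gen.d) (F_2942 IH)
theorem F_2944 (IH : D.IHyp) : ed Gen.b (D.P 172) = V_489 :=
  gap_rel RW_26 (path_edge (F_760 IH) (path_edge (F_2929 IH) (path_edge (F_2943 IH) (path_nil _))))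
theorem F_2945 (IH : D.IHyp) : ed Gen.b V_489 = (D.P 172) :=
  flipE D.rels D.S (hinv Gen.b) (F_2944 IH)
theorem F_2952 (IH : D.IHyp) : ed Gen.i (D.P 189) = V_490 :=
  rfl
theorem F_2953 (IH : D.IHyp) : ed Gen.i V_490 = (D.P 189) :=
  flipE D.rels D.S (hinv Gen.i) (F_2952 IH)
theorem F_2954 (IH : D.IHyp) : ed Gen.e V_490 = V_490 :=
  gap_rel RW_44 (path_edge (F_2952 IH) (path_edge (F_843 IH) (path_edge (F_2953 IH) (path_nil _))))
theorem F_2955 (IH : D.IHyp) : ed Gen.h V_490 = V_491 :=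
  rfl
theorem F_2956 (IH : D.IHyp) : ed Gen.h V_491 = V_490 :=
  flipE D.rels D.S (hinv Gen.h) (F_2955 IH)
theorem F_2957 (IH : D.IHyp) : ed Gen.e V_491 = V_491 :=
  gap_rel RW_42 (path_edge (F_2955 IH) (path_edge (F_2954 IH) (path_edge (F_2956 IH) (path_nil _))))
theorem F_2958 (IH : D.IHyp) : ed Gen.h (D.P 215) = (D.P 183) :=
  D.real_edge' IH Gen.h 215 183 (by decide +kernel)
theorem F_2959 (IH : D.IHyp) : ed Gen.i V_491 = (D.P 215) :=
  gap_rel RW_45 (path_edge (F_2955 IH) (path_edge (F_2952 IH) (path_edge (F_759 IH) (path_edge (F_758 IH) (path_edge (F_2958 IH) (path_nil _))))))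
theorem F_2960 (IH : D.IHyp) : ed Gen.i (D.P 215) = V_491 :=
  flipE D.rels D.S (hinv Gen.i) (F_2959 IH)
theorem F_2961 (IH : D.IHyp) : ed Gen.d V_491 = V_491 :=
  gap_rel RW_46 (path_edge (F_2960 IH) (path_edge (F_1285 IH) (path_edge (F_2959 IH) (path_nil _))))
theorem F_2962 (IH : D.IHyp) : ed Gen.g (D.P 215) = (D.P 208) :=
  D.real_edge' IH Gen.g 215 208 (by decide +kernel)
theorem F_2970 (IH : D.IHyp) : ed Gen.g (D.P 327) = (D.P 345) :=
  D.real_edge' IH Gen.g 327 345 (by decide +kernel)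
theorem F_2974 (IH : D.IHyp) : ed Gen.f V_491 = V_492 :=
  rfl
theorem F_2975 (IH : D.IHyp) : ed Gen.f V_492 = V_491 :=
  flipE D.rels D.S (hinv Gen.f) (F_2974 IH)
theorem F_2977 (IH : D.IHyp) : ed Gen.i V_492 = (D.P 247) :=
  gap_rel RW_23 (path_edge (F_2974 IH) (path_edge (F_2960 IH) (path_edge (F_1283 IH) (path_nil _))))
theorem F_2978 (IH : D.IHyp) : ed Gen.i (D.P 247) = V_492 :=
  flipE D.rels D.S (hinv Gen.i) (F_2977 IH)
theorem F_2985 (IH : D.IHyp) : ed Gen.i (D.P 290) = (D.P 290) :=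
  D.real_edge' IH Gen.i 290 290 (by decide +kernel)
theorem F_2991 (IH : D.IHyp) : ed Gen.e V_492 = V_493 :=
  rfl
theorem F_2992 (IH : D.IHyp) : ed Gen.e V_493 = V_492 :=
  flipE D.rels D.S (hinv Gen.e) (F_2991 IH)
theorem F_2993 (IH : D.IHyp) : ed Gen.i V_493 = (D.P 276) :=
  gap_rel RW_11 (path_edge (F_2991 IH) (path_edge (F_2978 IH) (path_edge (F_2619 IH) (path_nil _))))
theorem F_2994 (IH : D.IHyp) : ed Gen.i (D.P 276) = V_493 :=
  flipE D.rels D.S (hinv Gen.i) (F_2993 IH)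
theorem F_2995 (IH : D.IHyp) : ed Gen.f V_493 = V_493 :=
  gap_rel RW_38 (path_edge (F_2991 IH) (path_edge (F_2974 IH) (path_edge (F_2957 IH) (path_edge (F_2975 IH) (path_edge (F_2992 IH) (path_nil _))))))
theorem F_2999 (IH : D.IHyp) : ed Gen.h (D.P 290) = (D.P 306) :=
  D.real_edge' IH Gen.h 290 306 (by decide +kernel)
theorem F_3000 (IH : D.IHyp) : ed Gen.d V_493 = V_494 :=
  rfl
theorem F_3001 (IH : D.IHyp) : ed Gen.d V_494 = V_493 :=
  flipE D.rels D.S (hinv Gen.d) (F_3000 IH)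
theorem F_3002 (IH : D.IHyp) : ed Gen.f V_494 = V_494 :=
  gap_rel RW_27 (path_edge (F_3000 IH) (path_edge (F_2995 IH) (path_edge (F_3001 IH) (path_nil _))))
theorem F_3003 (IH : D.IHyp) : ed Gen.i V_494 = (D.P 306) :=
  gap_rel RW_29 (path_edge (F_3000 IH) (path_edge (F_2994 IH) (path_edge (F_1298 IH) (path_nil _))))
theorem F_3004 (IH : D.IHyp) : ed Gen.i (D.P 306) = V_494 :=
  flipE D.rels D.S (hinv Gen.i) (F_3003 IH)
theorem F_3011 (IH : D.IHyp) : ed Gen.h V_494 = V_494 :=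
  gap_rel RW_47 (path_edge (F_3004 IH) (path_edge (F_2999 IH) (path_edge (F_2985 IH) (path_edge (F_2245 IH) (path_edge (F_3003 IH) (path_nil _))))))
theorem F_3014 (IH : D.IHyp) : ed Gen.b V_494 = V_495 :=
  rfl
theorem F_3015 (IH : D.IHyp) : ed Gen.b V_495 = V_494 :=
  flipE D.rels D.S (hinv Gen.b) (F_3014 IH)
theorem F_3017 (IH : D.IHyp) : ed Gen.f V_495 = V_495 :=
  gap_rel RW_5 (path_edge (F_3014 IH) (path_edge (F_3002 IH) (path_edge (F_3015 IH) (path_nil _))))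
theorem F_3018 (IH : D.IHyp) : ed Gen.h V_495 = V_495 :=
  gap_rel RW_7 (path_edge (F_3014 IH) (path_edge (F_3011 IH) (path_edge (F_3015 IH) (path_nil _))))
theorem F_3019 (IH : D.IHyp) : ed Gen.c V_495 = V_496 :=
  rfl
theorem F_3020 (IH : D.IHyp) : ed Gen.c V_496 = V_495 :=
  flipE D.rels D.S (hinv Gen.c) (F_3019 IH)
theorem F_3022 (IH : D.IHyp) : ed Gen.f V_496 = V_496 :=
  gap_rel RW_0 (path_edge (F_3019 IH) (path_edge (F_3017 IH) (path_edge (F_3020 IH) (path_nil _))))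
theorem F_3023 (IH : D.IHyp) : ed Gen.h V_496 = V_496 :=
  gap_rel RW_2 (path_edge (F_3019 IH) (path_edge (F_3018 IH) (path_edge (F_3020 IH) (path_nil _))))
theorem F_3024 (IH : D.IHyp) : ed Gen.d V_496 = V_497 :=
  rfl
theorem F_3025 (IH : D.IHyp) : ed Gen.d V_497 = V_496 :=
  flipE D.rels D.S (hinv Gen.d) (F_3024 IH)
theorem F_3026 (IH : D.IHyp) : ed Gen.f V_497 = V_497 :=
  gap_rel RW_27 (path_edge (F_3024 IH) (path_edge (F_3022 IH) (path_edge (F_3025 IH) (path_nil _))))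
theorem F_3027 (IH : D.IHyp) : ed Gen.i V_497 = V_498 :=
  rfl
theorem F_3028 (IH : D.IHyp) : ed Gen.i V_498 = V_497 :=
  flipE D.rels D.S (hinv Gen.i) (F_3027 IH)
theorem F_3029 (IH : D.IHyp) : ed Gen.f V_498 = V_498 :=
  gap_rel RW_48 (path_edge (F_3027 IH) (path_edge (F_3026 IH) (path_edge (F_3028 IH) (path_nil _))))
theorem F_3030 (IH : D.IHyp) : ed Gen.h V_498 = V_499 :=
  rfl
theorem F_3031 (IH : D.IHyp) : ed Gen.h V_499 = V_498 :=
  flipE D.rels D.S (hinv Gen.h) (F_3030 IH)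
theorem F_3032 (IH : D.IHyp) : ed Gen.f V_499 = V_499 :=
  gap_rel RW_35 (path_edge (F_3030 IH) (path_edge (F_3029 IH) (path_edge (F_3031 IH) (path_nil _))))
theorem F_3033 (IH : D.IHyp) : ed Gen.d V_499 = V_500 :=
  rfl
theorem F_3034 (IH : D.IHyp) : ed Gen.d V_500 = V_499 :=
  flipE D.rels D.S (hinv Gen.d) (F_3033 IH)
theorem F_3035 (IH : D.IHyp) : ed Gen.f V_500 = V_500 :=
  gap_rel RW_27 (path_edge (F_3033 IH) (path_edge (F_3032 IH) (path_edge (F_3034 IH) (path_nil _))))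
theorem F_3036 (IH : D.IHyp) : ed Gen.e V_500 = V_501 :=
  rfl
theorem F_3038 (IH : D.IHyp) : ed Gen.d V_501 = V_502 :=
  rfl
theorem F_3040 (IH : D.IHyp) : ed Gen.b V_502 = V_503 :=
  rfl
theorem F_3042 (IH : D.IHyp) : ed Gen.c V_503 = V_504 :=
  rfl
theorem F_3044 (IH : D.IHyp) : ed Gen.d V_504 = V_505 :=
  rfl
theorem F_3046 (IH : D.IHyp) : ed Gen.i V_505 = V_506 :=
  rfl
theorem F_3048 (IH : D.IHyp) : ed Gen.h V_506 = V_507 :=
  rfl
theorem F_3050 (IH : D.IHyp) : ed Gen.d V_507 = V_508 :=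
  rfl
theorem F_3052 (IH : D.IHyp) : ed Gen.f V_508 = V_509 :=
  rfl
theorem F_3054 (IH : D.IHyp) : ed Gen.e V_509 = V_510 :=
  rfl
theorem F_3056 (IH : D.IHyp) : ed Gen.d V_510 = V_511 :=
  rfl
theorem F_3058 (IH : D.IHyp) : ed Gen.b V_511 = V_512 :=
  rfl
theorem F_3060 (IH : D.IHyp) : ed Gen.c V_512 = V_513 :=
  rfl
theorem F_3062 (IH : D.IHyp) : ed Gen.d V_513 = V_514 :=
  rfl
theorem F_3064 (IH : D.IHyp) : ed Gen.i V_514 = V_515 :=
  rfl
theorem F_3066 (IH : D.IHyp) : ed Gen.h V_515 = V_516 :=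
  rfl
theorem F_3068 (IH : D.IHyp) : ed Gen.d V_516 = V_517 :=
  rfl
theorem F_3070 (IH : D.IHyp) : ed Gen.f V_517 = V_518 :=
  rfl
theorem F_3072 (IH : D.IHyp) : ed Gen.e V_518 = V_519 :=
  rfl
theorem F_3074 (IH : D.IHyp) : ed Gen.d V_519 = V_520 :=
  rfl
theorem F_3076 (IH : D.IHyp) : ed Gen.b V_520 = V_521 :=
  rfl
theorem F_3078 (IH : D.IHyp) : ed Gen.c V_521 = V_522 :=
  rfl
theorem F_3080 (IH : D.IHyp) : ed Gen.d V_522 = V_523 :=
  rfl
theorem F_3082 (IH : D.IHyp) : ed Gen.i V_523 = V_524 :=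
  rfl
theorem F_3084 (IH : D.IHyp) : ed Gen.h V_524 = V_525 :=
  rfl
theorem F_3086 (IH : D.IHyp) : ed Gen.d V_525 = V_526 :=
  rfl
theorem F_3088 (IH : D.IHyp) : ed Gen.f V_526 = V_527 :=
  rfl
theorem F_3090 (IH : D.IHyp) : ed Gen.e V_527 = V_528 :=
  rfl
theorem F_3092 (IH : D.IHyp) : ed Gen.d V_528 = V_529 :=
  rfl
theorem F_3094 (IH : D.IHyp) : ed Gen.b V_529 = V_530 :=
  rfl
theorem F_3096 (IH : D.IHyp) : ed Gen.c V_530 = V_531 :=
  rfl
theorem F_3098 (IH : D.IHyp) : ed Gen.d V_531 = V_532 :=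
  rfl
theorem F_3100 (IH : D.IHyp) : ed Gen.i V_532 = V_533 :=
  rfl
theorem F_3102 (IH : D.IHyp) : ed Gen.h V_533 = V_534 :=
  rfl
theorem F_3104 (IH : D.IHyp) : ed Gen.d V_534 = V_535 :=
  rfl
theorem F_3106 (IH : D.IHyp) : ed Gen.f V_535 = V_536 :=
  rfl
theorem F_3108 (IH : D.IHyp) : ed Gen.e V_536 = V_537 :=
  rfl
theorem F_3110 (IH : D.IHyp) : ed Gen.d V_537 = V_538 :=
  rfl
theorem F_3111 (IH : D.IHyp) : ed Gen.d V_538 = V_537 :=
  flipE D.rels D.S (hinv Gen.d) (F_3110 IH)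
theorem F_3112 (IH : D.IHyp) : ed Gen.b V_538 = V_539 :=
  rfl
theorem F_3113 (IH : D.IHyp) : ed Gen.b V_539 = V_538 :=
  flipE D.rels D.S (hinv Gen.b) (F_3112 IH)
theorem F_3114 (IH : D.IHyp) : ed Gen.c V_539 = V_540 :=
  rfl
theorem F_3115 (IH : D.IHyp) : ed Gen.c V_540 = V_539 :=
  flipE D.rels D.S (hinv Gen.c) (F_3114 IH)
theorem F_3116 (IH : D.IHyp) : ed Gen.d V_540 = V_541 :=
  rfl
theorem F_3117 (IH : D.IHyp) : ed Gen.d V_541 = V_540 :=
  flipE D.rels D.S (hinv Gen.d) (F_3116 IH)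
theorem F_3118 (IH : D.IHyp) : ed Gen.i V_541 = V_542 :=
  rfl
theorem F_3119 (IH : D.IHyp) : ed Gen.i V_542 = V_541 :=
  flipE D.rels D.S (hinv Gen.i) (F_3118 IH)
theorem F_3120 (IH : D.IHyp) : ed Gen.h V_542 = V_543 :=
  rfl
theorem F_3121 (IH : D.IHyp) : ed Gen.h V_543 = V_542 :=
  flipE D.rels D.S (hinv Gen.h) (F_3120 IH)
theorem F_3122 (IH : D.IHyp) : ed Gen.d V_543 = V_372 :=
  gap_rel RW_49 (path_edge (F_3120 IH) (path_edge (F_3118 IH) (path_edge (F_3116 IH) (path_edge (F_3114 IH) (path_edge (F_3112 IH) (path_edge (F_3110 IH) (path_edge (F_3108 IH) (path_edge (F_3106 IH) (path_edge (F_3104 IH) (path_edge (F_3102 IH) (path_edge (F_3100 IH) (path_edge (F_3098 IH) (path_edge (F_3096 IH) (path_edge (F_3094 IH) (path_edge (F_3092 IH) (path_edge (F_3090 IH) (path_edge (F_3088 IH) (path_edge (F_3086 IH) (path_edge (F_3084 IH) (path_edge (F_3082 IH) (path_edge (F_3080 IH) (path_edge (F_3078 IH) (path_edge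 (F_3076 IH) (path_edge (F_3074 IH) (path_edge (F_3072 IH) (path_edge (F_3070 IH) (path_edge (F_3068 IH) (path_edge (F_3066 IH) (path_edge (F_3064 IH) (path_edge (F_3062 IH) (path_edge (F_3060 IH) (path_edge (F_3058 IH) (path_edge (F_3056 IH) (path_edge (F_3054 IH) (path_edge (F_3052 IH) (path_edge (F_3050 IH) (path_edge (F_3048 IH) (path_edge (F_3046 IH) (path_edge (F_3044 IH) (path_edge (F_3042 IH) (path_edge (F_3040 IH) (path_edge (F_3038 IH) (path_edge (F_3036 IH) (path_edge (F_3035 IH) (path_edge (F_3033 IH) (path_edge (F_3030 IH) (path_edge (F_3027 IH) (path_edge (F_3024 IH) (path_edge (F_3019 IH) (path_edge (F_3014 IH) (path_edge (F_3000 IH) (path_edge (F_2991 IH) (path_edge (F_2974 IH) (path_edge (F_2961 IH) (path_edge (F_2955 IH) (path_edge (F_2952 IH) (path_edge (F_589 IH) (path_edge (F_2031 IH) (path_edge (F_2945 IH) (path_edge (F_2942 IH) (path_edge (F_2932 IH) (path_edge (F_2926 IH) (path_edge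 (F_2877 IH) (path_edge (F_2856 IH) (path_edge (F_2838 IH) (path_edge (F_2834 IH) (path_edge (F_1256 IH) (path_edge (F_901 IH) (path_edge (F_1961 IH) (path_edge (F_2016 IH) (path_edge (F_561 IH) (path_edge (F_1192 IH) (path_edge (F_1207 IH) (path_edge (F_2779 IH) (path_edge (F_2780 IH) (path_edge (F_770 IH) (path_edge (F_2800 IH) (path_edge (F_2797 IH) (path_edge (F_2748 IH) (path_edge (F_2674 IH) (path_edge (F_2677 IH) (path_edge (F_2669 IH) (path_edge (F_930 IH) (path_edge (F_923 IH) (path_edge (F_667 IH) (path_edge (F_2 IH) (path_edge (F_15 IH) (path_edge (F_432 IH) (path_edge (F_918 IH) (path_nil _))))))))))))))))))))))))))))))))))))))))))))))))))))))))))))))))))))))))))))))))))))))))))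
theorem F_3123 (IH : D.IHyp) : ed Gen.d V_372 = V_543 :=
  flipE D.rels D.S (hinv Gen.d) (F_3122 IH)
theorem F_3124 (IH : D.IHyp) : ed Gen.f V_371 = V_543 :=
  gap_rel RW_27 (path_edge (F_912 IH) (path_edge (F_918 IH) (path_edge (F_3122 IH) (path_nil _))))
theorem F_3125 (IH : D.IHyp) : ed Gen.f V_543 = V_371 :=
  flipE D.rels D.S (hinv Gen.f) (F_3124 IH)
theorem F_3128 (IH : D.IHyp) : ed Gen.c V_543 = V_543 :=
  gap_rel RW_50 (path_edge (F_3124 IH) (path_edge (F_915 IH) (path_edge (F_3125 IH) (path_nil _))))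
theorem F_3130 (IH : D.IHyp) : ed Gen.c V_542 = V_542 :=
  gap_rel RW_51 (path_edge (F_3121 IH) (path_edge (F_3128 IH) (path_edge (F_3120 IH) (path_nil _))))
theorem F_3131 (IH : D.IHyp) : ed Gen.d V_542 = V_542 :=
  gap_rel RW_39 (path_edge (F_3121 IH) (path_edge (F_3123 IH) (path_edge (F_919 IH) (path_edge (F_3122 IH) (path_edge (F_3120 IH) (path_nil _))))))
theorem F_3133 (IH : D.IHyp) : ed Gen.c V_541 = V_541 :=
  gap_rel RW_52 (path_edge (F_3119 IH) (path_edge (F_3130 IH) (path_edge (F_3118 IH) (path_nil _))))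
theorem F_3134 (IH : D.IHyp) : ed Gen.i V_540 = V_542 :=
  gap_rel RW_29 (path_edge (F_3117 IH) (path_edge (F_3119 IH) (path_edge (F_3131 IH) (path_nil _))))
theorem F_3135 (IH : D.IHyp) : ed Gen.i V_542 = V_540 :=
  flipE D.rels D.S (hinv Gen.i) (F_3134 IH)
theorem F_3136 (IH : D.IHyp) : V_541 = V_540 :=
  edge_fun (F_3119 IH) (F_3135 IH)
theorem F_3137 (IH : D.IHyp) : ed Gen.c V_541 = V_540 :=
  (F_3133 IH).trans (F_3136 IH)
theorem F_3138 (IH : D.IHyp) : ed Gen.c V_540 = V_540 :=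
  edge_congr (F_3137 IH) (F_3136 IH)
theorem F_3139 (IH : D.IHyp) : V_539 = V_540 :=
  edge_fun (F_3115 IH) (F_3138 IH)
theorem F_3142 (IH : D.IHyp) : ed Gen.d V_540 = V_540 :=
  edge_congr (F_3117 IH) (F_3136 IH)
theorem F_3147 (IH : D.IHyp) : V_540 = V_539 :=
  (F_3139 IH).symm
theorem F_3148 (IH : D.IHyp) : ed Gen.c V_539 = V_539 :=
  edge_congr (F_3115 IH) (F_3147 IH)
theorem F_3149 (IH : D.IHyp) : ed Gen.d V_540 = V_539 :=
  (F_3142 IH).trans (F_3147 IH)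
theorem F_3150 (IH : D.IHyp) : ed Gen.d V_539 = V_539 :=
  edge_congr (F_3149 IH) (F_3147 IH)
theorem F_3153 (IH : D.IHyp) : ed Gen.i V_539 = V_542 :=
  edge_congr (F_3134 IH) (F_3147 IH)
theorem F_3154 (IH : D.IHyp) : ed Gen.i V_542 = V_539 :=
  flipE D.rels D.S (hinv Gen.i) (F_3153 IH)
theorem F_3156 (IH : D.IHyp) : ed Gen.b V_537 = V_539 :=
  gap_rel RW_26 (path_edge (F_3111 IH) (path_edge (F_3113 IH) (path_edge (F_3150 IH) (path_nil _))))
theorem F_3157 (IH : D.IHyp) : ed Gen.b V_539 = V_537 :=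
  flipE D.rels D.S (hinv Gen.b) (F_3156 IH)
theorem F_3158 (IH : D.IHyp) : V_538 = V_537 :=
  edge_fun (F_3113 IH) (F_3157 IH)
theorem F_3159 (IH : D.IHyp) : ed Gen.b V_537 = V_539 :=
  edge_congr (F_3112 IH) (F_3158 IH)
theorem F_3160 (IH : D.IHyp) : ed Gen.b V_539 = V_537 :=
  flipE D.rels D.S (hinv Gen.b) (F_3159 IH)
theorem F_3174 (IH : D.IHyp) : ed Gen.d V_449 = V_544 :=
  rfl
theorem F_3175 (IH : D.IHyp) : ed Gen.d V_544 = V_449 :=
  flipE D.rels D.S (hinv Gen.d) (F_3174 IH)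
theorem F_3176 (IH : D.IHyp) : ed Gen.b V_543 = V_544 :=
  gap_rel RW_26 (path_edge (F_3123 IH) (path_edge (F_2455 IH) (path_edge (F_3175 IH) (path_nil _))))
theorem F_3177 (IH : D.IHyp) : ed Gen.b V_544 = V_543 :=
  flipE D.rels D.S (hinv Gen.b) (F_3176 IH)
theorem F_3178 (IH : D.IHyp) : ed Gen.f V_544 = V_450 :=
  gap_rel RW_27 (path_edge (F_3174 IH) (path_edge (F_2458 IH) (path_edge (F_2501 IH) (path_nil _))))
theorem F_3180 (IH : D.IHyp) : ed Gen.g V_544 = V_544 :=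
  gap_rel RW_28 (path_edge (F_3174 IH) (path_edge (F_2460 IH) (path_edge (F_3175 IH) (path_nil _))))
theorem F_3182 (IH : D.IHyp) : ed Gen.h V_544 = V_545 :=
  rfl
theorem F_3183 (IH : D.IHyp) : ed Gen.h V_545 = V_544 :=
  flipE D.rels D.S (hinv Gen.h) (F_3182 IH)
theorem F_3184 (IH : D.IHyp) : ed Gen.b V_542 = V_545 :=
  gap_rel RW_34 (path_edge (F_3121 IH) (path_edge (F_3177 IH) (path_edge (F_3183 IH) (path_nil _))))
theorem F_3185 (IH : D.IHyp) : ed Gen.b V_545 = V_542 :=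
  flipE D.rels D.S (hinv Gen.b) (F_3184 IH)
theorem F_3186 (IH : D.IHyp) : ed Gen.f V_451 = V_545 :=
  gap_rel RW_35 (path_edge (F_2505 IH) (path_edge (F_3178 IH) (path_edge (F_3183 IH) (path_nil _))))
theorem F_3187 (IH : D.IHyp) : ed Gen.f V_545 = V_451 :=
  flipE D.rels D.S (hinv Gen.f) (F_3186 IH)
theorem F_3188 (IH : D.IHyp) : ed Gen.g V_545 = V_545 :=
  gap_rel RW_41 (path_edge (F_3182 IH) (path_edge (F_3180 IH) (path_edge (F_3183 IH) (path_nil _))))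
theorem F_3190 (IH : D.IHyp) : ed Gen.i V_537 = V_545 :=
  gap_rel RW_8 (path_edge (F_3160 IH) (path_edge (F_3154 IH) (path_edge (F_3185 IH) (path_nil _))))
theorem F_3191 (IH : D.IHyp) : ed Gen.i V_545 = V_537 :=
  flipE D.rels D.S (hinv Gen.i) (F_3190 IH)
theorem F_3192 (IH : D.IHyp) : ed Gen.g V_453 = V_451 :=
  gap_rel RW_25 (path_edge (F_2513 IH) (path_edge (F_2509 IH) (path_edge (F_3187 IH) (path_edge (F_3188 IH) (path_edge (F_3186 IH) (path_nil _))))))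
theorem F_3193 (IH : D.IHyp) : ed Gen.g V_451 = V_453 :=
  flipE D.rels D.S (hinv Gen.g) (F_3192 IH)
theorem F_3194 (IH : D.IHyp) : V_452 = V_453 :=
  edge_fun (F_2509 IH) (F_3193 IH)
theorem F_3195 (IH : D.IHyp) : V_453 = V_452 :=
  (F_3194 IH).symm
theorem F_3198 (IH : D.IHyp) : ed Gen.e V_452 = V_454 :=
  edge_congr (F_2516 IH) (F_3195 IH)
theorem F_3199 (IH : D.IHyp) : V_452 = V_454 :=
  edge_fun (F_2512 IH) (F_3198 IH)
theorem F_3203 (IH : D.IHyp) : V_454 = V_452 :=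
  (F_3199 IH).symm
theorem F_3204 (IH : D.IHyp) : ed Gen.d V_452 = V_455 :=
  edge_congr (F_2519 IH) (F_3203 IH)
theorem F_3205 (IH : D.IHyp) : V_452 = V_455 :=
  edge_fun (F_2511 IH) (F_3204 IH)
theorem F_3210 (IH : D.IHyp) : V_455 = V_452 :=
  (F_3205 IH).symm
theorem F_3211 (IH : D.IHyp) : ed Gen.c V_452 = V_456 :=
  edge_congr (F_2523 IH) (F_3210 IH)
theorem F_3212 (IH : D.IHyp) : ed Gen.c V_456 = V_452 :=
  flipE D.rels D.S (hinv Gen.c) (F_3211 IH)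
theorem F_3218 (IH : D.IHyp) : ed Gen.c V_537 = V_546 :=
  rfl
theorem F_3219 (IH : D.IHyp) : ed Gen.c V_546 = V_537 :=
  flipE D.rels D.S (hinv Gen.c) (F_3218 IH)
theorem F_3222 (IH : D.IHyp) : ed Gen.b V_546 = V_546 :=
  gap_rel RW_19 (path_edge (F_3218 IH) (path_edge (F_3160 IH) (path_edge (F_3148 IH) (path_edge (F_3156 IH) (path_edge (F_3219 IH) (path_nil _))))))
theorem F_3333 (IH : D.IHyp) : ed Gen.c (D.P 273) = V_575 :=
  rfl
theorem F_3356 (IH : D.IHyp) : ed Gen.b V_575 = V_576 :=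
  rfl
theorem F_3359 (IH : D.IHyp) : ed Gen.d V_576 = V_577 :=
  rfl
theorem F_3362 (IH : D.IHyp) : ed Gen.e V_577 = V_578 :=
  rfl
theorem F_3364 (IH : D.IHyp) : ed Gen.f V_578 = V_579 :=
  rfl
theorem F_3367 (IH : D.IHyp) : ed Gen.d V_579 = V_580 :=
  rfl
theorem F_3369 (IH : D.IHyp) : ed Gen.h V_580 = V_581 :=
  rfl
theorem F_3371 (IH : D.IHyp) : ed Gen.i V_581 = V_582 :=
  rfl
theorem F_3373 (IH : D.IHyp) : ed Gen.d V_582 = V_583 :=
  rfl
theorem F_3375 (IH : D.IHyp) : ed Gen.c V_583 = V_584 :=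
  rfl
theorem F_3377 (IH : D.IHyp) : ed Gen.b V_584 = V_585 :=
  rfl
theorem F_3379 (IH : D.IHyp) : ed Gen.d V_585 = V_586 :=
  rfl
theorem F_3381 (IH : D.IHyp) : ed Gen.e V_586 = V_587 :=
  rfl
theorem F_3383 (IH : D.IHyp) : ed Gen.f V_587 = V_588 :=
  rfl
theorem F_3385 (IH : D.IHyp) : ed Gen.d V_588 = V_589 :=
  rfl
theorem F_3387 (IH : D.IHyp) : ed Gen.h V_589 = V_590 :=
  rfl
theorem F_3389 (IH : D.IHyp) : ed Gen.i V_590 = V_591 :=
  rfl
theorem F_3391 (IH : D.IHyp) : ed Gen.d V_591 = V_592 :=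
  rfl
theorem F_3393 (IH : D.IHyp) : ed Gen.c V_592 = V_593 :=
  rfl
theorem F_3395 (IH : D.IHyp) : ed Gen.b V_593 = V_594 :=
  rfl
theorem F_3397 (IH : D.IHyp) : ed Gen.d V_594 = V_595 :=
  rfl
theorem F_3399 (IH : D.IHyp) : ed Gen.e V_595 = V_596 :=
  rfl
theorem F_3401 (IH : D.IHyp) : ed Gen.f V_596 = V_597 :=
  rfl
theorem F_3403 (IH : D.IHyp) : ed Gen.d V_597 = V_598 :=
  rfl
theorem F_3405 (IH : D.IHyp) : ed Gen.h V_598 = V_599 :=
  rfl
theorem F_3407 (IH : D.IHyp) : ed Gen.i V_599 = V_600 :=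
  rfl
theorem F_3409 (IH : D.IHyp) : ed Gen.d V_600 = V_601 :=
  rfl
theorem F_3411 (IH : D.IHyp) : ed Gen.c V_601 = V_602 :=
  rfl
theorem F_3413 (IH : D.IHyp) : ed Gen.b V_602 = V_603 :=
  rfl
theorem F_3415 (IH : D.IHyp) : ed Gen.d V_603 = V_604 :=
  rfl
theorem F_3417 (IH : D.IHyp) : ed Gen.e V_604 = V_605 :=
  rfl
theorem F_3419 (IH : D.IHyp) : ed Gen.f V_605 = V_606 :=
  rfl
theorem F_3421 (IH : D.IHyp) : ed Gen.d V_606 = V_607 :=
  rfl
theorem F_3423 (IH : D.IHyp) : ed Gen.h V_607 = V_608 :=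
  rfl
theorem F_3425 (IH : D.IHyp) : ed Gen.i V_608 = V_609 :=
  rfl
theorem F_3427 (IH : D.IHyp) : ed Gen.d V_609 = V_610 :=
  rfl
theorem F_3429 (IH : D.IHyp) : ed Gen.c V_610 = V_611 :=
  rfl
theorem F_3431 (IH : D.IHyp) : ed Gen.b V_611 = V_612 :=
  rfl
theorem F_3433 (IH : D.IHyp) : ed Gen.d V_612 = V_613 :=
  rfl
theorem F_3435 (IH : D.IHyp) : ed Gen.e V_613 = V_614 :=
  rfl
theorem F_3437 (IH : D.IHyp) : ed Gen.f V_614 = V_615 :=
  rfl
theorem F_3439 (IH : D.IHyp) : ed Gen.d V_615 = V_616 :=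
  rfl
theorem F_3441 (IH : D.IHyp) : ed Gen.h V_616 = V_617 :=
  rfl
theorem F_3443 (IH : D.IHyp) : ed Gen.i V_617 = V_618 :=
  rfl
theorem F_3445 (IH : D.IHyp) : ed Gen.d V_618 = V_619 :=
  rfl
theorem F_3447 (IH : D.IHyp) : ed Gen.c V_619 = V_620 :=
  rfl
theorem F_3449 (IH : D.IHyp) : ed Gen.b V_620 = V_621 :=
  rfl
theorem F_3451 (IH : D.IHyp) : ed Gen.d V_621 = V_622 :=
  rfl
theorem F_3453 (IH : D.IHyp) : ed Gen.e V_622 = V_623 :=
  rfl
theorem F_3455 (IH : D.IHyp) : ed Gen.f V_623 = V_624 :=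
  rfl
theorem F_3457 (IH : D.IHyp) : ed Gen.d V_624 = V_625 :=
  rfl
theorem F_3459 (IH : D.IHyp) : ed Gen.h V_625 = V_626 :=
  rfl
theorem F_3461 (IH : D.IHyp) : ed Gen.i V_626 = V_627 :=
  rfl
theorem F_3463 (IH : D.IHyp) : ed Gen.d V_627 = V_628 :=
  rfl
theorem F_3465 (IH : D.IHyp) : ed Gen.c V_628 = V_450 :=
  gap_rel RW_53 (path_edge (F_3463 IH) (path_edge (F_3461 IH) (path_edge (F_3459 IH) (path_edge (F_3457 IH) (path_edge (F_3455 IH) (path_edge (F_3453 IH) (path_edge (F_3451 IH) (path_edge (F_3449 IH) (path_edge (F_3447 IH) (path_edge (F_3445 IH) (path_edge (F_3443 IH) (path_edge (F_3441 IH) (path_edge (F_3439 IH) (path_edge (F_3437 IH) (path_edge (F_3435 IH) (path_edge (F_3433 IH) (path_edge (F_3431 IH) (path_edge (F_3429 IH) (path_edge (F_3427 IH) (path_edge (F_3425 IH) (path_edge (F_3423 IH) (path_edge (F_3421 IH) (path_edge (F_3419 IH) (path_edge (F_3417 IH) (path_edge (F_3415 IH) (path_edge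 (F_3413 IH) (path_edge (F_3411 IH) (path_edge (F_3409 IH) (path_edge (F_3407 IH) (path_edge (F_3405 IH) (path_edge (F_3403 IH) (path_edge (F_3401 IH) (path_edge (F_3399 IH) (path_edge (F_3397 IH) (path_edge (F_3395 IH) (path_edge (F_3393 IH) (path_edge (F_3391 IH) (path_edge (F_3389 IH) (path_edge (F_3387 IH) (path_edge (F_3385 IH) (path_edge (F_3383 IH) (path_edge (F_3381 IH) (path_edge (F_3379 IH) (path_edge (F_3377 IH) (path_edge (F_3375 IH) (path_edge (F_3373 IH) (path_edge (F_3371 IH) (path_edge (F_3369 IH) (path_edge (F_3367 IH) (path_edge (F_3364 IH) (path_edge (F_3362 IH) (path_edge (F_3359 IH) (path_edge (F_3356 IH) (path_edge (F_3333 IH) (path_edge (F_192 IH) (path_edge (F_191 IH) (path_edge (F_190 IH) (path_edge (F_189 IH) (path_edge (F_188 IH) (path_edge (F_187 IH) (path_edge (F_186 IH) (path_edge (F_185 IH) (path_edge (F_184 IH) (path_edge (F_183 IH) (path_edge (F_182 IH) (path_edge (F_181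 IH) (path_edge (F_180 IH) (path_edge (F_179 IH) (path_edge (F_178 IH) (path_edge (F_177 IH) (path_edge (F_176 IH) (path_edge (F_175 IH) (path_edge (F_170 IH) (path_edge (F_174 IH) (path_edge (F_80 IH) (path_edge (F_173 IH) (path_edge (F_172 IH) (path_edge (F_171 IH) (path_edge (F_170 IH) (path_edge (F_26 IH) (path_edge (F_1 IH) (path_edge (F_15 IH) (path_edge (F_13 IH) (path_edge (F_11 IH) (path_edge (F_15 IH) (path_edge (F_5 IH) (path_edge (F_432 IH) (path_edge (F_913 IH) (path_edge (F_2500 IH) (path_nil _))))))))))))))))))))))))))))))))))))))))))))))))))))))))))))))))))))))))))))))))))))))))))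
theorem F_3466 (IH : D.IHyp) : ed Gen.c V_450 = V_628 :=
  flipE D.rels D.S (hinv Gen.c) (F_3465 IH)
theorem F_3475 (IH : D.IHyp) : ed Gen.b V_628 = V_628 :=
  gap_rel RW_19 (path_edge (F_3466 IH) (path_edge (F_2499 IH) (path_edge (F_915 IH) (path_edge (F_2500 IH) (path_edge (F_3465 IH) (path_nil _))))))
theorem F_3487 (IH : D.IHyp) : ed Gen.g V_366 = V_629 :=
  rfl
theorem F_3488 (IH : D.IHyp) : ed Gen.g V_629 = V_366 :=
  flipE D.rels D.S (hinv Gen.g) (F_3487 IH)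
theorem F_3489 (IH : D.IHyp) : ed Gen.b V_369 = V_629 :=
  gap_rel RW_32 (path_edge (F_658 IH) (path_edge (F_430 IH) (path_edge (F_3488 IH) (path_nil _))))
theorem F_3491 (IH : D.IHyp) : ed Gen.c V_401 = V_629 :=
  gap_rel RW_16 (path_edge (F_1932 IH) (path_edge (F_1981 IH) (path_edge (F_3488 IH) (path_nil _))))
theorem F_3492 (IH : D.IHyp) : ed Gen.c V_629 = V_401 :=
  flipE D.rels D.S (hinv Gen.c) (F_3491 IH)
theorem F_3498 (IH : D.IHyp) : ed Gen.c V_378 = V_630 :=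
  rfl
theorem F_3501 (IH : D.IHyp) : ed Gen.b V_630 = V_631 :=
  rfl
theorem F_3505 (IH : D.IHyp) : ed Gen.h V_631 = V_632 :=
  rfl
theorem F_3508 (IH : D.IHyp) : ed Gen.g V_632 = V_633 :=
  rfl
theorem F_3511 (IH : D.IHyp) : ed Gen.f V_633 = V_634 :=
  rfl
theorem F_3514 (IH : D.IHyp) : ed Gen.e V_634 = V_635 :=
  rfl
theorem F_3517 (IH : D.IHyp) : ed Gen.d V_635 = V_636 :=
  rfl
theorem F_3519 (IH : D.IHyp) : ed Gen.c V_636 = V_637 :=
  rfl
theorem F_3522 (IH : D.IHyp) : ed Gen.b V_637 = V_638 :=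
  rfl
theorem F_3525 (IH : D.IHyp) : ed Gen.h V_638 = V_639 :=
  rfl
theorem F_3527 (IH : D.IHyp) : ed Gen.g V_639 = V_640 :=
  rfl
theorem F_3529 (IH : D.IHyp) : ed Gen.f V_640 = V_641 :=
  rfl
theorem F_3531 (IH : D.IHyp) : ed Gen.e V_641 = V_642 :=
  rfl
theorem F_3533 (IH : D.IHyp) : ed Gen.d V_642 = V_643 :=
  rfl
theorem F_3535 (IH : D.IHyp) : ed Gen.c V_643 = V_644 :=
  rfl
theorem F_3537 (IH : D.IHyp) : ed Gen.b V_644 = V_645 :=
  rfl
theorem F_3538 (IH : D.IHyp) : ed Gen.b V_645 = V_644 :=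
  flipE D.rels D.S (hinv Gen.b) (F_3537 IH)
theorem F_3539 (IH : D.IHyp) : ed Gen.h V_645 = V_646 :=
  rfl
theorem F_3540 (IH : D.IHyp) : ed Gen.h V_646 = V_645 :=
  flipE D.rels D.S (hinv Gen.h) (F_3539 IH)
theorem F_3541 (IH : D.IHyp) : ed Gen.g V_646 = V_647 :=
  rfl
theorem F_3542 (IH : D.IHyp) : ed Gen.g V_647 = V_646 :=
  flipE D.rels D.S (hinv Gen.g) (F_3541 IH)
theorem F_3543 (IH : D.IHyp) : ed Gen.f V_647 = V_648 :=
  rfl
theorem F_3544 (IH : D.IHyp) : ed Gen.f V_648 = V_647 :=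
  flipE D.rels D.S (hinv Gen.f) (F_3543 IH)
theorem F_3545 (IH : D.IHyp) : ed Gen.e V_648 = V_649 :=
  rfl
theorem F_3546 (IH : D.IHyp) : ed Gen.e V_649 = V_648 :=
  flipE D.rels D.S (hinv Gen.e) (F_3545 IH)
theorem F_3547 (IH : D.IHyp) : ed Gen.d V_649 = V_650 :=
  rfl
theorem F_3548 (IH : D.IHyp) : ed Gen.d V_650 = V_649 :=
  flipE D.rels D.S (hinv Gen.d) (F_3547 IH)
theorem F_3549 (IH : D.IHyp) : ed Gen.c V_650 = V_651 :=
  rfl
theorem F_3550 (IH : D.IHyp) : ed Gen.c V_651 = V_650 :=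
  flipE D.rels D.S (hinv Gen.c) (F_3549 IH)
theorem F_3551 (IH : D.IHyp) : ed Gen.b V_651 = V_652 :=
  rfl
theorem F_3552 (IH : D.IHyp) : ed Gen.b V_652 = V_651 :=
  flipE D.rels D.S (hinv Gen.b) (F_3551 IH)
theorem F_3553 (IH : D.IHyp) : ed Gen.h V_652 = V_653 :=
  rfl
theorem F_3554 (IH : D.IHyp) : ed Gen.h V_653 = V_652 :=
  flipE D.rels D.S (hinv Gen.h) (F_3553 IH)
theorem F_3555 (IH : D.IHyp) : ed Gen.g V_653 = V_654 :=
  rfl
theorem F_3556 (IH : D.IHyp) : ed Gen.g V_654 = V_653 :=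
  flipE D.rels D.S (hinv Gen.g) (F_3555 IH)
theorem F_3557 (IH : D.IHyp) : ed Gen.f V_654 = V_655 :=
  rfl
theorem F_3558 (IH : D.IHyp) : ed Gen.f V_655 = V_654 :=
  flipE D.rels D.S (hinv Gen.f) (F_3557 IH)
theorem F_3559 (IH : D.IHyp) : ed Gen.e V_655 = V_656 :=
  rfl
theorem F_3560 (IH : D.IHyp) : ed Gen.e V_656 = V_655 :=
  flipE D.rels D.S (hinv Gen.e) (F_3559 IH)
theorem F_3561 (IH : D.IHyp) : ed Gen.d V_656 = V_657 :=
  rfl
theorem F_3562 (IH : D.IHyp) : ed Gen.d V_657 = V_656 :=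
  flipE D.rels D.S (hinv Gen.d) (F_3561 IH)
theorem F_3563 (IH : D.IHyp) : ed Gen.c V_657 = V_372 :=
  gap_rel RW_54 (path_edge (F_3561 IH) (path_edge (F_3559 IH) (path_edge (F_3557 IH) (path_edge (F_3555 IH) (path_edge (F_3553 IH) (path_edge (F_3551 IH) (path_edge (F_3549 IH) (path_edge (F_3547 IH) (path_edge (F_3545 IH) (path_edge (F_3543 IH) (path_edge (F_3541 IH) (path_edge (F_3539 IH) (path_edge (F_3537 IH) (path_edge (F_3535 IH) (path_edge (F_3533 IH) (path_edge (F_3531 IH) (path_edge (F_3529 IH) (path_edge (F_3527 IH) (path_edge (F_3525 IH) (path_edge (F_3522 IH) (path_edge (F_3519 IH) (path_edge (F_3517 IH) (path_edge (F_3514 IH) (path_edge (F_3511 IH) (path_edge (F_3508 IH) (path_edge (F_3505 IH) (path_edge (F_3501 IH) (path_edge (F_3498 IH) (path_edge (F_1751 IH) (path_edge (F_695 IH) (path_edge (F_694 IH) (path_edge (F_693 IH) (path_edge (F_692 IH) (path_edge (F_356 IH) (path_edge (F_355 IH)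 (path_edge (F_354 IH) (path_edge (F_691 IH) (path_edge (F_690 IH) (path_edge (F_689 IH) (path_edge (F_688 IH) (path_edge (F_687 IH) (path_edge (F_686 IH) (path_edge (F_685 IH) (path_edge (F_684 IH) (path_edge (F_683 IH) (path_edge (F_682 IH) (path_edge (F_681 IH) (path_edge (F_680 IH) (path_edge (F_679 IH) (path_edge (F_413 IH) (path_edge (F_504 IH) (path_edge (F_503 IH) (path_edge (F_678 IH) (path_edge (F_677 IH) (path_edge (F_675 IH) (path_edge (F_667 IH) (path_edge (F_193 IH) (path_edge (F_427 IH) (path_edge (F_2459 IH) (path_edge (F_2460 IH) (path_edge (F_2461 IH) (path_edge (F_2456 IH) (path_nil _)))))))))))))))))))))))))))))))))))))))))))))))))))))))))))))))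
theorem F_3564 (IH : D.IHyp) : ed Gen.c V_372 = V_657 :=
  flipE D.rels D.S (hinv Gen.c) (F_3563 IH)
theorem F_3565 (IH : D.IHyp) : ed Gen.e V_657 = V_657 :=
  gap_rel RW_43 (path_edge (F_3564 IH) (path_edge (F_921 IH) (path_edge (F_3563 IH) (path_nil _))))
theorem F_3566 (IH : D.IHyp) : ed Gen.f V_368 = V_657 :=
  gap_rel RW_0 (path_edge (F_440 IH) (path_edge (F_918 IH) (path_edge (F_3563 IH) (path_nil _))))
theorem F_3571 (IH : D.IHyp) : ed Gen.f V_656 = V_368 :=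
  gap_rel RW_27 (path_edge (F_3562 IH) (path_edge (F_3566 IH) (path_edge (F_449 IH) (path_nil _))))
theorem F_3572 (IH : D.IHyp) : ed Gen.f V_368 = V_656 :=
  flipE D.rels D.S (hinv Gen.f) (F_3571 IH)
theorem F_3573 (IH : D.IHyp) : V_657 = V_656 :=
  edge_fun (F_3566 IH) (F_3572 IH)
theorem F_3574 (IH : D.IHyp) : ed Gen.c V_656 = V_372 :=
  edge_congr (F_3563 IH) (F_3573 IH)
theorem F_3576 (IH : D.IHyp) : ed Gen.d V_656 = V_656 :=
  edge_congr (F_3562 IH) (F_3573 IH)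
theorem F_3577 (IH : D.IHyp) : ed Gen.e V_657 = V_656 :=
  (F_3565 IH).trans (F_3573 IH)
theorem F_3578 (IH : D.IHyp) : ed Gen.e V_656 = V_656 :=
  edge_congr (F_3577 IH) (F_3573 IH)
theorem F_3579 (IH : D.IHyp) : V_655 = V_656 :=
  edge_fun (F_3560 IH) (F_3578 IH)
theorem F_3590 (IH : D.IHyp) : V_656 = V_655 :=
  (F_3579 IH).symm
theorem F_3591 (IH : D.IHyp) : ed Gen.c V_655 = V_372 :=
  edge_congr (F_3574 IH) (F_3590 IH)
theorem F_3593 (IH : D.IHyp) : ed Gen.d V_656 = V_655 :=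
  (F_3576 IH).trans (F_3590 IH)
theorem F_3594 (IH : D.IHyp) : ed Gen.d V_655 = V_655 :=
  edge_congr (F_3593 IH) (F_3590 IH)
theorem F_3596 (IH : D.IHyp) : ed Gen.f V_655 = V_368 :=
  edge_congr (F_3571 IH) (F_3590 IH)
theorem F_3597 (IH : D.IHyp) : V_654 = V_368 :=
  edge_fun (F_3558 IH) (F_3596 IH)
theorem F_3607 (IH : D.IHyp) : ed Gen.g V_368 = V_653 :=
  edge_congr (F_3556 IH) (F_3597 IH)
theorem F_3608 (IH : D.IHyp) : (D.P 69) = V_653 :=
  edge_fun (F_444 IH) (F_3607 IH)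
theorem F_3610 (IH : D.IHyp) : V_653 = (D.P 69) :=
  (F_3608 IH).symm
theorem F_3612 (IH : D.IHyp) : ed Gen.h (D.P 69) = V_652 :=
  edge_congr (F_3554 IH) (F_3610 IH)
theorem F_3613 (IH : D.IHyp) : (D.P 69) = V_652 :=
  edge_fun (F_536 IH) (F_3612 IH)
theorem F_3615 (IH : D.IHyp) : V_652 = (D.P 69) :=
  (F_3613 IH).symm
theorem F_3616 (IH : D.IHyp) : ed Gen.b (D.P 69) = V_651 :=
  edge_congr (F_3552 IH) (F_3615 IH)
theorem F_3617 (IH : D.IHyp) : (D.P 84) = V_651 :=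
  edge_fun (F_534 IH) (F_3616 IH)
theorem F_3620 (IH : D.IHyp) : V_651 = (D.P 84) :=
  (F_3617 IH).symm
theorem F_3622 (IH : D.IHyp) : ed Gen.c (D.P 84) = V_650 :=
  edge_congr (F_3550 IH) (F_3620 IH)
theorem F_3623 (IH : D.IHyp) : (D.P 103) = V_650 :=
  edge_fun (F_43 IH) (F_3622 IH)
theorem F_3625 (IH : D.IHyp) : V_650 = (D.P 103) :=
  (F_3623 IH).symm
theorem F_3627 (IH : D.IHyp) : ed Gen.d (D.P 103) = V_649 :=
  edge_congr (F_3548 IH) (F_3625 IH)
theorem F_3628 (IH : D.IHyp) : (D.P 122) = V_649 :=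
  edge_fun (F_53 IH) (F_3627 IH)
theorem F_3630 (IH : D.IHyp) : V_649 = (D.P 122) :=
  (F_3628 IH).symm
theorem F_3632 (IH : D.IHyp) : ed Gen.e (D.P 122) = V_648 :=
  edge_congr (F_3546 IH) (F_3630 IH)
theorem F_3633 (IH : D.IHyp) : (D.P 142) = V_648 :=
  edge_fun (F_560 IH) (F_3632 IH)
theorem F_3635 (IH : D.IHyp) : V_648 = (D.P 142) :=
  (F_3633 IH).symm
theorem F_3637 (IH : D.IHyp) : ed Gen.f (D.P 142) = V_647 :=
  edge_congr (F_3544 IH) (F_3635 IH)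
theorem F_3638 (IH : D.IHyp) : (D.P 171) = V_647 :=
  edge_fun (F_561 IH) (F_3637 IH)
theorem F_3640 (IH : D.IHyp) : V_647 = (D.P 171) :=
  (F_3638 IH).symm
theorem F_3642 (IH : D.IHyp) : ed Gen.g (D.P 171) = V_646 :=
  edge_congr (F_3542 IH) (F_3640 IH)
theorem F_3643 (IH : D.IHyp) : (D.P 203) = V_646 :=
  edge_fun (F_562 IH) (F_3642 IH)
theorem F_3645 (IH : D.IHyp) : V_646 = (D.P 203) :=
  (F_3643 IH).symm
theorem F_3647 (IH : D.IHyp) : ed Gen.h (D.P 203) = V_645 :=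
  edge_congr (F_3540 IH) (F_3645 IH)
theorem F_3648 (IH : D.IHyp) : (D.P 233) = V_645 :=
  edge_fun (F_563 IH) (F_3647 IH)
theorem F_3650 (IH : D.IHyp) : V_645 = (D.P 233) :=
  (F_3648 IH).symm
theorem F_3651 (IH : D.IHyp) : ed Gen.b (D.P 233) = V_644 :=
  edge_congr (F_3538 IH) (F_3650 IH)
theorem F_3652 (IH : D.IHyp) : ed Gen.b V_644 = (D.P 233) :=
  flipE D.rels D.S (hinv Gen.b) (F_3651 IH)
theorem F_3659 (IH : D.IHyp) : ed Gen.h (D.P 308) = (D.P 279) :=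
  D.real_edge' IH Gen.h 308 279 (by decide +kernel)
theorem F_3690 (IH : D.IHyp) : ed Gen.h V_628 = V_658 :=
  rfl
theorem F_3691 (IH : D.IHyp) : ed Gen.h V_658 = V_628 :=
  flipE D.rels D.S (hinv Gen.h) (F_3690 IH)
theorem F_3692 (IH : D.IHyp) : ed Gen.b V_658 = V_658 :=
  gap_rel RW_34 (path_edge (F_3690 IH) (path_edge (F_3475 IH) (path_edge (F_3691 IH) (path_nil _))))
theorem F_3693 (IH : D.IHyp) : ed Gen.c V_451 = V_658 :=
  gap_rel RW_51 (path_edge (F_2505 IH) (path_edge (F_3465 IH) (path_edge (F_3691 IH) (path_nil _))))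
theorem F_3694 (IH : D.IHyp) : ed Gen.c V_658 = V_451 :=
  flipE D.rels D.S (hinv Gen.c) (F_3693 IH)
theorem F_3696 (IH : D.IHyp) : ed Gen.g V_456 = V_658 :=
  gap_rel RW_1 (path_edge (F_3211 IH) (path_edge (F_2509 IH) (path_edge (F_3694 IH) (path_nil _))))
theorem F_3697 (IH : D.IHyp) : ed Gen.g V_658 = V_456 :=
  flipE D.rels D.S (hinv Gen.g) (F_3696 IH)
theorem F_3698 (IH : D.IHyp) : ed Gen.g V_457 = V_658 :=
  gap_rel RW_6 (path_edge (F_2527 IH) (path_edge (F_3697 IH) (path_edge (F_3692 IH) (path_nil _))))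
theorem F_3699 (IH : D.IHyp) : ed Gen.g V_658 = V_457 :=
  flipE D.rels D.S (hinv Gen.g) (F_3698 IH)
theorem F_3700 (IH : D.IHyp) : V_456 = V_457 :=
  edge_fun (F_3697 IH) (F_3699 IH)
theorem F_3701 (IH : D.IHyp) : V_457 = V_456 :=
  (F_3700 IH).symm
theorem F_3702 (IH : D.IHyp) : ed Gen.b V_456 = V_456 :=
  edge_congr (F_2528 IH) (F_3701 IH)
theorem F_3708 (IH : D.IHyp) : ed Gen.h V_456 = V_458 :=
  edge_congr (F_2531 IH) (F_3701 IH)
theorem F_3710 (IH : D.IHyp) : ed Gen.h V_459 = V_658 :=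
  gap_rel RW_18 (path_edge (F_2535 IH) (path_edge (F_3708 IH) (path_edge (F_3697 IH) (path_nil _))))
theorem F_3711 (IH : D.IHyp) : ed Gen.h V_658 = V_459 :=
  flipE D.rels D.S (hinv Gen.h) (F_3710 IH)
theorem F_3712 (IH : D.IHyp) : V_628 = V_459 :=
  edge_fun (F_3691 IH) (F_3711 IH)
theorem F_3713 (IH : D.IHyp) : ed Gen.b V_628 = V_459 :=
  (F_3475 IH).trans (F_3712 IH)
theorem F_3714 (IH : D.IHyp) : ed Gen.b V_459 = V_459 :=
  edge_congr (F_3713 IH) (F_3712 IH)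
theorem F_3715 (IH : D.IHyp) : ed Gen.c V_459 = V_450 :=
  edge_congr (F_3465 IH) (F_3712 IH)
theorem F_3716 (IH : D.IHyp) : ed Gen.c V_450 = V_459 :=
  flipE D.rels D.S (hinv Gen.c) (F_3715 IH)
theorem F_3727 (IH : D.IHyp) : ed Gen.b V_460 = V_460 :=
  gap_rel RW_31 (path_edge (F_2538 IH) (path_edge (F_3714 IH) (path_edge (F_2539 IH) (path_nil _))))
theorem F_3731 (IH : D.IHyp) : ed Gen.b V_461 = V_461 :=
  gap_rel RW_30 (path_edge (F_2541 IH) (path_edge (F_3727 IH) (path_edge (F_2542 IH) (path_nil _))))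
theorem F_3749 (IH : D.IHyp) : ed Gen.b V_462 = V_462 :=
  gap_rel RW_26 (path_edge (F_2545 IH) (path_edge (F_3731 IH) (path_edge (F_2546 IH) (path_nil _))))
theorem F_3764 (IH : D.IHyp) : ed Gen.c V_464 = V_464 :=
  gap_rel RW_55 (path_edge (F_2553 IH) (path_edge (F_2549 IH) (path_edge (F_3749 IH) (path_edge (F_2550 IH) (path_edge (F_2554 IH) (path_nil _))))))
theorem F_3770 (IH : D.IHyp) : ed Gen.c V_465 = V_465 :=
  gap_rel RW_51 (path_edge (F_2557 IH) (path_edge (F_3764 IH) (path_edge (F_2558 IH) (path_nil _))))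
theorem F_3773 (IH : D.IHyp) : ed Gen.c V_466 = V_466 :=
  gap_rel RW_13 (path_edge (F_2561 IH) (path_edge (F_3770 IH) (path_edge (F_2562 IH) (path_nil _))))
theorem F_3776 (IH : D.IHyp) : ed Gen.d V_468 = V_468 :=
  gap_rel RW_56 (path_edge (F_2567 IH) (path_edge (F_2564 IH) (path_edge (F_3773 IH) (path_edge (F_2565 IH) (path_edge (F_2568 IH) (path_nil _))))))
theorem F_3779 (IH : D.IHyp) : ed Gen.d V_469 = V_469 :=
  gap_rel RW_9 (path_edge (F_2570 IH) (path_edge (F_3776 IH) (path_edge (F_2571 IH) (path_nil _))))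
theorem F_3782 (IH : D.IHyp) : ed Gen.d V_410 = V_470 :=
  gap_rel RW_39 (path_edge (F_2061 IH) (path_edge (F_2668 IH) (path_edge (F_2573 IH) (path_edge (F_3779 IH) (path_edge (F_2574 IH) (path_nil _))))))
theorem F_3783 (IH : D.IHyp) : ed Gen.d V_470 = V_410 :=
  flipE D.rels D.S (hinv Gen.d) (F_3782 IH)
theorem F_3784 (IH : D.IHyp) : V_411 = V_410 :=
  edge_fun (F_2668 IH) (F_3783 IH)
theorem F_3793 (IH : D.IHyp) : ed Gen.h V_410 = V_410 :=
  edge_congr (F_2061 IH) (F_3784 IH)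
theorem F_3796 (IH : D.IHyp) : ed Gen.h V_409 = V_409 :=
  gap_rel RW_7 (path_edge (F_2057 IH) (path_edge (F_3793 IH) (path_edge (F_2056 IH) (path_nil _))))
theorem F_3801 (IH : D.IHyp) : ed Gen.h V_408 = V_408 :=
  gap_rel RW_2 (path_edge (F_2053 IH) (path_edge (F_3796 IH) (path_edge (F_2052 IH) (path_nil _))))
theorem F_3804 (IH : D.IHyp) : ed Gen.d V_456 = V_659 :=
  rfl
theorem F_3805 (IH : D.IHyp) : ed Gen.d V_659 = V_456 :=
  flipE D.rels D.S (hinv Gen.d) (F_3804 IH)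
theorem F_3806 (IH : D.IHyp) : ed Gen.b V_659 = V_659 :=
  gap_rel RW_26 (path_edge (F_3804 IH) (path_edge (F_3702 IH) (path_edge (F_3805 IH) (path_nil _))))
theorem F_3807 (IH : D.IHyp) : ed Gen.f V_659 = V_659 :=
  gap_rel RW_27 (path_edge (F_3804 IH) (path_edge (F_2526 IH) (path_edge (F_3805 IH) (path_nil _))))
theorem F_3808 (IH : D.IHyp) : ed Gen.c V_659 = V_659 :=
  gap_rel RW_20 (path_edge (F_3804 IH) (path_edge (F_3211 IH) (path_edge (F_2511 IH) (path_edge (F_3212 IH) (path_edge (F_3805 IH) (path_nil _))))))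
theorem F_3809 (IH : D.IHyp) : ed Gen.h V_659 = V_660 :=
  rfl
theorem F_3810 (IH : D.IHyp) : ed Gen.h V_660 = V_659 :=
  flipE D.rels D.S (hinv Gen.h) (F_3809 IH)
theorem F_3813 (IH : D.IHyp) : ed Gen.f V_660 = V_660 :=
  gap_rel RW_35 (path_edge (F_3809 IH) (path_edge (F_3807 IH) (path_edge (F_3810 IH) (path_nil _))))
theorem F_3814 (IH : D.IHyp) : ed Gen.g V_660 = V_661 :=
  rfl
theorem F_3815 (IH : D.IHyp) : ed Gen.g V_661 = V_660 :=
  flipE D.rels D.S (hinv Gen.g) (F_3814 IH)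
theorem F_3818 (IH : D.IHyp) : ed Gen.f V_661 = V_662 :=
  rfl
theorem F_3819 (IH : D.IHyp) : ed Gen.f V_662 = V_661 :=
  flipE D.rels D.S (hinv Gen.f) (F_3818 IH)
theorem F_3822 (IH : D.IHyp) : ed Gen.g V_662 = V_662 :=
  gap_rel RW_25 (path_edge (F_3818 IH) (path_edge (F_3814 IH) (path_edge (F_3813 IH) (path_edge (F_3815 IH) (path_edge (F_3819 IH) (path_nil _))))))
theorem F_3823 (IH : D.IHyp) : ed Gen.e V_662 = V_663 :=
  rfl
theorem F_3824 (IH : D.IHyp) : ed Gen.e V_663 = V_662 :=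
  flipE D.rels D.S (hinv Gen.e) (F_3823 IH)
theorem F_3827 (IH : D.IHyp) : ed Gen.g V_663 = V_663 :=
  gap_rel RW_14 (path_edge (F_3823 IH) (path_edge (F_3822 IH) (path_edge (F_3824 IH) (path_nil _))))
theorem F_3828 (IH : D.IHyp) : ed Gen.d V_663 = V_664 :=
  rfl
theorem F_3829 (IH : D.IHyp) : ed Gen.d V_664 = V_663 :=
  flipE D.rels D.S (hinv Gen.d) (F_3828 IH)
theorem F_3831 (IH : D.IHyp) : ed Gen.g V_664 = V_664 :=
  gap_rel RW_28 (path_edge (F_3828 IH) (path_edge (F_3827 IH) (path_edge (F_3829 IH) (path_nil _))))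
theorem F_3832 (IH : D.IHyp) : ed Gen.c V_664 = V_665 :=
  rfl
theorem F_3833 (IH : D.IHyp) : ed Gen.c V_665 = V_664 :=
  flipE D.rels D.S (hinv Gen.c) (F_3832 IH)
theorem F_3834 (IH : D.IHyp) : ed Gen.g V_665 = V_665 :=
  gap_rel RW_1 (path_edge (F_3832 IH) (path_edge (F_3831 IH) (path_edge (F_3833 IH) (path_nil _))))
theorem F_3836 (IH : D.IHyp) : ed Gen.b V_665 = V_666 :=
  rfl
theorem F_3837 (IH : D.IHyp) : ed Gen.b V_666 = V_665 :=
  flipE D.rels D.S (hinv Gen.b) (F_3836 IH)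
theorem F_3839 (IH : D.IHyp) : ed Gen.g V_666 = V_666 :=
  gap_rel RW_6 (path_edge (F_3836 IH) (path_edge (F_3834 IH) (path_edge (F_3837 IH) (path_nil _))))
theorem F_3841 (IH : D.IHyp) : ed Gen.h V_666 = V_667 :=
  rfl
theorem F_3842 (IH : D.IHyp) : ed Gen.h V_667 = V_666 :=
  flipE D.rels D.S (hinv Gen.h) (F_3841 IH)
theorem F_3844 (IH : D.IHyp) : ed Gen.g V_667 = V_667 :=
  gap_rel RW_41 (path_edge (F_3841 IH) (path_edge (F_3839 IH) (path_edge (F_3842 IH) (path_nil _))))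
theorem F_3845 (IH : D.IHyp) : ed Gen.f V_667 = V_668 :=
  rfl
theorem F_3848 (IH : D.IHyp) : ed Gen.e V_668 = V_669 :=
  rfl
theorem F_3851 (IH : D.IHyp) : ed Gen.d V_669 = V_670 :=
  rfl
theorem F_3853 (IH : D.IHyp) : ed Gen.c V_670 = V_671 :=
  rfl
theorem F_3856 (IH : D.IHyp) : ed Gen.b V_671 = V_672 :=
  rfl
theorem F_3859 (IH : D.IHyp) : ed Gen.h V_672 = V_673 :=
  rfl
theorem F_3861 (IH : D.IHyp) : ed Gen.g V_673 = V_674 :=
  rfl
theorem F_3863 (IH : D.IHyp) : ed Gen.f V_674 = V_675 :=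
  rfl
theorem F_3865 (IH : D.IHyp) : ed Gen.e V_675 = V_676 :=
  rfl
theorem F_3867 (IH : D.IHyp) : ed Gen.d V_676 = V_677 :=
  rfl
theorem F_3869 (IH : D.IHyp) : ed Gen.c V_677 = V_678 :=
  rfl
theorem F_3871 (IH : D.IHyp) : ed Gen.b V_678 = V_679 :=
  rfl
theorem F_3873 (IH : D.IHyp) : ed Gen.h V_679 = V_680 :=
  rfl
theorem F_3875 (IH : D.IHyp) : ed Gen.g V_680 = V_681 :=
  rfl
theorem F_3877 (IH : D.IHyp) : ed Gen.f V_681 = V_682 :=
  rfl
theorem F_3879 (IH : D.IHyp) : ed Gen.e V_682 = V_683 :=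
  rfl
theorem F_3881 (IH : D.IHyp) : ed Gen.d V_683 = (D.P 201) :=
  gap_rel RW_57 (path_edge (F_3879 IH) (path_edge (F_3877 IH) (path_edge (F_3875 IH) (path_edge (F_3873 IH) (path_edge (F_3871 IH) (path_edge (F_3869 IH) (path_edge (F_3867 IH) (path_edge (F_3865 IH) (path_edge (F_3863 IH) (path_edge (F_3861 IH) (path_edge (F_3859 IH) (path_edge (F_3856 IH) (path_edge (F_3853 IH) (path_edge (F_3851 IH) (path_edge (F_3848 IH) (path_edge (F_3845 IH) (path_edge (F_3844 IH) (path_edge (F_3841 IH) (path_edge (F_3836 IH) (path_edge (F_3832 IH) (path_edge (F_3828 IH) (path_edge (F_3823 IH) (path_edge (F_3818 IH) (path_edge (F_3814 IH) (path_edge (F_3809 IH) (path_edge (F_3806 IH) (path_edge (F_3808 IH) (path_edge (F_3804 IH) (path_edge (F_2525 IH) (path_edge (F_2526 IH) (path_edge (F_3697 IH) (path_edge (F_3710 IH) (path_edge (F_3714 IH) (path_edge (F_3716 IH) (path_edge (F_2502 IH) (path_edge (F_426 IH) (path_edge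 (F_16 IH) (path_edge (F_18 IH) (path_edge (F_196 IH) (path_edge (F_17 IH) (path_edge (F_7 IH) (path_edge (F_153 IH) (path_edge (F_152 IH) (path_edge (F_151 IH) (path_edge (F_202 IH) (path_edge (F_700 IH) (path_edge (F_726 IH) (path_edge (F_812 IH) (path_edge (F_810 IH) (path_edge (F_207 IH) (path_edge (F_809 IH) (path_edge (F_976 IH) (path_edge (F_1103 IH) (path_edge (F_211 IH) (path_edge (F_212 IH) (path_edge (F_497 IH) (path_edge (F_1472 IH) (path_edge (F_1471 IH) (path_edge (F_249 IH) (path_edge (F_1444 IH) (path_edge (F_218 IH) (path_edge (F_1357 IH) (path_nil _)))))))))))))))))))))))))))))))))))))))))))))))))))))))))))))))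
theorem F_3883 (IH : D.IHyp) : ed Gen.f (D.P 203) = V_683 :=
  gap_rel RW_27 (path_edge (F_984 IH) (path_edge (F_1208 IH) (path_edge (F_3881 IH) (path_nil _))))
theorem F_3884 (IH : D.IHyp) : ed Gen.f V_683 = (D.P 203) :=
  flipE D.rels D.S (hinv Gen.f) (F_3883 IH)
theorem F_3887 (IH : D.IHyp) : ed Gen.c V_683 = V_683 :=
  gap_rel RW_50 (path_edge (F_3883 IH) (path_edge (F_2850 IH) (path_edge (F_3884 IH) (path_nil _))))
theorem F_3923 (IH : D.IHyp) : ed Gen.d (D.P 168) = V_684 :=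
  rfl
theorem F_3924 (IH : D.IHyp) : ed Gen.d V_684 = (D.P 168) :=
  flipE D.rels D.S (hinv Gen.d) (F_3923 IH)
theorem F_3925 (IH : D.IHyp) : ed Gen.g V_684 = V_683 :=
  gap_rel RW_28 (path_edge (F_3923 IH) (path_edge (F_1212 IH) (path_edge (F_3881 IH) (path_nil _))))
theorem F_3926 (IH : D.IHyp) : ed Gen.g V_683 = V_684 :=
  flipE D.rels D.S (hinv Gen.g) (F_3925 IH)
theorem F_3931 (IH : D.IHyp) : ed Gen.h V_684 = V_685 :=
  rfl
theorem F_3936 (IH : D.IHyp) : ed Gen.i V_685 = V_686 :=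
  rfl
theorem F_3937 (IH : D.IHyp) : ed Gen.i V_686 = V_685 :=
  flipE D.rels D.S (hinv Gen.i) (F_3936 IH)
theorem F_3940 (IH : D.IHyp) : ed Gen.d V_686 = V_687 :=
  rfl
theorem F_3941 (IH : D.IHyp) : ed Gen.d V_687 = V_686 :=
  flipE D.rels D.S (hinv Gen.d) (F_3940 IH)
theorem F_3942 (IH : D.IHyp) : ed Gen.c V_687 = V_688 :=
  rfl
theorem F_3945 (IH : D.IHyp) : ed Gen.b V_688 = V_689 :=
  rfl
theorem F_3948 (IH : D.IHyp) : ed Gen.e V_689 = V_690 :=
  rfl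
theorem F_3950 (IH : D.IHyp) : ed Gen.f V_690 = V_691 :=
  rfl
theorem F_3952 (IH : D.IHyp) : ed Gen.d V_691 = V_692 :=
  rfl
theorem F_3954 (IH : D.IHyp) : ed Gen.h V_692 = V_693 :=
  rfl
theorem F_3956 (IH : D.IHyp) : ed Gen.i V_693 = V_694 :=
  rfl
theorem F_3958 (IH : D.IHyp) : ed Gen.d V_694 = V_695 :=
  rfl
theorem F_3959 (IH : D.IHyp) : ed Gen.d V_695 = V_694 :=
  flipE D.rels D.S (hinv Gen.d) (F_3958 IH)
theorem F_4194 (IH : D.IHyp) : ed Gen.g V_450 = V_753 :=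
  rfl
theorem F_4195 (IH : D.IHyp) : ed Gen.g V_753 = V_450 :=
  flipE D.rels D.S (hinv Gen.g) (F_4194 IH)
theorem F_4196 (IH : D.IHyp) : ed Gen.c V_458 = V_753 :=
  gap_rel RW_16 (path_edge (F_2536 IH) (path_edge (F_3716 IH) (path_edge (F_4195 IH) (path_nil _))))
theorem F_4198 (IH : D.IHyp) : ed Gen.d V_629 = V_753 :=
  gap_rel RW_4 (path_edge (F_3487 IH) (path_edge (F_2501 IH) (path_edge (F_4195 IH) (path_nil _))))
theorem F_4199 (IH : D.IHyp) : ed Gen.d V_753 = V_629 :=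
  flipE D.rels D.S (hinv Gen.d) (F_4198 IH)
theorem F_4205 (IH : D.IHyp) : ed Gen.b V_368 = V_754 :=
  rfl
theorem F_4206 (IH : D.IHyp) : ed Gen.b V_754 = V_368 :=
  flipE D.rels D.S (hinv Gen.b) (F_4205 IH)
theorem F_4207 (IH : D.IHyp) : ed Gen.d V_754 = V_754 :=
  gap_rel RW_9 (path_edge (F_4205 IH) (path_edge (F_449 IH) (path_edge (F_4206 IH) (path_nil _))))
theorem F_4208 (IH : D.IHyp) : ed Gen.e V_754 = (D.P 82) :=
  gap_rel RW_12 (path_edge (F_4205 IH) (path_edge (F_436 IH) (path_edge (F_439 IH) (path_nil _))))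
theorem F_4209 (IH : D.IHyp) : ed Gen.e (D.P 82) = V_754 :=
  flipE D.rels D.S (hinv Gen.e) (F_4208 IH)
theorem F_4215 (IH : D.IHyp) : ed Gen.c V_754 = V_755 :=
  rfl
theorem F_4216 (IH : D.IHyp) : ed Gen.c V_755 = V_754 :=
  flipE D.rels D.S (hinv Gen.c) (F_4215 IH)
theorem F_4223 (IH : D.IHyp) : ed Gen.b V_400 = V_755 :=
  gap_rel RW_19 (path_edge (F_1981 IH) (path_edge (F_431 IH) (path_edge (F_441 IH) (path_edge (F_4206 IH) (path_edge (F_4216 IH) (path_nil _))))))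
theorem F_4224 (IH : D.IHyp) : ed Gen.b V_755 = V_400 :=
  flipE D.rels D.S (hinv Gen.b) (F_4223 IH)
theorem F_4225 (IH : D.IHyp) : ed Gen.d V_400 = V_756 :=
  rfl
theorem F_4226 (IH : D.IHyp) : ed Gen.d V_756 = V_400 :=
  flipE D.rels D.S (hinv Gen.d) (F_4225 IH)
theorem F_4227 (IH : D.IHyp) : ed Gen.f V_756 = V_397 :=
  gap_rel RW_27 (path_edge (F_4225 IH) (path_edge (F_1983 IH) (path_edge (F_1926 IH) (path_nil _))))
theorem F_4228 (IH : D.IHyp) : ed Gen.f V_397 = V_756 :=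
  flipE D.rels D.S (hinv Gen.f) (F_4227 IH)
theorem F_4229 (IH : D.IHyp) : ed Gen.g V_756 = V_403 :=
  gap_rel RW_28 (path_edge (F_4225 IH) (path_edge (F_1933 IH) (path_edge (F_2007 IH) (path_nil _))))
theorem F_4231 (IH : D.IHyp) : ed Gen.i V_756 = V_756 :=
  gap_rel RW_29 (path_edge (F_4225 IH) (path_edge (F_1956 IH) (path_edge (F_4226 IH) (path_nil _))))
theorem F_4234 (IH : D.IHyp) : ed Gen.h V_405 = V_756 :=
  gap_rel RW_18 (path_edge (F_2038 IH) (path_edge (F_2018 IH) (path_edge (F_4229 IH) (path_nil _))))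
theorem F_4235 (IH : D.IHyp) : ed Gen.h V_756 = V_405 :=
  flipE D.rels D.S (hinv Gen.h) (F_4234 IH)
theorem F_4238 (IH : D.IHyp) : ed Gen.h V_406 = V_397 :=
  gap_rel RW_22 (path_edge (F_2041 IH) (path_edge (F_4235 IH) (path_edge (F_4228 IH) (path_nil _))))
theorem F_4239 (IH : D.IHyp) : ed Gen.h V_397 = V_406 :=
  flipE D.rels D.S (hinv Gen.h) (F_4238 IH)
theorem F_4272 (IH : D.IHyp) : ed Gen.i (D.P 299) = (D.P 302) :=
  D.real_edge' IH Gen.i 299 302 (by decide +kernel)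
theorem F_4273 (IH : D.IHyp) : ed Gen.f (D.P 350) = (D.P 338) :=
  D.real_edge' IH Gen.f 350 338 (by decide +kernel)
theorem F_4277 (IH : D.IHyp) : ed Gen.e (D.P 232) = (D.P 200) :=
  D.real_edge' IH Gen.e 232 200 (by decide +kernel)
theorem F_4281 (IH : D.IHyp) : ed Gen.c (D.P 362) = V_758 :=
  rfl
theorem F_4282 (IH : D.IHyp) : ed Gen.c V_758 = (D.P 362) :=
  flipE D.rels D.S (hinv Gen.c) (F_4281 IH)
theorem F_4283 (IH : D.IHyp) : ed Gen.f V_758 = V_758 :=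
  gap_rel RW_0 (path_edge (F_4281 IH) (path_edge (F_2239 IH) (path_edge (F_4282 IH) (path_nil _))))
theorem F_4284 (IH : D.IHyp) : ed Gen.g V_758 = V_758 :=
  gap_rel RW_1 (path_edge (F_4281 IH) (path_edge (F_2240 IH) (path_edge (F_4282 IH) (path_nil _))))
theorem F_4287 (IH : D.IHyp) : ed Gen.d V_758 = V_759 :=
  rfl
theorem F_4288 (IH : D.IHyp) : ed Gen.d V_759 = V_758 :=
  flipE D.rels D.S (hinv Gen.d) (F_4287 IH)
theorem F_4290 (IH : D.IHyp) : ed Gen.f V_759 = V_759 :=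
  gap_rel RW_27 (path_edge (F_4287 IH) (path_edge (F_4283 IH) (path_edge (F_4288 IH) (path_nil _))))
theorem F_4291 (IH : D.IHyp) : ed Gen.g V_759 = V_759 :=
  gap_rel RW_28 (path_edge (F_4287 IH) (path_edge (F_4284 IH) (path_edge (F_4288 IH) (path_nil _))))
theorem F_4533 (IH : D.IHyp) : ed Gen.b (D.P 353) = (D.P 353) :=
  D.real_edge' IH Gen.b 353 353 (by decide +kernel)
theorem F_4543 (IH : D.IHyp) : ed Gen.e (D.P 353) = (D.P 341) :=
  D.real_edge' IH Gen.e 353 341 (by decide +kernel)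
theorem F_4545 (IH : D.IHyp) : ed Gen.g (D.P 317) = (D.P 338) :=
  D.real_edge' IH Gen.g 317 338 (by decide +kernel)
theorem F_4557 (IH : D.IHyp) : ed Gen.h (D.P 212) = V_779 :=
  rfl
theorem F_4558 (IH : D.IHyp) : ed Gen.h V_779 = (D.P 212) :=
  flipE D.rels D.S (hinv Gen.h) (F_4557 IH)
theorem F_4559 (IH : D.IHyp) : ed Gen.b (D.P 215) = V_779 :=
  gap_rel RW_34 (path_edge (F_1352 IH) (path_edge (F_1179 IH) (path_edge (F_4558 IH) (path_nil _))))
theorem F_4562 (IH : D.IHyp) : ed Gen.g (D.P 236) = V_779 :=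
  gap_rel RW_41 (path_edge (F_724 IH) (path_edge (F_1846 IH) (path_edge (F_4558 IH) (path_nil _))))
theorem F_4563 (IH : D.IHyp) : ed Gen.g V_779 = (D.P 236) :=
  flipE D.rels D.S (hinv Gen.g) (F_4562 IH)
theorem F_4565 (IH : D.IHyp) : ed Gen.c (D.P 327) = V_780 :=
  rfl
theorem F_4566 (IH : D.IHyp) : ed Gen.c V_780 = (D.P 327) :=
  flipE D.rels D.S (hinv Gen.c) (F_4565 IH)
theorem F_4571 (IH : D.IHyp) : ed Gen.h V_780 = V_780 :=
  gap_rel RW_2 (path_edge (F_4565 IH) (path_edge (F_2876 IH) (path_edge (F_4566 IH) (path_nil _))))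
theorem F_4574 (IH : D.IHyp) : ed Gen.b V_780 = V_780 :=
  gap_rel RW_19 (path_edge (F_4565 IH) (path_edge (F_412 IH) (path_edge (F_2810 IH) (path_edge (F_2809 IH) (path_edge (F_4566 IH) (path_nil _))))))
theorem F_4575 (IH : D.IHyp) : ed Gen.g V_780 = V_781 :=
  rfl
theorem F_4576 (IH : D.IHyp) : ed Gen.g V_781 = V_780 :=
  flipE D.rels D.S (hinv Gen.g) (F_4575 IH)
theorem F_4578 (IH : D.IHyp) : ed Gen.c (D.P 345) = V_781 :=
  gap_rel RW_16 (path_edge (F_2970 IH) (path_edge (F_4566 IH) (path_edge (F_4576 IH) (path_nil _))))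
theorem F_4579 (IH : D.IHyp) : ed Gen.c V_781 = (D.P 345) :=
  flipE D.rels D.S (hinv Gen.c) (F_4578 IH)
theorem F_4582 (IH : D.IHyp) : ed Gen.f V_781 = V_782 :=
  rfl
theorem F_4583 (IH : D.IHyp) : ed Gen.f V_782 = V_781 :=
  flipE D.rels D.S (hinv Gen.f) (F_4582 IH)
theorem F_4585 (IH : D.IHyp) : ed Gen.c (D.P 355) = V_782 :=
  gap_rel RW_50 (path_edge (F_2224 IH) (path_edge (F_4579 IH) (path_edge (F_4583 IH) (path_nil _))))
theorem F_4586 (IH : D.IHyp) : ed Gen.c V_782 = (D.P 355) :=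
  flipE D.rels D.S (hinv Gen.c) (F_4585 IH)
theorem F_4589 (IH : D.IHyp) : ed Gen.e V_758 = V_782 :=
  gap_rel RW_43 (path_edge (F_4281 IH) (path_edge (F_2120 IH) (path_edge (F_4586 IH) (path_nil _))))
theorem F_4590 (IH : D.IHyp) : ed Gen.e V_782 = V_758 :=
  flipE D.rels D.S (hinv Gen.e) (F_4589 IH)
theorem F_4593 (IH : D.IHyp) : ed Gen.c V_759 = V_783 :=
  rfl
theorem F_4594 (IH : D.IHyp) : ed Gen.c V_783 = V_759 :=
  flipE D.rels D.S (hinv Gen.c) (F_4593 IH)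
theorem F_4595 (IH : D.IHyp) : ed Gen.f V_783 = V_783 :=
  gap_rel RW_0 (path_edge (F_4593 IH) (path_edge (F_4290 IH) (path_edge (F_4594 IH) (path_nil _))))
theorem F_4596 (IH : D.IHyp) : ed Gen.g V_783 = V_783 :=
  gap_rel RW_1 (path_edge (F_4593 IH) (path_edge (F_4291 IH) (path_edge (F_4594 IH) (path_nil _))))
theorem F_4597 (IH : D.IHyp) : ed Gen.b V_783 = V_784 :=
  rfl
theorem F_4598 (IH : D.IHyp) : ed Gen.b V_784 = V_783 :=
  flipE D.rels D.S (hinv Gen.b) (F_4597 IH)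
theorem F_4599 (IH : D.IHyp) : ed Gen.f V_784 = V_784 :=
  gap_rel RW_5 (path_edge (F_4597 IH) (path_edge (F_4595 IH) (path_edge (F_4598 IH) (path_nil _))))
theorem F_4600 (IH : D.IHyp) : ed Gen.g V_784 = V_784 :=
  gap_rel RW_6 (path_edge (F_4597 IH) (path_edge (F_4596 IH) (path_edge (F_4598 IH) (path_nil _))))
theorem F_4602 (IH : D.IHyp) : ed Gen.h V_784 = V_785 :=
  rfl
theorem F_4603 (IH : D.IHyp) : ed Gen.h V_785 = V_784 :=
  flipE D.rels D.S (hinv Gen.h) (F_4602 IH)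
theorem F_4605 (IH : D.IHyp) : ed Gen.f V_785 = V_785 :=
  gap_rel RW_35 (path_edge (F_4602 IH) (path_edge (F_4599 IH) (path_edge (F_4603 IH) (path_nil _))))
theorem F_4606 (IH : D.IHyp) : ed Gen.g V_785 = V_785 :=
  gap_rel RW_41 (path_edge (F_4602 IH) (path_edge (F_4600 IH) (path_edge (F_4603 IH) (path_nil _))))
theorem F_4607 (IH : D.IHyp) : ed Gen.e V_785 = V_786 :=
  rfl
theorem F_4608 (IH : D.IHyp) : ed Gen.e V_786 = V_785 :=
  flipE D.rels D.S (hinv Gen.e) (F_4607 IH)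
theorem F_4610 (IH : D.IHyp) : ed Gen.g V_786 = V_786 :=
  gap_rel RW_14 (path_edge (F_4607 IH) (path_edge (F_4606 IH) (path_edge (F_4608 IH) (path_nil _))))
theorem F_4611 (IH : D.IHyp) : ed Gen.d V_786 = V_787 :=
  rfl
theorem F_4612 (IH : D.IHyp) : ed Gen.d V_787 = V_786 :=
  flipE D.rels D.S (hinv Gen.d) (F_4611 IH)
theorem F_4613 (IH : D.IHyp) : ed Gen.g V_787 = V_787 :=
  gap_rel RW_28 (path_edge (F_4611 IH) (path_edge (F_4610 IH) (path_edge (F_4612 IH) (path_nil _))))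
theorem F_4614 (IH : D.IHyp) : ed Gen.c V_787 = V_788 :=
  rfl
theorem F_4615 (IH : D.IHyp) : ed Gen.c V_788 = V_787 :=
  flipE D.rels D.S (hinv Gen.c) (F_4614 IH)
theorem F_4616 (IH : D.IHyp) : ed Gen.g V_788 = V_788 :=
  gap_rel RW_1 (path_edge (F_4614 IH) (path_edge (F_4613 IH) (path_edge (F_4615 IH) (path_nil _))))
theorem F_4618 (IH : D.IHyp) : ed Gen.b V_788 = V_789 :=
  rfl
theorem F_4619 (IH : D.IHyp) : ed Gen.b V_789 = V_788 :=
  flipE D.rels D.S (hinv Gen.b) (F_4618 IH)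
theorem F_4621 (IH : D.IHyp) : ed Gen.g V_789 = V_789 :=
  gap_rel RW_6 (path_edge (F_4618 IH) (path_edge (F_4616 IH) (path_edge (F_4619 IH) (path_nil _))))
theorem F_4622 (IH : D.IHyp) : ed Gen.h V_789 = V_790 :=
  rfl
theorem F_4623 (IH : D.IHyp) : ed Gen.h V_790 = V_789 :=
  flipE D.rels D.S (hinv Gen.h) (F_4622 IH)
theorem F_4624 (IH : D.IHyp) : ed Gen.g V_790 = V_790 :=
  gap_rel RW_41 (path_edge (F_4622 IH) (path_edge (F_4621 IH) (path_edge (F_4623 IH) (path_nil _))))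
theorem F_4625 (IH : D.IHyp) : ed Gen.f V_790 = V_791 :=
  rfl
theorem F_4626 (IH : D.IHyp) : ed Gen.f V_791 = V_790 :=
  flipE D.rels D.S (hinv Gen.f) (F_4625 IH)
theorem F_4627 (IH : D.IHyp) : ed Gen.e V_791 = V_792 :=
  rfl
theorem F_4629 (IH : D.IHyp) : ed Gen.d V_792 = V_793 :=
  rfl
theorem F_4631 (IH : D.IHyp) : ed Gen.c V_793 = V_794 :=
  rfl
theorem F_4632 (IH : D.IHyp) : ed Gen.c V_794 = V_793 :=
  flipE D.rels D.S (hinv Gen.c) (F_4631 IH)
theorem F_4633 (IH : D.IHyp) : ed Gen.b V_794 = V_795 :=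
  rfl
theorem F_4634 (IH : D.IHyp) : ed Gen.b V_795 = V_794 :=
  flipE D.rels D.S (hinv Gen.b) (F_4633 IH)
theorem F_4635 (IH : D.IHyp) : ed Gen.h V_795 = V_796 :=
  rfl
theorem F_4636 (IH : D.IHyp) : ed Gen.h V_796 = V_795 :=
  flipE D.rels D.S (hinv Gen.h) (F_4635 IH)
theorem F_4637 (IH : D.IHyp) : ed Gen.g V_796 = V_797 :=
  rfl
theorem F_4639 (IH : D.IHyp) : ed Gen.f V_797 = V_798 :=
  rfl
theorem F_4641 (IH : D.IHyp) : ed Gen.e V_798 = V_756 :=
  gap_rel RW_58 (path_edge (F_4639 IH) (path_edge (F_4637 IH) (path_edge (F_4635 IH) (path_edge (F_4633 IH) (path_edge (F_4631 IH) (path_edge (F_4629 IH) (path_edge (F_4627 IH) (path_edge (F_4625 IH) (path_edge (F_4624 IH) (path_edge (F_4622 IH) (path_edge (F_4618 IH) (path_edge (F_4614 IH) (path_edge (F_4611 IH) (path_edge (F_4607 IH) (path_edge (F_4605 IH) (path_edge (F_4606 IH) (path_edge (F_4602 IH) (path_edge (F_4597 IH) (path_edge (F_4593 IH) (path_edge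 (F_4287 IH) (path_edge (F_4590 IH) (path_edge (F_4582 IH) (path_edge (F_4575 IH) (path_edge (F_4571 IH) (path_edge (F_4574 IH) (path_edge (F_4565 IH) (path_edge (F_2808 IH) (path_edge (F_2807 IH) (path_edge (F_2806 IH) (path_edge (F_4563 IH) (path_edge (F_4557 IH) (path_edge (F_657 IH) (path_edge (F_770 IH) (path_edge (F_405 IH) (path_edge (F_494 IH) (path_edge (F_493 IH) (path_edge (F_769 IH) (path_edge (F_158 IH) (path_edge (F_766 IH) (path_edge (F_368 IH) (path_edge (F_106 IH) (path_edge (F_1947 IH) (path_edge (F_1950 IH) (path_edge (F_1932 IH) (path_edge (F_1955 IH) (path_edge (F_4224 IH) (path_edge (F_4215 IH) (path_edge (F_4207 IH) (path_edge (F_4209 IH) (path_edge (F_238 IH) (path_edge (F_237 IH) (path_edge (F_236 IH) (path_edge (F_154 IH) (path_edge (F_20 IH) (path_edge (F_14 IH) (path_edge (F_663 IH) (path_edge (F_666 IH) (path_edge (F_658 IH) (path_edge (F_434 IH) (path_edge (F_430 IH) (path_edge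 (F_1982 IH) (path_edge (F_4226 IH) (path_nil _)))))))))))))))))))))))))))))))))))))))))))))))))))))))))))))))
theorem F_4642 (IH : D.IHyp) : ed Gen.e V_756 = V_798 :=
  flipE D.rels D.S (hinv Gen.e) (F_4641 IH)
theorem F_4645 (IH : D.IHyp) : ed Gen.d V_798 = V_374 :=
  gap_rel RW_15 (path_edge (F_4642 IH) (path_edge (F_4225 IH) (path_edge (F_1953 IH) (path_edge (F_924 IH) (path_edge (F_1118 IH) (path_nil _))))))
theorem F_4649 (IH : D.IHyp) : ed Gen.d V_375 = V_797 :=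
  gap_rel RW_40 (path_edge (F_1302 IH) (path_edge (F_4645 IH) (path_edge (F_4639 IH) (path_nil _))))
theorem F_4651 (IH : D.IHyp) : ed Gen.b V_797 = V_684 :=
  gap_rel RW_26 (path_edge (F_4649 IH) (path_edge (F_1304 IH) (path_edge (F_3924 IH) (path_nil _))))
theorem F_4655 (IH : D.IHyp) : ed Gen.b V_683 = V_796 :=
  gap_rel RW_32 (path_edge (F_3925 IH) (path_edge (F_4651 IH) (path_edge (F_4637 IH) (path_nil _))))
theorem F_4670 (IH : D.IHyp) : ed Gen.h V_794 = V_683 :=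
  gap_rel RW_7 (path_edge (F_4634 IH) (path_edge (F_4636 IH) (path_edge (F_4655 IH) (path_nil _))))
theorem F_4671 (IH : D.IHyp) : ed Gen.h V_683 = V_794 :=
  flipE D.rels D.S (hinv Gen.h) (F_4670 IH)
theorem F_4672 (IH : D.IHyp) : ed Gen.h V_793 = V_683 :=
  gap_rel RW_2 (path_edge (F_4632 IH) (path_edge (F_4671 IH) (path_edge (F_3887 IH) (path_nil _))))
theorem F_4680 (IH : D.IHyp) : ed Gen.f (D.P 233) = V_793 :=
  gap_rel RW_35 (path_edge (F_563 IH) (path_edge (F_3884 IH) (path_edge (F_4672 IH) (path_nil _))))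
theorem F_4681 (IH : D.IHyp) : ed Gen.f V_793 = (D.P 233) :=
  flipE D.rels D.S (hinv Gen.f) (F_4680 IH)
theorem F_4682 (IH : D.IHyp) : ed Gen.g V_685 = V_793 :=
  gap_rel RW_41 (path_edge (F_3931 IH) (path_edge (F_3926 IH) (path_edge (F_4672 IH) (path_nil _))))
theorem F_4684 (IH : D.IHyp) : ed Gen.h (D.P 242) = V_792 :=
  gap_rel RW_59 (path_edge (F_1465 IH) (path_edge (F_456 IH) (path_edge (F_3881 IH) (path_edge (F_4672 IH) (path_edge (F_4629 IH) (path_nil _))))))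
theorem F_4685 (IH : D.IHyp) : ed Gen.h V_792 = (D.P 242) :=
  flipE D.rels D.S (hinv Gen.h) (F_4684 IH)
theorem F_4711 (IH : D.IHyp) : ed Gen.c (D.P 277) = V_792 :=
  gap_rel RW_51 (path_edge (F_1442 IH) (path_edge (F_1609 IH) (path_edge (F_4685 IH) (path_nil _))))
theorem F_4712 (IH : D.IHyp) : ed Gen.c V_792 = (D.P 277) :=
  flipE D.rels D.S (hinv Gen.c) (F_4711 IH)
theorem F_4713 (IH : D.IHyp) : ed Gen.h (D.P 272) = V_791 :=
  gap_rel RW_10 (path_edge (F_1571 IH) (path_edge (F_4685 IH) (path_edge (F_4627 IH) (path_nil _))))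
theorem F_4720 (IH : D.IHyp) : ed Gen.c (D.P 305) = V_791 :=
  gap_rel RW_13 (path_edge (F_1635 IH) (path_edge (F_4712 IH) (path_edge (F_4627 IH) (path_nil _))))
theorem F_4721 (IH : D.IHyp) : ed Gen.c V_791 = (D.P 305) :=
  flipE D.rels D.S (hinv Gen.c) (F_4720 IH)
theorem F_4727 (IH : D.IHyp) : ed Gen.d (D.P 343) = (D.P 354) :=
  D.real_edge' IH Gen.d 343 354 (by decide +kernel)
theorem F_4728 (IH : D.IHyp) : ed Gen.e (D.P 354) = (D.P 361) :=
  D.real_edge' IH Gen.e 354 361 (by decide +kernel)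
theorem F_4731 (IH : D.IHyp) : ed Gen.c (D.P 331) = V_790 :=
  gap_rel RW_50 (path_edge (F_2164 IH) (path_edge (F_4721 IH) (path_edge (F_4625 IH) (path_nil _))))
theorem F_4735 (IH : D.IHyp) : ed Gen.f V_789 = (D.P 272) :=
  gap_rel RW_35 (path_edge (F_4623 IH) (path_edge (F_4626 IH) (path_edge (F_4713 IH) (path_nil _))))
theorem F_4736 (IH : D.IHyp) : ed Gen.f (D.P 272) = V_789 :=
  flipE D.rels D.S (hinv Gen.f) (F_4735 IH)
theorem F_4737 (IH : D.IHyp) : (D.P 302) = V_789 :=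
  edge_fun (F_1572 IH) (F_4736 IH)
theorem F_4738 (IH : D.IHyp) : V_789 = (D.P 302) :=
  (F_4737 IH).symm
theorem F_4739 (IH : D.IHyp) : ed Gen.b (D.P 302) = V_788 :=
  edge_congr (F_4619 IH) (F_4738 IH)
theorem F_4767 (IH : D.IHyp) : ed Gen.e V_788 = (D.P 307) :=
  gap_rel RW_12 (path_edge (F_4739 IH) (path_edge (F_581 IH) (path_edge (F_2272 IH) (path_nil _))))
theorem F_4769 (IH : D.IHyp) : ed Gen.i V_788 = (D.P 325) :=
  gap_rel RW_8 (path_edge (F_4739 IH) (path_edge (F_4272 IH) (path_edge (F_2226 IH) (path_nil _))))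
theorem F_4770 (IH : D.IHyp) : ed Gen.i (D.P 325) = V_788 :=
  flipE D.rels D.S (hinv Gen.i) (F_4769 IH)
theorem F_4771 (IH : D.IHyp) : ed Gen.c (D.P 343) = (D.P 325) :=
  D.real_edge' IH Gen.c 343 325 (by decide +kernel)
theorem F_4772 (IH : D.IHyp) : ed Gen.i V_787 = (D.P 343) :=
  gap_rel RW_3 (path_edge (F_4615 IH) (path_edge (F_4770 IH) (path_edge (F_4771 IH) (path_nil _))))
theorem F_4773 (IH : D.IHyp) : ed Gen.i (D.P 343) = V_787 :=
  flipE D.rels D.S (hinv Gen.i) (F_4772 IH)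
theorem F_4778 (IH : D.IHyp) : ed Gen.d (D.P 354) = (D.P 343) :=
  D.real_edge' IH Gen.d 354 343 (by decide +kernel)
theorem F_4780 (IH : D.IHyp) : ed Gen.i V_786 = (D.P 354) :=
  gap_rel RW_29 (path_edge (F_4612 IH) (path_edge (F_4773 IH) (path_edge (F_4778 IH) (path_nil _))))
theorem F_4781 (IH : D.IHyp) : ed Gen.i (D.P 354) = V_786 :=
  flipE D.rels D.S (hinv Gen.i) (F_4780 IH)
theorem F_4787 (IH : D.IHyp) : ed Gen.e (D.P 361) = (D.P 354) :=
  D.real_edge' IH Gen.e 361 354 (by decide +kernel)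
theorem F_4788 (IH : D.IHyp) : ed Gen.i V_785 = (D.P 361) :=
  gap_rel RW_11 (path_edge (F_4608 IH) (path_edge (F_4781 IH) (path_edge (F_4787 IH) (path_nil _))))
theorem F_4789 (IH : D.IHyp) : ed Gen.i (D.P 361) = V_785 :=
  flipE D.rels D.S (hinv Gen.i) (F_4788 IH)
theorem F_4790 (IH : D.IHyp) : ed Gen.c (D.P 361) = (D.P 361) :=
  D.real_edge' IH Gen.c 361 361 (by decide +kernel)
theorem F_5141 (IH : D.IHyp) : ed Gen.b V_655 = V_847 :=
  rfl
theorem F_5142 (IH : D.IHyp) : ed Gen.b V_847 = V_655 :=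
  flipE D.rels D.S (hinv Gen.b) (F_5141 IH)
theorem F_5143 (IH : D.IHyp) : ed Gen.d V_847 = V_847 :=
  gap_rel RW_9 (path_edge (F_5141 IH) (path_edge (F_3594 IH) (path_edge (F_5142 IH) (path_nil _))))
theorem F_5150 (IH : D.IHyp) : ed Gen.c V_847 = V_848 :=
  rfl
theorem F_5151 (IH : D.IHyp) : ed Gen.c V_848 = V_847 :=
  flipE D.rels D.S (hinv Gen.c) (F_5150 IH)
theorem F_5158 (IH : D.IHyp) : ed Gen.b V_398 = V_848 :=
  gap_rel RW_19 (path_edge (F_2469 IH) (path_edge (F_2456 IH) (path_edge (F_3591 IH) (path_edge (F_5142 IH) (path_edge (F_5151 IH) (path_nil _))))))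
theorem F_5159 (IH : D.IHyp) : ed Gen.b V_848 = V_398 :=
  flipE D.rels D.S (hinv Gen.b) (F_5158 IH)
theorem F_5160 (IH : D.IHyp) : ed Gen.d V_848 = V_849 :=
  rfl
theorem F_5161 (IH : D.IHyp) : ed Gen.d V_849 = V_848 :=
  flipE D.rels D.S (hinv Gen.d) (F_5160 IH)
theorem F_5162 (IH : D.IHyp) : ed Gen.b V_397 = V_849 :=
  gap_rel RW_26 (path_edge (F_1927 IH) (path_edge (F_5159 IH) (path_edge (F_5161 IH) (path_nil _))))
theorem F_5163 (IH : D.IHyp) : ed Gen.b V_849 = V_397 :=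
  flipE D.rels D.S (hinv Gen.b) (F_5162 IH)
theorem F_5168 (IH : D.IHyp) : ed Gen.c V_849 = V_849 :=
  gap_rel RW_20 (path_edge (F_5160 IH) (path_edge (F_5150 IH) (path_edge (F_5143 IH) (path_edge (F_5151 IH) (path_edge (F_5161 IH) (path_nil _))))))
theorem F_5169 (IH : D.IHyp) : ed Gen.h V_849 = V_850 :=
  rfl
theorem F_5170 (IH : D.IHyp) : ed Gen.h V_850 = V_849 :=
  flipE D.rels D.S (hinv Gen.h) (F_5169 IH)
theorem F_5171 (IH : D.IHyp) : ed Gen.b V_406 = V_850 :=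
  gap_rel RW_34 (path_edge (F_4239 IH) (path_edge (F_5163 IH) (path_edge (F_5170 IH) (path_nil _))))
theorem F_5172 (IH : D.IHyp) : ed Gen.b V_850 = V_406 :=
  flipE D.rels D.S (hinv Gen.b) (F_5171 IH)
theorem F_5173 (IH : D.IHyp) : ed Gen.c V_850 = V_850 :=
  gap_rel RW_51 (path_edge (F_5169 IH) (path_edge (F_5168 IH) (path_edge (F_5170 IH) (path_nil _))))
theorem F_5176 (IH : D.IHyp) : ed Gen.f V_850 = V_851 :=
  rfl
theorem F_5177 (IH : D.IHyp) : ed Gen.f V_851 = V_850 :=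
  flipE D.rels D.S (hinv Gen.f) (F_5176 IH)
theorem F_5178 (IH : D.IHyp) : ed Gen.b V_405 = V_851 :=
  gap_rel RW_31 (path_edge (F_2042 IH) (path_edge (F_5172 IH) (path_edge (F_5177 IH) (path_nil _))))
theorem F_5179 (IH : D.IHyp) : ed Gen.b V_851 = V_405 :=
  flipE D.rels D.S (hinv Gen.b) (F_5178 IH)
theorem F_5184 (IH : D.IHyp) : ed Gen.g (D.P 147) = V_851 :=
  gap_rel RW_6 (path_edge (F_2021 IH) (path_edge (F_2039 IH) (path_edge (F_5179 IH) (path_nil _))))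
theorem F_5185 (IH : D.IHyp) : ed Gen.g V_851 = (D.P 147) :=
  flipE D.rels D.S (hinv Gen.g) (F_5184 IH)
theorem F_5186 (IH : D.IHyp) : ed Gen.e V_851 = V_852 :=
  rfl
theorem F_5189 (IH : D.IHyp) : ed Gen.g V_852 = (D.P 172) :=
  gap_rel RW_14 (path_edge (F_5186 IH) (path_edge (F_5184 IH) (path_edge (F_1849 IH) (path_nil _))))
theorem F_5190 (IH : D.IHyp) : ed Gen.g (D.P 172) = V_852 :=
  flipE D.rels D.S (hinv Gen.g) (F_5189 IH)
theorem F_5191 (IH : D.IHyp) : ed Gen.f V_852 = V_685 :=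
  gap_rel RW_33 (path_edge (F_5190 IH) (path_edge (F_1859 IH) (path_edge (F_2855 IH) (path_edge (F_4681 IH) (path_edge (F_4682 IH) (path_nil _))))))
theorem F_5192 (IH : D.IHyp) : ed Gen.f V_685 = V_852 :=
  flipE D.rels D.S (hinv Gen.f) (F_5191 IH)
theorem F_5193 (IH : D.IHyp) : ed Gen.d V_852 = V_853 :=
  rfl
theorem F_5195 (IH : D.IHyp) : ed Gen.g V_853 = (D.P 189) :=
  gap_rel RW_28 (path_edge (F_5193 IH) (path_edge (F_5190 IH) (path_edge (F_760 IH) (path_nil _))))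
theorem F_5196 (IH : D.IHyp) : ed Gen.g (D.P 189) = V_853 :=
  flipE D.rels D.S (hinv Gen.g) (F_5195 IH)
theorem F_5198 (IH : D.IHyp) : ed Gen.c V_853 = (D.P 215) :=
  gap_rel RW_16 (path_edge (F_5196 IH) (path_edge (F_1848 IH) (path_edge (F_2962 IH) (path_nil _))))
theorem F_5200 (IH : D.IHyp) : ed Gen.h (D.P 179) = V_853 :=
  gap_rel RW_2 (path_edge (F_1180 IH) (path_edge (F_2958 IH) (path_edge (F_5198 IH) (path_nil _))))
theorem F_5201 (IH : D.IHyp) : ed Gen.h V_853 = (D.P 179) :=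
  flipE D.rels D.S (hinv Gen.h) (F_5200 IH)
theorem F_5375 (IH : D.IHyp) : ed Gen.i V_451 = V_914 :=
  rfl
theorem F_5376 (IH : D.IHyp) : ed Gen.i V_914 = V_451 :=
  flipE D.rels D.S (hinv Gen.i) (F_5375 IH)
theorem F_5377 (IH : D.IHyp) : ed Gen.d V_914 = V_914 :=
  gap_rel RW_46 (path_edge (F_5375 IH) (path_edge (F_2508 IH) (path_edge (F_5376 IH) (path_nil _))))
theorem F_5378 (IH : D.IHyp) : ed Gen.e V_914 = V_914 :=
  gap_rel RW_44 (path_edge (F_5375 IH) (path_edge (F_2507 IH) (path_edge (F_5376 IH) (path_nil _))))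
theorem F_5379 (IH : D.IHyp) : ed Gen.f V_537 = V_914 :=
  gap_rel RW_48 (path_edge (F_3191 IH) (path_edge (F_3186 IH) (path_edge (F_5376 IH) (path_nil _))))
theorem F_5422 (IH : D.IHyp) : ed Gen.c V_914 = V_915 :=
  rfl
theorem F_5423 (IH : D.IHyp) : ed Gen.c V_915 = V_914 :=
  flipE D.rels D.S (hinv Gen.c) (F_5422 IH)
theorem F_5424 (IH : D.IHyp) : ed Gen.e V_915 = V_915 :=
  gap_rel RW_43 (path_edge (F_5422 IH) (path_edge (F_5378 IH) (path_edge (F_5423 IH) (path_nil _))))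
theorem F_5425 (IH : D.IHyp) : ed Gen.f V_915 = V_546 :=
  gap_rel RW_0 (path_edge (F_5422 IH) (path_edge (F_5379 IH) (path_edge (F_3219 IH) (path_nil _))))
theorem F_5426 (IH : D.IHyp) : ed Gen.f V_546 = V_915 :=
  flipE D.rels D.S (hinv Gen.f) (F_5425 IH)
theorem F_5430 (IH : D.IHyp) : ed Gen.b V_915 = V_915 :=
  gap_rel RW_31 (path_edge (F_5426 IH) (path_edge (F_3222 IH) (path_edge (F_5425 IH) (path_nil _))))
theorem F_5431 (IH : D.IHyp) : ed Gen.d V_915 = V_916 :=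
  rfl
theorem F_5432 (IH : D.IHyp) : ed Gen.d V_916 = V_915 :=
  flipE D.rels D.S (hinv Gen.d) (F_5431 IH)
theorem F_5438 (IH : D.IHyp) : ed Gen.c V_916 = V_916 :=
  gap_rel RW_20 (path_edge (F_5431 IH) (path_edge (F_5422 IH) (path_edge (F_5377 IH) (path_edge (F_5423 IH) (path_edge (F_5432 IH) (path_nil _))))))
theorem F_5439 (IH : D.IHyp) : ed Gen.e V_916 = V_917 :=
  rfl
theorem F_5440 (IH : D.IHyp) : ed Gen.e V_917 = V_916 :=
  flipE D.rels D.S (hinv Gen.e) (F_5439 IH)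
theorem F_5442 (IH : D.IHyp) : ed Gen.c V_917 = V_917 :=
  gap_rel RW_13 (path_edge (F_5439 IH) (path_edge (F_5438 IH) (path_edge (F_5440 IH) (path_nil _))))
theorem F_5443 (IH : D.IHyp) : ed Gen.d V_917 = V_917 :=
  gap_rel RW_15 (path_edge (F_5439 IH) (path_edge (F_5431 IH) (path_edge (F_5424 IH) (path_edge (F_5432 IH) (path_edge (F_5440 IH) (path_nil _))))))
theorem F_5444 (IH : D.IHyp) : ed Gen.f V_917 = V_918 :=
  rfl
theorem F_5445 (IH : D.IHyp) : ed Gen.f V_918 = V_917 :=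
  flipE D.rels D.S (hinv Gen.f) (F_5444 IH)
theorem F_5447 (IH : D.IHyp) : ed Gen.c V_918 = V_918 :=
  gap_rel RW_50 (path_edge (F_5444 IH) (path_edge (F_5442 IH) (path_edge (F_5445 IH) (path_nil _))))
theorem F_5448 (IH : D.IHyp) : ed Gen.d V_918 = V_918 :=
  gap_rel RW_40 (path_edge (F_5444 IH) (path_edge (F_5443 IH) (path_edge (F_5445 IH) (path_nil _))))
theorem F_5454 (IH : D.IHyp) : ed Gen.h V_918 = V_919 :=
  rfl
theorem F_5455 (IH : D.IHyp) : ed Gen.h V_919 = V_918 :=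
  flipE D.rels D.S (hinv Gen.h) (F_5454 IH)
theorem F_5457 (IH : D.IHyp) : ed Gen.c V_919 = V_919 :=
  gap_rel RW_51 (path_edge (F_5454 IH) (path_edge (F_5447 IH) (path_edge (F_5455 IH) (path_nil _))))
theorem F_5458 (IH : D.IHyp) : ed Gen.i V_919 = V_920 :=
  rfl
theorem F_5459 (IH : D.IHyp) : ed Gen.i V_920 = V_919 :=
  flipE D.rels D.S (hinv Gen.i) (F_5458 IH)
theorem F_5461 (IH : D.IHyp) : ed Gen.c V_920 = V_920 :=
  gap_rel RW_52 (path_edge (F_5458 IH) (path_edge (F_5457 IH) (path_edge (F_5459 IH) (path_nil _))))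
theorem F_5462 (IH : D.IHyp) : ed Gen.d V_920 = V_921 :=
  rfl
theorem F_5463 (IH : D.IHyp) : ed Gen.d V_921 = V_920 :=
  flipE D.rels D.S (hinv Gen.d) (F_5462 IH)
theorem F_5465 (IH : D.IHyp) : ed Gen.c V_921 = V_922 :=
  rfl
theorem F_5466 (IH : D.IHyp) : ed Gen.c V_922 = V_921 :=
  flipE D.rels D.S (hinv Gen.c) (F_5465 IH)
theorem F_5467 (IH : D.IHyp) : ed Gen.d V_922 = V_922 :=
  gap_rel RW_56 (path_edge (F_5465 IH) (path_edge (F_5462 IH) (path_edge (F_5461 IH) (path_edge (F_5463 IH) (path_edge (F_5466 IH) (path_nil _))))))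
theorem F_5468 (IH : D.IHyp) : ed Gen.b V_922 = V_923 :=
  rfl
theorem F_5469 (IH : D.IHyp) : ed Gen.b V_923 = V_922 :=
  flipE D.rels D.S (hinv Gen.b) (F_5468 IH)
theorem F_5470 (IH : D.IHyp) : ed Gen.d V_923 = V_923 :=
  gap_rel RW_9 (path_edge (F_5468 IH) (path_edge (F_5467 IH) (path_edge (F_5469 IH) (path_nil _))))
theorem F_5472 (IH : D.IHyp) : ed Gen.e V_923 = V_924 :=
  rfl
theorem F_5475 (IH : D.IHyp) : ed Gen.f V_924 = V_925 :=
  rfl
theorem F_5478 (IH : D.IHyp) : ed Gen.d V_925 = V_926 :=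
  rfl
theorem F_5480 (IH : D.IHyp) : ed Gen.h V_926 = V_927 :=
  rfl
theorem F_5482 (IH : D.IHyp) : ed Gen.i V_927 = V_928 :=
  rfl
theorem F_5484 (IH : D.IHyp) : ed Gen.d V_928 = V_929 :=
  rfl
theorem F_5486 (IH : D.IHyp) : ed Gen.c V_929 = V_930 :=
  rfl
theorem F_5488 (IH : D.IHyp) : ed Gen.b V_930 = V_931 :=
  rfl
theorem F_5490 (IH : D.IHyp) : ed Gen.d V_931 = V_932 :=
  rfl
theorem F_5492 (IH : D.IHyp) : ed Gen.e V_932 = V_933 :=
  rfl
theorem F_5494 (IH : D.IHyp) : ed Gen.f V_933 = V_934 :=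
  rfl
theorem F_5496 (IH : D.IHyp) : ed Gen.d V_934 = V_935 :=
  rfl
theorem F_5498 (IH : D.IHyp) : ed Gen.h V_935 = V_936 :=
  rfl
theorem F_5500 (IH : D.IHyp) : ed Gen.i V_936 = V_937 :=
  rfl
theorem F_5502 (IH : D.IHyp) : ed Gen.d V_937 = V_938 :=
  rfl
theorem F_5504 (IH : D.IHyp) : ed Gen.c V_938 = V_939 :=
  rfl
theorem F_5506 (IH : D.IHyp) : ed Gen.b V_939 = V_940 :=
  rfl
theorem F_5508 (IH : D.IHyp) : ed Gen.d V_940 = V_941 :=
  rfl
theorem F_5510 (IH : D.IHyp) : ed Gen.e V_941 = V_942 :=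
  rfl
theorem F_5512 (IH : D.IHyp) : ed Gen.f V_942 = V_943 :=
  rfl
theorem F_5514 (IH : D.IHyp) : ed Gen.d V_943 = V_944 :=
  rfl
theorem F_5516 (IH : D.IHyp) : ed Gen.h V_944 = V_945 :=
  rfl
theorem F_5518 (IH : D.IHyp) : ed Gen.i V_945 = V_946 :=
  rfl
theorem F_5520 (IH : D.IHyp) : ed Gen.d V_946 = V_947 :=
  rfl
theorem F_5522 (IH : D.IHyp) : ed Gen.c V_947 = V_948 :=
  rfl
theorem F_5524 (IH : D.IHyp) : ed Gen.b V_948 = V_949 :=
  rfl
theorem F_5526 (IH : D.IHyp) : ed Gen.d V_949 = V_950 :=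
  rfl
theorem F_5528 (IH : D.IHyp) : ed Gen.e V_950 = V_951 :=
  rfl
theorem F_5530 (IH : D.IHyp) : ed Gen.f V_951 = V_952 :=
  rfl
theorem F_5532 (IH : D.IHyp) : ed Gen.d V_952 = V_953 :=
  rfl
theorem F_5534 (IH : D.IHyp) : ed Gen.h V_953 = V_954 :=
  rfl
theorem F_5536 (IH : D.IHyp) : ed Gen.i V_954 = V_955 :=
  rfl
theorem F_5538 (IH : D.IHyp) : ed Gen.d V_955 = V_956 :=
  rfl
theorem F_5540 (IH : D.IHyp) : ed Gen.c V_956 = V_957 :=
  rfl
theorem F_5542 (IH : D.IHyp) : ed Gen.b V_957 = V_958 :=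
  rfl
theorem F_5544 (IH : D.IHyp) : ed Gen.d V_958 = V_959 :=
  rfl
theorem F_5546 (IH : D.IHyp) : ed Gen.e V_959 = V_960 :=
  rfl
theorem F_5548 (IH : D.IHyp) : ed Gen.f V_960 = V_961 :=
  rfl
theorem F_5550 (IH : D.IHyp) : ed Gen.d V_961 = V_962 :=
  rfl
theorem F_5552 (IH : D.IHyp) : ed Gen.h V_962 = V_963 :=
  rfl
theorem F_5554 (IH : D.IHyp) : ed Gen.i V_963 = V_964 :=
  rfl
theorem F_5556 (IH : D.IHyp) : ed Gen.d V_964 = V_965 :=
  rfl
theorem F_5558 (IH : D.IHyp) : ed Gen.c V_965 = V_966 :=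
  rfl
theorem F_5560 (IH : D.IHyp) : ed Gen.b V_966 = V_967 :=
  rfl
theorem F_5562 (IH : D.IHyp) : ed Gen.d V_967 = V_968 :=
  rfl
theorem F_5564 (IH : D.IHyp) : ed Gen.e V_968 = V_969 :=
  rfl
theorem F_5566 (IH : D.IHyp) : ed Gen.f V_969 = V_970 :=
  rfl
theorem F_5568 (IH : D.IHyp) : ed Gen.d V_970 = V_971 :=
  rfl
theorem F_5570 (IH : D.IHyp) : ed Gen.h V_971 = V_972 :=
  rfl
theorem F_5572 (IH : D.IHyp) : ed Gen.i V_972 = V_973 :=
  rfl
theorem F_5574 (IH : D.IHyp) : ed Gen.d V_973 = V_974 :=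
  rfl
theorem F_5575 (IH : D.IHyp) : ed Gen.d V_974 = V_973 :=
  flipE D.rels D.S (hinv Gen.d) (F_5574 IH)
theorem F_5576 (IH : D.IHyp) : ed Gen.c V_974 = V_975 :=
  rfl
theorem F_5577 (IH : D.IHyp) : ed Gen.c V_975 = V_974 :=
  flipE D.rels D.S (hinv Gen.c) (F_5576 IH)
theorem F_5578 (IH : D.IHyp) : ed Gen.b V_975 = V_408 :=
  gap_rel RW_60 (path_edge (F_5576 IH) (path_edge (F_5574 IH) (path_edge (F_5572 IH) (path_edge (F_5570 IH) (path_edge (F_5568 IH) (path_edge (F_5566 IH) (path_edge (F_5564 IH) (path_edge (F_5562 IH) (path_edge (F_5560 IH) (path_edge (F_5558 IH) (path_edge (F_5556 IH) (path_edge (F_5554 IH) (path_edge (F_5552 IH) (path_edge (F_5550 IH) (path_edge (F_5548 IH) (path_edge (F_5546 IH) (path_edge (F_5544 IH) (path_edge (F_5542 IH) (path_edge (F_5540 IH) (path_edge (F_5538 IH) (path_edge (F_5536 IH) (path_edge (F_5534 IH) (path_edge (F_5532 IH) (path_edge (F_5530 IH) (path_edge (F_5528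 IH) (path_edge (F_5526 IH) (path_edge (F_5524 IH) (path_edge (F_5522 IH) (path_edge (F_5520 IH) (path_edge (F_5518 IH) (path_edge (F_5516 IH) (path_edge (F_5514 IH) (path_edge (F_5512 IH) (path_edge (F_5510 IH) (path_edge (F_5508 IH) (path_edge (F_5506 IH) (path_edge (F_5504 IH) (path_edge (F_5502 IH) (path_edge (F_5500 IH) (path_edge (F_5498 IH) (path_edge (F_5496 IH) (path_edge (F_5494 IH) (path_edge (F_5492 IH) (path_edge (F_5490 IH) (path_edge (F_5488 IH) (path_edge (F_5486 IH) (path_edge (F_5484 IH) (path_edge (F_5482 IH) (path_edge (F_5480 IH) (path_edge (F_5478 IH) (path_edge (F_5475 IH) (path_edge (F_5472 IH) (path_edge (F_5470 IH) (path_edge (F_5468 IH) (path_edge (F_5465 IH) (path_edge (F_5462 IH) (path_edge (F_5458 IH) (path_edge (F_5454 IH) (path_edge (F_5448 IH) (path_edge (F_5444 IH) (path_edge (F_5439 IH) (path_edge (F_5431 IH) (path_edge (F_5430 IH) (path_edge (F_5422 IH) (path_edge (F_5377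 IH) (path_edge (F_5375 IH) (path_edge (F_2505 IH) (path_edge (F_2502 IH) (path_edge (F_2459 IH) (path_edge (F_2457 IH) (path_edge (F_3175 IH) (path_edge (F_3176 IH) (path_edge (F_3128 IH) (path_edge (F_3123 IH) (path_edge (F_920 IH) (path_edge (F_919 IH) (path_edge (F_3122 IH) (path_edge (F_3124 IH) (path_edge (F_916 IH) (path_edge (F_912 IH) (path_edge (F_430 IH) (path_edge (F_1982 IH) (path_edge (F_4226 IH) (path_edge (F_4231 IH) (path_edge (F_4234 IH) (path_edge (F_2040 IH) (path_edge (F_2042 IH) (path_edge (F_2046 IH) (path_edge (F_2049 IH) (path_nil _))))))))))))))))))))))))))))))))))))))))))))))))))))))))))))))))))))))))))))))))))))))))))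
theorem F_5579 (IH : D.IHyp) : ed Gen.b V_408 = V_975 :=
  flipE D.rels D.S (hinv Gen.b) (F_5578 IH)
theorem F_5580 (IH : D.IHyp) : ed Gen.e V_975 = V_975 :=
  gap_rel RW_12 (path_edge (F_5579 IH) (path_edge (F_2051 IH) (path_edge (F_5578 IH) (path_nil _))))
theorem F_5581 (IH : D.IHyp) : ed Gen.g V_975 = V_975 :=
  gap_rel RW_6 (path_edge (F_5579 IH) (path_edge (F_2050 IH) (path_edge (F_5578 IH) (path_nil _))))
theorem F_5582 (IH : D.IHyp) : ed Gen.h V_975 = V_975 :=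
  gap_rel RW_7 (path_edge (F_5579 IH) (path_edge (F_3801 IH) (path_edge (F_5578 IH) (path_nil _))))
theorem F_5583 (IH : D.IHyp) : ed Gen.e V_974 = V_974 :=
  gap_rel RW_43 (path_edge (F_5577 IH) (path_edge (F_5580 IH) (path_edge (F_5576 IH) (path_nil _))))
theorem F_5584 (IH : D.IHyp) : ed Gen.g V_974 = V_974 :=
  gap_rel RW_1 (path_edge (F_5577 IH) (path_edge (F_5581 IH) (path_edge (F_5576 IH) (path_nil _))))
theorem F_5585 (IH : D.IHyp) : ed Gen.h V_974 = V_974 :=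
  gap_rel RW_2 (path_edge (F_5577 IH) (path_edge (F_5582 IH) (path_edge (F_5576 IH) (path_nil _))))
theorem F_5586 (IH : D.IHyp) : ed Gen.g V_973 = V_973 :=
  gap_rel RW_28 (path_edge (F_5575 IH) (path_edge (F_5584 IH) (path_edge (F_5574 IH) (path_nil _))))
theorem F_6057 (IH : D.IHyp) : ed Gen.d (D.P 141) = V_1097 :=
  rfl
theorem F_6061 (IH : D.IHyp) : ed Gen.f V_1097 = V_485 :=
  gap_rel RW_27 (path_edge (F_6057 IH) (path_edge (F_319 IH) (path_edge (F_2835 IH) (path_nil _))))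
theorem F_6066 (IH : D.IHyp) : ed Gen.e V_1097 = V_403 :=
  gap_rel RW_21 (path_edge (F_6057 IH) (path_edge (F_107 IH) (path_edge (F_106 IH) (path_edge (F_1947 IH) (path_edge (F_2007 IH) (path_nil _))))))
theorem F_6067 (IH : D.IHyp) : ed Gen.e V_403 = V_1097 :=
  flipE D.rels D.S (hinv Gen.e) (F_6066 IH)
theorem F_6214 (IH : D.IHyp) : ed Gen.d V_458 = V_1120 :=
  rfl
theorem F_6215 (IH : D.IHyp) : ed Gen.d V_1120 = V_458 :=
  flipE D.rels D.S (hinv Gen.d) (F_6214 IH)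
theorem F_6221 (IH : D.IHyp) : ed Gen.c V_403 = V_1120 :=
  gap_rel RW_20 (path_edge (F_2008 IH) (path_edge (F_3492 IH) (path_edge (F_4199 IH) (path_edge (F_4196 IH) (path_edge (F_6215 IH) (path_nil _))))))
theorem F_6225 (IH : D.IHyp) : ed Gen.e V_850 = V_1121 :=
  rfl
theorem F_6226 (IH : D.IHyp) : ed Gen.e V_1121 = V_850 :=
  flipE D.rels D.S (hinv Gen.e) (F_6225 IH)
theorem F_6227 (IH : D.IHyp) : ed Gen.b V_407 = V_1121 :=
  gap_rel RW_30 (path_edge (F_2045 IH) (path_edge (F_5172 IH) (path_edge (F_6226 IH) (path_nil _))))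
theorem F_6228 (IH : D.IHyp) : ed Gen.b V_1121 = V_407 :=
  flipE D.rels D.S (hinv Gen.b) (F_6227 IH)
theorem F_6229 (IH : D.IHyp) : ed Gen.c V_1121 = V_1121 :=
  gap_rel RW_13 (path_edge (F_6225 IH) (path_edge (F_5173 IH) (path_edge (F_6226 IH) (path_nil _))))
theorem F_6233 (IH : D.IHyp) : ed Gen.d V_975 = V_1121 :=
  gap_rel RW_9 (path_edge (F_5579 IH) (path_edge (F_2048 IH) (path_edge (F_6228 IH) (path_nil _))))
theorem F_6234 (IH : D.IHyp) : ed Gen.d V_1121 = V_975 :=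
  flipE D.rels D.S (hinv Gen.d) (F_6233 IH)
theorem F_6235 (IH : D.IHyp) : ed Gen.c V_973 = V_975 :=
  gap_rel RW_20 (path_edge (F_5575 IH) (path_edge (F_5577 IH) (path_edge (F_6234 IH) (path_edge (F_6229 IH) (path_edge (F_6233 IH) (path_nil _))))))
theorem F_6236 (IH : D.IHyp) : ed Gen.c V_975 = V_973 :=
  flipE D.rels D.S (hinv Gen.c) (F_6235 IH)
theorem F_6237 (IH : D.IHyp) : V_974 = V_973 :=
  edge_fun (F_5577 IH) (F_6236 IH)
theorem F_6240 (IH : D.IHyp) : ed Gen.d V_973 = V_973 :=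
  edge_congr (F_5575 IH) (F_6237 IH)
theorem F_6241 (IH : D.IHyp) : ed Gen.e V_974 = V_973 :=
  (F_5583 IH).trans (F_6237 IH)
theorem F_6242 (IH : D.IHyp) : ed Gen.e V_973 = V_973 :=
  edge_congr (F_6241 IH) (F_6237 IH)
theorem F_6245 (IH : D.IHyp) : ed Gen.h V_974 = V_973 :=
  (F_5585 IH).trans (F_6237 IH)
theorem F_6246 (IH : D.IHyp) : ed Gen.h V_973 = V_973 :=
  edge_congr (F_6245 IH) (F_6237 IH)
theorem F_6266 (IH : D.IHyp) : ed Gen.b V_973 = V_1122 :=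
  rfl
theorem F_6267 (IH : D.IHyp) : ed Gen.b V_1122 = V_973 :=
  flipE D.rels D.S (hinv Gen.b) (F_6266 IH)
theorem F_6268 (IH : D.IHyp) : ed Gen.d V_1122 = V_1122 :=
  gap_rel RW_9 (path_edge (F_6266 IH) (path_edge (F_6240 IH) (path_edge (F_6267 IH) (path_nil _))))
theorem F_6269 (IH : D.IHyp) : ed Gen.e V_1122 = V_1122 :=
  gap_rel RW_12 (path_edge (F_6266 IH) (path_edge (F_6242 IH) (path_edge (F_6267 IH) (path_nil _))))
theorem F_6270 (IH : D.IHyp) : ed Gen.g V_1122 = V_1122 :=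
  gap_rel RW_6 (path_edge (F_6266 IH) (path_edge (F_5586 IH) (path_edge (F_6267 IH) (path_nil _))))
theorem F_6271 (IH : D.IHyp) : ed Gen.h V_1122 = V_1122 :=
  gap_rel RW_7 (path_edge (F_6266 IH) (path_edge (F_6246 IH) (path_edge (F_6267 IH) (path_nil _))))
theorem F_6274 (IH : D.IHyp) : ed Gen.f V_1122 = V_1123 :=
  rfl
theorem F_6275 (IH : D.IHyp) : ed Gen.f V_1123 = V_1122 :=
  flipE D.rels D.S (hinv Gen.f) (F_6274 IH)
theorem F_6278 (IH : D.IHyp) : ed Gen.d V_1123 = V_1123 :=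
  gap_rel RW_40 (path_edge (F_6274 IH) (path_edge (F_6268 IH) (path_edge (F_6275 IH) (path_nil _))))
theorem F_6280 (IH : D.IHyp) : ed Gen.e V_1123 = V_1124 :=
  rfl
theorem F_6281 (IH : D.IHyp) : ed Gen.e V_1124 = V_1123 :=
  flipE D.rels D.S (hinv Gen.e) (F_6280 IH)
theorem F_6285 (IH : D.IHyp) : ed Gen.f V_1124 = V_1124 :=
  gap_rel RW_38 (path_edge (F_6280 IH) (path_edge (F_6274 IH) (path_edge (F_6269 IH) (path_edge (F_6275 IH) (path_edge (F_6281 IH) (path_nil _))))))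
theorem F_6286 (IH : D.IHyp) : ed Gen.d V_1124 = V_1125 :=
  rfl
theorem F_6287 (IH : D.IHyp) : ed Gen.d V_1125 = V_1124 :=
  flipE D.rels D.S (hinv Gen.d) (F_6286 IH)
theorem F_6288 (IH : D.IHyp) : ed Gen.f V_1125 = V_1125 :=
  gap_rel RW_27 (path_edge (F_6286 IH) (path_edge (F_6285 IH) (path_edge (F_6287 IH) (path_nil _))))
theorem F_6289 (IH : D.IHyp) : ed Gen.e V_1125 = V_1125 :=
  gap_rel RW_21 (path_edge (F_6286 IH) (path_edge (F_6280 IH) (path_edge (F_6278 IH) (path_edge (F_6281 IH) (path_edge (F_6287 IH) (path_nil _))))))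
theorem F_6290 (IH : D.IHyp) : ed Gen.c V_1125 = V_1126 :=
  rfl
theorem F_6291 (IH : D.IHyp) : ed Gen.c V_1126 = V_1125 :=
  flipE D.rels D.S (hinv Gen.c) (F_6290 IH)
theorem F_6292 (IH : D.IHyp) : ed Gen.e V_1126 = V_1126 :=
  gap_rel RW_43 (path_edge (F_6290 IH) (path_edge (F_6289 IH) (path_edge (F_6291 IH) (path_nil _))))
theorem F_6293 (IH : D.IHyp) : ed Gen.f V_1126 = V_1126 :=
  gap_rel RW_0 (path_edge (F_6290 IH) (path_edge (F_6288 IH) (path_edge (F_6291 IH) (path_nil _))))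
theorem F_6296 (IH : D.IHyp) : ed Gen.b V_1126 = V_1127 :=
  rfl
theorem F_6297 (IH : D.IHyp) : ed Gen.b V_1127 = V_1126 :=
  flipE D.rels D.S (hinv Gen.b) (F_6296 IH)
theorem F_6300 (IH : D.IHyp) : ed Gen.e V_1127 = V_1127 :=
  gap_rel RW_12 (path_edge (F_6296 IH) (path_edge (F_6292 IH) (path_edge (F_6297 IH) (path_nil _))))
theorem F_6301 (IH : D.IHyp) : ed Gen.f V_1127 = V_1127 :=
  gap_rel RW_5 (path_edge (F_6296 IH) (path_edge (F_6293 IH) (path_edge (F_6297 IH) (path_nil _))))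
theorem F_6302 (IH : D.IHyp) : ed Gen.h V_1127 = V_1128 :=
  rfl
theorem F_6303 (IH : D.IHyp) : ed Gen.h V_1128 = V_1127 :=
  flipE D.rels D.S (hinv Gen.h) (F_6302 IH)
theorem F_6304 (IH : D.IHyp) : ed Gen.e V_1128 = V_1128 :=
  gap_rel RW_42 (path_edge (F_6302 IH) (path_edge (F_6300 IH) (path_edge (F_6303 IH) (path_nil _))))
theorem F_6305 (IH : D.IHyp) : ed Gen.f V_1128 = V_1128 :=
  gap_rel RW_35 (path_edge (F_6302 IH) (path_edge (F_6301 IH) (path_edge (F_6303 IH) (path_nil _))))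
theorem F_6306 (IH : D.IHyp) : ed Gen.g V_1128 = V_1129 :=
  rfl
theorem F_6307 (IH : D.IHyp) : ed Gen.g V_1129 = V_1128 :=
  flipE D.rels D.S (hinv Gen.g) (F_6306 IH)
theorem F_6308 (IH : D.IHyp) : ed Gen.e V_1129 = V_1129 :=
  gap_rel RW_17 (path_edge (F_6306 IH) (path_edge (F_6304 IH) (path_edge (F_6307 IH) (path_nil _))))
theorem F_6309 (IH : D.IHyp) : ed Gen.f V_1129 = V_1130 :=
  rfl
theorem F_6310 (IH : D.IHyp) : ed Gen.f V_1130 = V_1129 :=
  flipE D.rels D.S (hinv Gen.f) (F_6309 IH)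
theorem F_6311 (IH : D.IHyp) : ed Gen.g V_1130 = V_1130 :=
  gap_rel RW_25 (path_edge (F_6309 IH) (path_edge (F_6306 IH) (path_edge (F_6305 IH) (path_edge (F_6307 IH) (path_edge (F_6310 IH) (path_nil _))))))
theorem F_6312 (IH : D.IHyp) : ed Gen.e V_1130 = V_1131 :=
  rfl
theorem F_6313 (IH : D.IHyp) : ed Gen.e V_1131 = V_1130 :=
  flipE D.rels D.S (hinv Gen.e) (F_6312 IH)
theorem F_6314 (IH : D.IHyp) : ed Gen.g V_1131 = V_1131 :=
  gap_rel RW_14 (path_edge (F_6312 IH) (path_edge (F_6311 IH) (path_edge (F_6313 IH) (path_nil _))))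
theorem F_6315 (IH : D.IHyp) : ed Gen.f V_1131 = V_1131 :=
  gap_rel RW_38 (path_edge (F_6312 IH) (path_edge (F_6309 IH) (path_edge (F_6308 IH) (path_edge (F_6310 IH) (path_edge (F_6313 IH) (path_nil _))))))
theorem F_6316 (IH : D.IHyp) : ed Gen.d V_1131 = V_1132 :=
  rfl
theorem F_6317 (IH : D.IHyp) : ed Gen.d V_1132 = V_1131 :=
  flipE D.rels D.S (hinv Gen.d) (F_6316 IH)
theorem F_6318 (IH : D.IHyp) : ed Gen.f V_1132 = V_1132 :=
  gap_rel RW_27 (path_edge (F_6316 IH) (path_edge (F_6315 IH) (path_edge (F_6317 IH) (path_nil _))))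
theorem F_6319 (IH : D.IHyp) : ed Gen.g V_1132 = V_1132 :=
  gap_rel RW_28 (path_edge (F_6316 IH) (path_edge (F_6314 IH) (path_edge (F_6317 IH) (path_nil _))))
theorem F_6320 (IH : D.IHyp) : ed Gen.c V_1132 = V_1133 :=
  rfl
theorem F_6321 (IH : D.IHyp) : ed Gen.c V_1133 = V_1132 :=
  flipE D.rels D.S (hinv Gen.c) (F_6320 IH)
theorem F_6322 (IH : D.IHyp) : ed Gen.f V_1133 = V_1133 :=
  gap_rel RW_0 (path_edge (F_6320 IH) (path_edge (F_6318 IH) (path_edge (F_6321 IH) (path_nil _))))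
theorem F_6323 (IH : D.IHyp) : ed Gen.g V_1133 = V_1133 :=
  gap_rel RW_1 (path_edge (F_6320 IH) (path_edge (F_6319 IH) (path_edge (F_6321 IH) (path_nil _))))
theorem F_6324 (IH : D.IHyp) : ed Gen.b V_1133 = V_1134 :=
  rfl
theorem F_6325 (IH : D.IHyp) : ed Gen.b V_1134 = V_1133 :=
  flipE D.rels D.S (hinv Gen.b) (F_6324 IH)
theorem F_6326 (IH : D.IHyp) : ed Gen.f V_1134 = V_1134 :=
  gap_rel RW_5 (path_edge (F_6324 IH) (path_edge (F_6322 IH) (path_edge (F_6325 IH) (path_nil _))))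
theorem F_6327 (IH : D.IHyp) : ed Gen.g V_1134 = V_1134 :=
  gap_rel RW_6 (path_edge (F_6324 IH) (path_edge (F_6323 IH) (path_edge (F_6325 IH) (path_nil _))))
theorem F_6328 (IH : D.IHyp) : ed Gen.h V_1134 = V_1135 :=
  rfl
theorem F_6329 (IH : D.IHyp) : ed Gen.h V_1135 = V_1134 :=
  flipE D.rels D.S (hinv Gen.h) (F_6328 IH)
theorem F_6330 (IH : D.IHyp) : ed Gen.f V_1135 = V_1135 :=
  gap_rel RW_35 (path_edge (F_6328 IH) (path_edge (F_6326 IH) (path_edge (F_6329 IH) (path_nil _))))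
theorem F_6331 (IH : D.IHyp) : ed Gen.g V_1135 = V_1135 :=
  gap_rel RW_41 (path_edge (F_6328 IH) (path_edge (F_6327 IH) (path_edge (F_6329 IH) (path_nil _))))
theorem F_6332 (IH : D.IHyp) : ed Gen.e V_1135 = V_1136 :=
  rfl
theorem F_6333 (IH : D.IHyp) : ed Gen.e V_1136 = V_1135 :=
  flipE D.rels D.S (hinv Gen.e) (F_6332 IH)
theorem F_6334 (IH : D.IHyp) : ed Gen.g V_1136 = V_1136 :=
  gap_rel RW_14 (path_edge (F_6332 IH) (path_edge (F_6331 IH) (path_edge (F_6333 IH) (path_nil _))))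
theorem F_6335 (IH : D.IHyp) : ed Gen.d V_1136 = V_1137 :=
  rfl
theorem F_6336 (IH : D.IHyp) : ed Gen.d V_1137 = V_1136 :=
  flipE D.rels D.S (hinv Gen.d) (F_6335 IH)
theorem F_6337 (IH : D.IHyp) : ed Gen.g V_1137 = V_1137 :=
  gap_rel RW_28 (path_edge (F_6335 IH) (path_edge (F_6334 IH) (path_edge (F_6336 IH) (path_nil _))))
theorem F_6338 (IH : D.IHyp) : ed Gen.c V_1137 = V_1138 :=
  rfl
theorem F_6339 (IH : D.IHyp) : ed Gen.c V_1138 = V_1137 :=
  flipE D.rels D.S (hinv Gen.c) (F_6338 IH)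
theorem F_6340 (IH : D.IHyp) : ed Gen.g V_1138 = V_1138 :=
  gap_rel RW_1 (path_edge (F_6338 IH) (path_edge (F_6337 IH) (path_edge (F_6339 IH) (path_nil _))))
theorem F_6341 (IH : D.IHyp) : ed Gen.b V_1138 = V_1139 :=
  rfl
theorem F_6342 (IH : D.IHyp) : ed Gen.b V_1139 = V_1138 :=
  flipE D.rels D.S (hinv Gen.b) (F_6341 IH)
theorem F_6343 (IH : D.IHyp) : ed Gen.g V_1139 = V_1139 :=
  gap_rel RW_6 (path_edge (F_6341 IH) (path_edge (F_6340 IH) (path_edge (F_6342 IH) (path_nil _))))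
theorem F_6344 (IH : D.IHyp) : ed Gen.h V_1139 = V_1140 :=
  rfl
theorem F_6345 (IH : D.IHyp) : ed Gen.h V_1140 = V_1139 :=
  flipE D.rels D.S (hinv Gen.h) (F_6344 IH)
theorem F_6346 (IH : D.IHyp) : ed Gen.g V_1140 = V_1140 :=
  gap_rel RW_41 (path_edge (F_6344 IH) (path_edge (F_6343 IH) (path_edge (F_6345 IH) (path_nil _))))
theorem F_6347 (IH : D.IHyp) : ed Gen.f V_1140 = V_1141 :=
  rfl
theorem F_6348 (IH : D.IHyp) : ed Gen.f V_1141 = V_1140 :=
  flipE D.rels D.S (hinv Gen.f) (F_6347 IH)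
theorem F_6349 (IH : D.IHyp) : ed Gen.e V_1141 = V_1142 :=
  rfl
theorem F_6350 (IH : D.IHyp) : ed Gen.e V_1142 = V_1141 :=
  flipE D.rels D.S (hinv Gen.e) (F_6349 IH)
theorem F_6351 (IH : D.IHyp) : ed Gen.d V_1142 = V_1143 :=
  rfl
theorem F_6352 (IH : D.IHyp) : ed Gen.d V_1143 = V_1142 :=
  flipE D.rels D.S (hinv Gen.d) (F_6351 IH)
theorem F_6353 (IH : D.IHyp) : ed Gen.c V_1143 = V_1144 :=
  rfl
theorem F_6354 (IH : D.IHyp) : ed Gen.c V_1144 = V_1143 :=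
  flipE D.rels D.S (hinv Gen.c) (F_6353 IH)
theorem F_6355 (IH : D.IHyp) : ed Gen.b V_1144 = V_1145 :=
  rfl
theorem F_6356 (IH : D.IHyp) : ed Gen.b V_1145 = V_1144 :=
  flipE D.rels D.S (hinv Gen.b) (F_6355 IH)
theorem F_6357 (IH : D.IHyp) : ed Gen.h V_1145 = V_1146 :=
  rfl
theorem F_6358 (IH : D.IHyp) : ed Gen.h V_1146 = V_1145 :=
  flipE D.rels D.S (hinv Gen.h) (F_6357 IH)
theorem F_6359 (IH : D.IHyp) : ed Gen.g V_485 = V_1146 :=
  gap_rel RW_61 (path_edge (F_6061 IH) (path_edge (F_6067 IH) (path_edge (F_2008 IH) (path_edge (F_3492 IH) (path_edge (F_3489 IH) (path_edge (F_664 IH) (path_edge (F_658 IH) (path_edge (F_918 IH) (path_edge (F_921 IH) (path_edge (F_3122 IH) (path_edge (F_3128 IH) (path_edge (F_3177 IH) (path_edge (F_3183 IH) (path_edge (F_3188 IH) (path_edge (F_3186 IH) (path_edge (F_2507 IH) (path_edge (F_2508 IH) (path_edge (F_3694 IH) (path_edge (F_3692 IH) (path_edge (F_3710 IH) (path_edge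 (F_2535 IH) (path_edge (F_2534 IH) (path_edge (F_2533 IH) (path_edge (F_6215 IH) (path_edge (F_6221 IH) (path_edge (F_2005 IH) (path_edge (F_1965 IH) (path_edge (F_5185 IH) (path_edge (F_5176 IH) (path_edge (F_6226 IH) (path_edge (F_6233 IH) (path_edge (F_6235 IH) (path_edge (F_6267 IH) (path_edge (F_6271 IH) (path_edge (F_6270 IH) (path_edge (F_6275 IH) (path_edge (F_6281 IH) (path_edge (F_6287 IH) (path_edge (F_6291 IH) (path_edge (F_6297 IH) (path_edge (F_6303 IH) (path_edge (F_6307 IH) (path_edge (F_6310 IH) (path_edge (F_6313 IH) (path_edge (F_6317 IH) (path_edge (F_6321 IH) (path_edge (F_6325 IH) (path_edge (F_6329 IH) (path_edge (F_6331 IH) (path_edge (F_6330 IH) (path_edge (F_6333 IH) (path_edge (F_6336 IH) (path_edge (F_6339 IH) (path_edge (F_6342 IH) (path_edge (F_6345 IH) (path_edge (F_6346 IH) (path_edge (F_6348 IH) (path_edge (F_6350 IH) (path_edge (F_6352 IH) (path_edge (F_6354 IH) (path_edge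 (F_6356 IH) (path_edge (F_6358 IH) (path_nil _)))))))))))))))))))))))))))))))))))))))))))))))))))))))))))))))
theorem F_6361 (IH : D.IHyp) : ed Gen.b V_1146 = (D.P 203) :=
  gap_rel RW_32 (path_edge (F_6359 IH) (path_edge (F_2836 IH) (path_edge (F_2851 IH) (path_nil _))))
theorem F_6363 (IH : D.IHyp) : ed Gen.h V_644 = V_1146 :=
  gap_rel RW_7 (path_edge (F_3651 IH) (path_edge (F_563 IH) (path_edge (F_6361 IH) (path_nil _))))
theorem F_6364 (IH : D.IHyp) : ed Gen.h V_1146 = V_644 :=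
  flipE D.rels D.S (hinv Gen.h) (F_6363 IH)
theorem F_6365 (IH : D.IHyp) : V_1145 = V_644 :=
  edge_fun (F_6358 IH) (F_6364 IH)
theorem F_6366 (IH : D.IHyp) : ed Gen.b V_644 = V_1144 :=
  edge_congr (F_6356 IH) (F_6365 IH)
theorem F_6367 (IH : D.IHyp) : (D.P 233) = V_1144 :=
  edge_fun (F_3652 IH) (F_6366 IH)
theorem F_6371 (IH : D.IHyp) : V_1144 = (D.P 233) :=
  (F_6367 IH).symm
theorem F_6373 (IH : D.IHyp) : ed Gen.c (D.P 233) = V_1143 :=
  edge_congr (F_6354 IH) (F_6371 IH)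
theorem F_6374 (IH : D.IHyp) : (D.P 233) = V_1143 :=
  edge_fun (F_2865 IH) (F_6373 IH)
theorem F_6376 (IH : D.IHyp) : V_1143 = (D.P 233) :=
  (F_6374 IH).symm
theorem F_6378 (IH : D.IHyp) : ed Gen.d (D.P 233) = V_1142 :=
  edge_congr (F_6352 IH) (F_6376 IH)
theorem F_6379 (IH : D.IHyp) : (D.P 252) = V_1142 :=
  edge_fun (F_1459 IH) (F_6378 IH)
theorem F_6381 (IH : D.IHyp) : V_1142 = (D.P 252) :=
  (F_6379 IH).symm
theorem F_6383 (IH : D.IHyp) : ed Gen.e (D.P 252) = V_1141 :=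
  edge_congr (F_6350 IH) (F_6381 IH)
theorem F_6384 (IH : D.IHyp) : (D.P 280) = V_1141 :=
  edge_fun (F_2899 IH) (F_6383 IH)
theorem F_6386 (IH : D.IHyp) : V_1141 = (D.P 280) :=
  (F_6384 IH).symm
theorem F_6388 (IH : D.IHyp) : ed Gen.f (D.P 280) = V_1140 :=
  edge_congr (F_6348 IH) (F_6386 IH)
theorem F_6389 (IH : D.IHyp) : (D.P 308) = V_1140 :=
  edge_fun (F_1581 IH) (F_6388 IH)
theorem F_6391 (IH : D.IHyp) : V_1140 = (D.P 308) :=
  (F_6389 IH).symm
theorem F_6395 (IH : D.IHyp) : ed Gen.h (D.P 308) = V_1139 :=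
  edge_congr (F_6345 IH) (F_6391 IH)
theorem F_6396 (IH : D.IHyp) : (D.P 279) = V_1139 :=
  edge_fun (F_3659 IH) (F_6395 IH)
theorem F_6398 (IH : D.IHyp) : V_1139 = (D.P 279) :=
  (F_6396 IH).symm
theorem F_6399 (IH : D.IHyp) : ed Gen.b (D.P 279) = V_1138 :=
  edge_congr (F_6342 IH) (F_6398 IH)
theorem F_6400 (IH : D.IHyp) : (D.P 307) = V_1138 :=
  edge_fun (F_2265 IH) (F_6399 IH)
theorem F_6405 (IH : D.IHyp) : V_1138 = (D.P 307) :=
  (F_6400 IH).symm
theorem F_6407 (IH : D.IHyp) : ed Gen.c (D.P 307) = V_1137 :=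
  edge_congr (F_6339 IH) (F_6405 IH)
theorem F_6408 (IH : D.IHyp) : ed Gen.c V_1137 = (D.P 307) :=
  flipE D.rels D.S (hinv Gen.c) (F_6407 IH)
theorem F_6417 (IH : D.IHyp) : ed Gen.e V_1137 = V_787 :=
  gap_rel RW_43 (path_edge (F_6407 IH) (path_edge (F_4767 IH) (path_edge (F_4614 IH) (path_nil _))))
theorem F_6418 (IH : D.IHyp) : ed Gen.e V_787 = V_1137 :=
  flipE D.rels D.S (hinv Gen.e) (F_6417 IH)
theorem F_6419 (IH : D.IHyp) : ed Gen.b (D.P 343) = V_1137 :=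
  gap_rel RW_19 (path_edge (F_2222 IH) (path_edge (F_1866 IH) (path_edge (F_1865 IH) (path_edge (F_2272 IH) (path_edge (F_6408 IH) (path_nil _))))))
theorem F_6420 (IH : D.IHyp) : ed Gen.b V_1137 = (D.P 343) :=
  flipE D.rels D.S (hinv Gen.b) (F_6419 IH)
theorem F_6421 (IH : D.IHyp) : ed Gen.c V_1136 = (D.P 341) :=
  gap_rel RW_20 (path_edge (F_6336 IH) (path_edge (F_6407 IH) (path_edge (F_1557 IH) (path_edge (F_1556 IH) (path_edge (F_2614 IH) (path_nil _))))))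
theorem F_6423 (IH : D.IHyp) : ed Gen.b (D.P 354) = V_1136 :=
  gap_rel RW_26 (path_edge (F_4727 IH) (path_edge (F_6420 IH) (path_edge (F_6335 IH) (path_nil _))))
theorem F_6424 (IH : D.IHyp) : ed Gen.b V_1136 = (D.P 354) :=
  flipE D.rels D.S (hinv Gen.b) (F_6423 IH)
theorem F_6425 (IH : D.IHyp) : ed Gen.d V_1135 = V_785 :=
  gap_rel RW_15 (path_edge (F_6333 IH) (path_edge (F_6336 IH) (path_edge (F_6418 IH) (path_edge (F_4611 IH) (path_edge (F_4607 IH) (path_nil _))))))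
theorem F_6426 (IH : D.IHyp) : ed Gen.d V_785 = V_1135 :=
  flipE D.rels D.S (hinv Gen.d) (F_6425 IH)
theorem F_6427 (IH : D.IHyp) : ed Gen.b (D.P 361) = V_1135 :=
  gap_rel RW_30 (path_edge (F_4728 IH) (path_edge (F_6424 IH) (path_edge (F_6332 IH) (path_nil _))))
theorem F_6428 (IH : D.IHyp) : ed Gen.b V_1135 = (D.P 361) :=
  flipE D.rels D.S (hinv Gen.b) (F_6427 IH)
theorem F_6429 (IH : D.IHyp) : ed Gen.c (D.P 353) = V_1135 :=
  gap_rel RW_13 (path_edge (F_713 IH) (path_edge (F_6421 IH) (path_edge (F_6332 IH) (path_nil _))))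
theorem F_6432 (IH : D.IHyp) : ed Gen.h (D.P 361) = V_1133 :=
  gap_rel RW_7 (path_edge (F_6428 IH) (path_edge (F_6328 IH) (path_edge (F_6324 IH) (path_nil _))))
theorem F_6433 (IH : D.IHyp) : ed Gen.h V_1133 = (D.P 361) :=
  flipE D.rels D.S (hinv Gen.h) (F_6432 IH)
theorem F_6434 (IH : D.IHyp) : ed Gen.h V_1132 = (D.P 361) :=
  gap_rel RW_2 (path_edge (F_6321 IH) (path_edge (F_6432 IH) (path_edge (F_4790 IH) (path_nil _))))
theorem F_6435 (IH : D.IHyp) : ed Gen.h (D.P 361) = V_1132 :=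
  flipE D.rels D.S (hinv Gen.h) (F_6434 IH)
theorem F_6436 (IH : D.IHyp) : V_1133 = V_1132 :=
  edge_fun (F_6432 IH) (F_6435 IH)
theorem F_6437 (IH : D.IHyp) : ed Gen.b V_1132 = V_1134 :=
  edge_congr (F_6324 IH) (F_6436 IH)
theorem F_6438 (IH : D.IHyp) : ed Gen.b V_1134 = V_1132 :=
  flipE D.rels D.S (hinv Gen.b) (F_6437 IH)
theorem F_6439 (IH : D.IHyp) : ed Gen.c V_1132 = V_1132 :=
  edge_congr (F_6321 IH) (F_6436 IH)
theorem F_6444 (IH : D.IHyp) : ed Gen.h V_1132 = (D.P 361) :=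
  edge_congr (F_6433 IH) (F_6436 IH)
theorem F_6445 (IH : D.IHyp) : ed Gen.h (D.P 361) = V_1132 :=
  flipE D.rels D.S (hinv Gen.h) (F_6444 IH)
theorem F_7547 (IH : D.IHyp) : ed Gen.i (D.P 208) = V_1352 :=
  rfl
theorem F_7548 (IH : D.IHyp) : ed Gen.i V_1352 = (D.P 208) :=
  flipE D.rels D.S (hinv Gen.i) (F_7547 IH)
theorem F_7549 (IH : D.IHyp) : ed Gen.c V_490 = V_1352 :=
  gap_rel RW_52 (path_edge (F_2952 IH) (path_edge (F_1848 IH) (path_edge (F_7548 IH) (path_nil _))))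
theorem F_7550 (IH : D.IHyp) : ed Gen.c V_1352 = V_490 :=
  flipE D.rels D.S (hinv Gen.c) (F_7549 IH)
theorem F_7555 (IH : D.IHyp) : ed Gen.h V_1352 = V_1353 :=
  rfl
theorem F_7556 (IH : D.IHyp) : ed Gen.h V_1353 = V_1352 :=
  flipE D.rels D.S (hinv Gen.h) (F_7555 IH)
theorem F_7557 (IH : D.IHyp) : ed Gen.c V_491 = V_1353 :=
  gap_rel RW_51 (path_edge (F_2955 IH) (path_edge (F_7550 IH) (path_edge (F_7556 IH) (path_nil _))))
theorem F_7558 (IH : D.IHyp) : ed Gen.c V_1353 = V_491 :=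
  flipE D.rels D.S (hinv Gen.c) (F_7557 IH)
theorem F_7562 (IH : D.IHyp) : ed Gen.i V_1353 = V_853 :=
  gap_rel RW_45 (path_edge (F_7555 IH) (path_edge (F_7547 IH) (path_edge (F_407 IH) (path_edge (F_406 IH) (path_edge (F_5201 IH) (path_nil _))))))
theorem F_7563 (IH : D.IHyp) : ed Gen.i V_853 = V_1353 :=
  flipE D.rels D.S (hinv Gen.i) (F_7562 IH)
theorem F_7564 (IH : D.IHyp) : ed Gen.d V_1353 = V_1354 :=
  rfl
theorem F_7565 (IH : D.IHyp) : ed Gen.d V_1354 = V_1353 :=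
  flipE D.rels D.S (hinv Gen.d) (F_7564 IH)
theorem F_7566 (IH : D.IHyp) : ed Gen.i V_1354 = V_852 :=
  gap_rel RW_29 (path_edge (F_7564 IH) (path_edge (F_7563 IH) (path_edge (F_5193 IH) (path_nil _))))
theorem F_7567 (IH : D.IHyp) : ed Gen.i V_852 = V_1354 :=
  flipE D.rels D.S (hinv Gen.i) (F_7566 IH)
theorem F_7570 (IH : D.IHyp) : ed Gen.f V_1354 = V_686 :=
  gap_rel RW_48 (path_edge (F_7567 IH) (path_edge (F_5192 IH) (path_edge (F_3937 IH) (path_nil _))))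
theorem F_7571 (IH : D.IHyp) : ed Gen.f V_686 = V_1354 :=
  flipE D.rels D.S (hinv Gen.f) (F_7570 IH)
theorem F_7572 (IH : D.IHyp) : ed Gen.f V_1353 = V_687 :=
  gap_rel RW_27 (path_edge (F_7565 IH) (path_edge (F_7571 IH) (path_edge (F_3941 IH) (path_nil _))))
theorem F_7573 (IH : D.IHyp) : ed Gen.f V_687 = V_1353 :=
  flipE D.rels D.S (hinv Gen.f) (F_7572 IH)
theorem F_7574 (IH : D.IHyp) : ed Gen.c V_492 = V_687 :=
  gap_rel RW_50 (path_edge (F_2974 IH) (path_edge (F_7558 IH) (path_edge (F_7573 IH) (path_nil _))))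
theorem F_7575 (IH : D.IHyp) : ed Gen.c V_687 = V_492 :=
  flipE D.rels D.S (hinv Gen.c) (F_7574 IH)
theorem F_7576 (IH : D.IHyp) : V_688 = V_492 :=
  edge_fun (F_3942 IH) (F_7575 IH)
theorem F_7577 (IH : D.IHyp) : ed Gen.b V_492 = V_689 :=
  edge_congr (F_3945 IH) (F_7576 IH)
theorem F_7583 (IH : D.IHyp) : ed Gen.b V_690 = V_493 :=
  gap_rel RW_30 (path_edge (F_3948 IH) (path_edge (F_7577 IH) (path_edge (F_2992 IH) (path_nil _))))
theorem F_7584 (IH : D.IHyp) : ed Gen.b V_493 = V_690 :=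
  flipE D.rels D.S (hinv Gen.b) (F_7583 IH)
theorem F_7585 (IH : D.IHyp) : ed Gen.d V_495 = V_690 :=
  gap_rel RW_9 (path_edge (F_3014 IH) (path_edge (F_3000 IH) (path_edge (F_7583 IH) (path_nil _))))
theorem F_7586 (IH : D.IHyp) : ed Gen.d V_690 = V_495 :=
  flipE D.rels D.S (hinv Gen.d) (F_7585 IH)
theorem F_7587 (IH : D.IHyp) : V_690 = V_691 :=
  loop_rel RW_5 (path_edge (F_3950 IH) (path_edge (F_7584 IH) (path_edge (F_2995 IH) (path_edge (F_7583 IH) (path_nil _)))))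
theorem F_7588 (IH : D.IHyp) : V_691 = V_690 :=
  (F_7587 IH).symm
theorem F_7589 (IH : D.IHyp) : ed Gen.d V_690 = V_692 :=
  edge_congr (F_3952 IH) (F_7588 IH)
theorem F_7590 (IH : D.IHyp) : V_495 = V_692 :=
  edge_fun (F_7586 IH) (F_7589 IH)
theorem F_7593 (IH : D.IHyp) : V_692 = V_495 :=
  (F_7590 IH).symm
theorem F_7595 (IH : D.IHyp) : ed Gen.h V_495 = V_693 :=
  edge_congr (F_3954 IH) (F_7593 IH)
theorem F_7596 (IH : D.IHyp) : V_495 = V_693 :=
  edge_fun (F_3018 IH) (F_7595 IH)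
theorem F_7598 (IH : D.IHyp) : V_693 = V_495 :=
  (F_7596 IH).symm
theorem F_7600 (IH : D.IHyp) : ed Gen.i V_495 = V_694 :=
  edge_congr (F_3956 IH) (F_7598 IH)
theorem F_7601 (IH : D.IHyp) : ed Gen.i V_694 = V_495 :=
  flipE D.rels D.S (hinv Gen.i) (F_7600 IH)
theorem F_7602 (IH : D.IHyp) : ed Gen.i V_695 = V_690 :=
  gap_rel RW_29 (path_edge (F_3958 IH) (path_edge (F_7600 IH) (path_edge (F_7586 IH) (path_nil _))))
theorem F_7603 (IH : D.IHyp) : ed Gen.i V_690 = V_695 :=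
  flipE D.rels D.S (hinv Gen.i) (F_7602 IH)
theorem F_7605 (IH : D.IHyp) : ed Gen.b V_695 = (D.P 276) :=
  gap_rel RW_62 (path_edge (F_7603 IH) (path_edge (F_7584 IH) (path_edge (F_2994 IH) (path_nil _))))
theorem F_7606 (IH : D.IHyp) : ed Gen.b (D.P 276) = V_695 :=
  flipE D.rels D.S (hinv Gen.b) (F_7605 IH)
theorem F_7607 (IH : D.IHyp) : ed Gen.b (D.P 306) = V_694 :=
  gap_rel RW_62 (path_edge (F_3003 IH) (path_edge (F_3015 IH) (path_edge (F_7601 IH) (path_nil _))))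
theorem F_7608 (IH : D.IHyp) : ed Gen.b V_694 = (D.P 306) :=
  flipE D.rels D.S (hinv Gen.b) (F_7607 IH)
theorem F_7611 (IH : D.IHyp) : ed Gen.h (D.P 317) = V_694 :=
  gap_rel RW_7 (path_edge (F_967 IH) (path_edge (F_2245 IH) (path_edge (F_7608 IH) (path_nil _))))
theorem F_8398 (IH : D.IHyp) : ed Gen.h (D.P 353) = V_1552 :=
  rfl
theorem F_8399 (IH : D.IHyp) : ed Gen.h V_1552 = (D.P 353) :=
  flipE D.rels D.S (hinv Gen.h) (F_8398 IH)
theorem F_8400 (IH : D.IHyp) : ed Gen.b V_1552 = V_1552 :=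
  gap_rel RW_34 (path_edge (F_8398 IH) (path_edge (F_4533 IH) (path_edge (F_8399 IH) (path_nil _))))
theorem F_8401 (IH : D.IHyp) : ed Gen.c V_1134 = V_1552 :=
  gap_rel RW_51 (path_edge (F_6329 IH) (path_edge (F_6429 IH) (path_edge (F_8399 IH) (path_nil _))))
theorem F_8405 (IH : D.IHyp) : ed Gen.d V_1134 = V_1553 :=
  rfl
theorem F_8406 (IH : D.IHyp) : ed Gen.d V_1553 = V_1134 :=
  flipE D.rels D.S (hinv Gen.d) (F_8405 IH)
theorem F_8407 (IH : D.IHyp) : ed Gen.b V_1131 = V_1553 :=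
  gap_rel RW_26 (path_edge (F_6317 IH) (path_edge (F_6438 IH) (path_edge (F_8406 IH) (path_nil _))))
theorem F_8408 (IH : D.IHyp) : ed Gen.b V_1553 = V_1131 :=
  flipE D.rels D.S (hinv Gen.b) (F_8407 IH)
theorem F_8411 (IH : D.IHyp) : ed Gen.e V_1553 = V_1554 :=
  rfl
theorem F_8412 (IH : D.IHyp) : ed Gen.e V_1554 = V_1553 :=
  flipE D.rels D.S (hinv Gen.e) (F_8411 IH)
theorem F_8413 (IH : D.IHyp) : ed Gen.b V_1130 = V_1554 :=
  gap_rel RW_30 (path_edge (F_6313 IH) (path_edge (F_8408 IH) (path_edge (F_8412 IH) (path_nil _))))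
theorem F_8414 (IH : D.IHyp) : ed Gen.b V_1554 = V_1130 :=
  flipE D.rels D.S (hinv Gen.b) (F_8413 IH)
theorem F_8416 (IH : D.IHyp) : ed Gen.f V_1554 = V_1555 :=
  rfl
theorem F_8417 (IH : D.IHyp) : ed Gen.f V_1555 = V_1554 :=
  flipE D.rels D.S (hinv Gen.f) (F_8416 IH)
theorem F_8418 (IH : D.IHyp) : ed Gen.b V_1129 = V_1555 :=
  gap_rel RW_31 (path_edge (F_6310 IH) (path_edge (F_8414 IH) (path_edge (F_8417 IH) (path_nil _))))
theorem F_8419 (IH : D.IHyp) : ed Gen.b V_1555 = V_1129 :=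
  flipE D.rels D.S (hinv Gen.b) (F_8418 IH)
theorem F_8421 (IH : D.IHyp) : ed Gen.g V_1555 = V_1556 :=
  rfl
theorem F_8422 (IH : D.IHyp) : ed Gen.g V_1556 = V_1555 :=
  flipE D.rels D.S (hinv Gen.g) (F_8421 IH)
theorem F_8423 (IH : D.IHyp) : ed Gen.b V_1128 = V_1556 :=
  gap_rel RW_32 (path_edge (F_6307 IH) (path_edge (F_8419 IH) (path_edge (F_8422 IH) (path_nil _))))
theorem F_8424 (IH : D.IHyp) : ed Gen.b V_1556 = V_1128 :=
  flipE D.rels D.S (hinv Gen.b) (F_8423 IH)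
theorem F_8427 (IH : D.IHyp) : ed Gen.h V_1126 = V_1556 :=
  gap_rel RW_7 (path_edge (F_6297 IH) (path_edge (F_6303 IH) (path_edge (F_8424 IH) (path_nil _))))
theorem F_8429 (IH : D.IHyp) : ed Gen.c V_1127 = V_1557 :=
  rfl
theorem F_8430 (IH : D.IHyp) : ed Gen.c V_1557 = V_1127 :=
  flipE D.rels D.S (hinv Gen.c) (F_8429 IH)
theorem F_8433 (IH : D.IHyp) : ed Gen.d V_1557 = V_1558 :=
  rfl
theorem F_8434 (IH : D.IHyp) : ed Gen.d V_1558 = V_1557 :=
  flipE D.rels D.S (hinv Gen.d) (F_8433 IH)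
theorem F_8436 (IH : D.IHyp) : ed Gen.e V_1558 = V_1559 :=
  rfl
theorem F_8437 (IH : D.IHyp) : ed Gen.e V_1559 = V_1558 :=
  flipE D.rels D.S (hinv Gen.e) (F_8436 IH)
theorem F_8439 (IH : D.IHyp) : ed Gen.f V_779 = V_1559 :=
  gap_rel RW_63 (path_edge (F_4562 IH) (path_edge (F_724 IH) (path_edge (F_723 IH) (path_edge (F_327 IH) (path_edge (F_722 IH) (path_edge (F_721 IH) (path_edge (F_720 IH) (path_edge (F_719 IH) (path_edge (F_718 IH) (path_edge (F_717 IH) (path_edge (F_506 IH) (path_edge (F_239 IH) (path_edge (F_716 IH) (path_edge (F_361 IH) (path_edge (F_670 IH) (path_edge (F_672 IH) (path_edge (F_674 IH) (path_edge (F_27 IH) (path_edge (F_173 IH) (path_edge (F_171 IH) (path_edge (F_172 IH) (path_edge (F_2731 IH) (path_edge (F_143 IH) (path_edge (F_59 IH) (path_edge (F_343 IH) (path_edge (F_270 IH) (path_edge (F_390 IH) (path_edge (F_389 IH) (path_edge (F_699 IH) (path_edge (F_203 IH) (path_edge (F_145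 IH) (path_edge (F_906 IH) (path_edge (F_850 IH) (path_edge (F_1300 IH) (path_edge (F_1299 IH) (path_edge (F_1026 IH) (path_edge (F_2154 IH) (path_edge (F_703 IH) (path_edge (F_245 IH) (path_edge (F_1514 IH) (path_edge (F_4277 IH) (path_edge (F_2248 IH) (path_edge (F_708 IH) (path_edge (F_709 IH) (path_edge (F_578 IH) (path_edge (F_1556 IH) (path_edge (F_2614 IH) (path_edge (F_4543 IH) (path_edge (F_714 IH) (path_edge (F_715 IH) (path_edge (F_8399 IH) (path_edge (F_8400 IH) (path_edge (F_8401 IH) (path_edge (F_8406 IH) (path_edge (F_8412 IH) (path_edge (F_8417 IH) (path_edge (F_8422 IH) (path_edge (F_8427 IH) (path_edge (F_6297 IH) (path_edge (F_8430 IH) (path_edge (F_8434 IH) (path_edge (F_8437 IH) (path_nil _)))))))))))))))))))))))))))))))))))))))))))))))))))))))))))))))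
theorem F_8441 (IH : D.IHyp) : ed Gen.b V_1559 = (D.P 247) :=
  gap_rel RW_31 (path_edge (F_8439 IH) (path_edge (F_4559 IH) (path_edge (F_1283 IH) (path_nil _))))
theorem F_8442 (IH : D.IHyp) : ed Gen.b (D.P 247) = V_1559 :=
  flipE D.rels D.S (hinv Gen.b) (F_8441 IH)
theorem F_8447 (IH : D.IHyp) : ed Gen.b V_1558 = (D.P 276) :=
  gap_rel RW_30 (path_edge (F_8437 IH) (path_edge (F_8442 IH) (path_edge (F_2619 IH) (path_nil _))))
theorem F_8448 (IH : D.IHyp) : ed Gen.b (D.P 276) = V_1558 :=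
  flipE D.rels D.S (hinv Gen.b) (F_8447 IH)
theorem F_8449 (IH : D.IHyp) : V_695 = V_1558 :=
  edge_fun (F_7606 IH) (F_8448 IH)
theorem F_8450 (IH : D.IHyp) : V_1558 = V_695 :=
  (F_8449 IH).symm
theorem F_8452 (IH : D.IHyp) : ed Gen.d V_695 = V_1557 :=
  edge_congr (F_8434 IH) (F_8450 IH)
theorem F_8453 (IH : D.IHyp) : V_694 = V_1557 :=
  edge_fun (F_3959 IH) (F_8452 IH)
theorem F_8459 (IH : D.IHyp) : V_1557 = V_694 :=
  (F_8453 IH).symm
theorem F_8460 (IH : D.IHyp) : ed Gen.c V_694 = V_1127 :=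
  edge_congr (F_8430 IH) (F_8459 IH)
theorem F_8467 (IH : D.IHyp) : ed Gen.c V_1128 = (D.P 317) :=
  gap_rel RW_51 (path_edge (F_6302 IH) (path_edge (F_8460 IH) (path_edge (F_7611 IH) (path_nil _))))
theorem F_8469 (IH : D.IHyp) : ed Gen.i V_1127 = V_496 :=
  gap_rel RW_3 (path_edge (F_8460 IH) (path_edge (F_7600 IH) (path_edge (F_3020 IH) (path_nil _))))
theorem F_8470 (IH : D.IHyp) : ed Gen.i V_496 = V_1127 :=
  flipE D.rels D.S (hinv Gen.i) (F_8469 IH)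
theorem F_8487 (IH : D.IHyp) : ed Gen.i V_1128 = V_1128 :=
  gap_rel RW_45 (path_edge (F_6302 IH) (path_edge (F_8470 IH) (path_edge (F_3023 IH) (path_edge (F_8469 IH) (path_edge (F_6303 IH) (path_nil _))))))
theorem F_8489 (IH : D.IHyp) : ed Gen.c (D.P 338) = V_1129 :=
  gap_rel RW_16 (path_edge (F_4545 IH) (path_edge (F_8467 IH) (path_edge (F_6307 IH) (path_nil _))))
theorem F_8491 (IH : D.IHyp) : ed Gen.i V_1129 = V_1129 :=
  gap_rel RW_37 (path_edge (F_6306 IH) (path_edge (F_8487 IH) (path_edge (F_6307 IH) (path_nil _))))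
theorem F_8497 (IH : D.IHyp) : ed Gen.c V_1130 = (D.P 350) :=
  gap_rel RW_50 (path_edge (F_6309 IH) (path_edge (F_8489 IH) (path_edge (F_4273 IH) (path_nil _))))
theorem F_8509 (IH : D.IHyp) : ed Gen.b (D.P 359) = (D.P 352) :=
  D.real_edge' IH Gen.b 359 352 (by decide +kernel)
theorem F_8514 (IH : D.IHyp) : ed Gen.i V_1130 = V_1130 :=
  gap_rel RW_23 (path_edge (F_6309 IH) (path_edge (F_8491 IH) (path_edge (F_6310 IH) (path_nil _))))
theorem F_8546 (IH : D.IHyp) : ed Gen.c (D.P 359) = V_1131 :=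
  gap_rel RW_13 (path_edge (F_2207 IH) (path_edge (F_8497 IH) (path_edge (F_6313 IH) (path_nil _))))
theorem F_8547 (IH : D.IHyp) : ed Gen.c V_1131 = (D.P 359) :=
  flipE D.rels D.S (hinv Gen.c) (F_8546 IH)
theorem F_8548 (IH : D.IHyp) : ed Gen.i V_1131 = V_1131 :=
  gap_rel RW_11 (path_edge (F_6312 IH) (path_edge (F_8514 IH) (path_edge (F_6313 IH) (path_nil _))))
theorem F_8567 (IH : D.IHyp) : ed Gen.i V_1132 = V_1132 :=
  gap_rel RW_29 (path_edge (F_6316 IH) (path_edge (F_8548 IH) (path_edge (F_6317 IH) (path_nil _))))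
theorem F_8574 (IH : D.IHyp) : ed Gen.i V_784 = (D.P 361) :=
  gap_rel RW_45 (path_edge (F_4603 IH) (path_edge (F_4789 IH) (path_edge (F_6434 IH) (path_edge (F_8567 IH) (path_edge (F_6445 IH) (path_nil _))))))
theorem F_8575 (IH : D.IHyp) : ed Gen.i (D.P 361) = V_784 :=
  flipE D.rels D.S (hinv Gen.i) (F_8574 IH)
theorem F_8576 (IH : D.IHyp) : V_785 = V_784 :=
  edge_fun (F_4789 IH) (F_8575 IH)
theorem F_8579 (IH : D.IHyp) : ed Gen.d V_784 = V_1135 :=
  edge_congr (F_6426 IH) (F_8576 IH)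
theorem F_8580 (IH : D.IHyp) : ed Gen.d V_1135 = V_784 :=
  flipE D.rels D.S (hinv Gen.d) (F_8579 IH)
theorem F_8587 (IH : D.IHyp) : ed Gen.h V_784 = V_784 :=
  edge_congr (F_4603 IH) (F_8576 IH)
theorem F_8594 (IH : D.IHyp) : ed Gen.h V_1553 = V_1135 :=
  gap_rel RW_59 (path_edge (F_8405 IH) (path_edge (F_6329 IH) (path_edge (F_8579 IH) (path_edge (F_8587 IH) (path_edge (F_8580 IH) (path_nil _))))))
theorem F_8595 (IH : D.IHyp) : ed Gen.h V_1135 = V_1553 :=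
  flipE D.rels D.S (hinv Gen.h) (F_8594 IH)
theorem F_8596 (IH : D.IHyp) : V_1134 = V_1553 :=
  edge_fun (F_6329 IH) (F_8595 IH)
theorem F_8597 (IH : D.IHyp) : V_1553 = V_1134 :=
  (F_8596 IH).symm
theorem F_8598 (IH : D.IHyp) : ed Gen.b V_1134 = V_1131 :=
  edge_congr (F_8408 IH) (F_8597 IH)
theorem F_8599 (IH : D.IHyp) : V_1132 = V_1131 :=
  edge_fun (F_6438 IH) (F_8598 IH)
theorem F_8600 (IH : D.IHyp) : ed Gen.b V_1131 = V_1134 :=
  flipE D.rels D.S (hinv Gen.b) (F_8598 IH)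
theorem F_8613 (IH : D.IHyp) : ed Gen.c V_1132 = V_1131 :=
  (F_6439 IH).trans (F_8599 IH)
theorem F_8614 (IH : D.IHyp) : ed Gen.c V_1131 = V_1131 :=
  edge_congr (F_8613 IH) (F_8599 IH)
theorem F_8615 (IH : D.IHyp) : (D.P 359) = V_1131 :=
  edge_fun (F_8547 IH) (F_8614 IH)
theorem F_8627 (IH : D.IHyp) : V_1131 = (D.P 359) :=
  (F_8615 IH).symm
theorem F_8628 (IH : D.IHyp) : ed Gen.b (D.P 359) = V_1134 :=
  edge_congr (F_8600 IH) (F_8627 IH)
theorem F_8629 (IH : D.IHyp) : (D.P 352) = V_1134 :=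
  edge_fun (F_8509 IH) (F_8628 IH)
theorem F_8645 (IH : D.IHyp) : V_1134 = (D.P 352) :=
  (F_8629 IH).symm
theorem F_8659 (IH : D.IHyp) : ed Gen.h (D.P 352) = V_1135 :=
  edge_congr (F_6328 IH) (F_8645 IH)
theorem F_8660 (IH : D.IHyp) : (D.P 357) = V_1135 :=
  edge_fun (F_2764 IH) (F_8659 IH)
theorem F_8701 (IH : D.IHyp) : V_1135 = (D.P 357) :=
  (F_8660 IH).symm
theorem F_8709 (IH : D.IHyp) : ed Gen.e (D.P 357) = V_1136 :=
  edge_congr (F_6332 IH) (F_8701 IH)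
theorem F_8710 (IH : D.IHyp) : (D.P 347) = V_1136 :=
  edge_fun (F_2178 IH) (F_8709 IH)
theorem F_8764 (IH : D.IHyp) : V_1136 = (D.P 347) :=
  (F_8710 IH).symm
theorem F_8769 (IH : D.IHyp) : ed Gen.d (D.P 347) = V_1137 :=
  edge_congr (F_6335 IH) (F_8764 IH)
theorem F_8770 (IH : D.IHyp) : (D.P 331) = V_1137 :=
  edge_fun (F_2166 IH) (F_8769 IH)
theorem F_8842 (IH : D.IHyp) : V_1137 = (D.P 331) :=
  (F_8770 IH).symm
theorem F_8846 (IH : D.IHyp) : ed Gen.c (D.P 331) = (D.P 307) :=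
  edge_congr (F_6408 IH) (F_8842 IH)
theorem F_8847 (IH : D.IHyp) : V_790 = (D.P 307) :=
  edge_fun (F_4731 IH) (F_8846 IH)
theorem F_8951 (IH : D.IHyp) : ed Gen.f (D.P 307) = V_791 :=
  edge_congr (F_4625 IH) (F_8847 IH)
theorem F_8952 (IH : D.IHyp) : (D.P 278) = V_791 :=
  edge_fun (F_2274 IH) (F_8951 IH)
theorem F_9149 (IH : D.IHyp) : V_791 = (D.P 278) :=
  (F_8952 IH).symm
theorem F_9155 (IH : D.IHyp) : ed Gen.e (D.P 278) = V_792 :=
  edge_congr (F_4627 IH) (F_9149 IH)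
theorem F_9156 (IH : D.IHyp) : (D.P 249) = V_792 :=
  edge_fun (F_1668 IH) (F_9155 IH)
theorem F_9460 (IH : D.IHyp) : V_792 = (D.P 249) :=
  (F_9156 IH).symm
theorem F_9463 (IH : D.IHyp) : ed Gen.d (D.P 249) = V_793 :=
  edge_congr (F_4629 IH) (F_9460 IH)
theorem F_9464 (IH : D.IHyp) : (D.P 218) = V_793 :=
  edge_fun (F_1486 IH) (F_9463 IH)
theorem F_9793 (IH : D.IHyp) : V_793 = (D.P 218) :=
  (F_9464 IH).symm
theorem F_9803 (IH : D.IHyp) : ed Gen.f (D.P 218) = (D.P 233) :=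
  edge_congr (F_4681 IH) (F_9793 IH)
theorem F_9804 (IH : D.IHyp) : V_377 = (D.P 233) :=
  edge_fun (F_1526 IH) (F_9803 IH)
theorem F_10165 (IH : D.IHyp) : ed Gen.h (D.P 233) = V_376 :=
  edge_congr (F_1521 IH) (F_9804 IH)
theorem F_10166 (IH : D.IHyp) : (D.P 203) = V_376 :=
  edge_fun (F_2025 IH) (F_10165 IH)
theorem F_10642 (IH : D.IHyp) : V_376 = (D.P 203) :=
  (F_10166 IH).symm
theorem F_10653 (IH : D.IHyp) : ed Gen.g (D.P 203) = V_375 :=
  edge_congr (F_1402 IH) (F_10642 IH)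
theorem F_10654 (IH : D.IHyp) : (D.P 171) = V_375 :=
  edge_fun (F_2851 IH) (F_10653 IH)
theorem F_11219 (IH : D.IHyp) : V_375 = (D.P 171) :=
  (F_10654 IH).symm
theorem F_11228 (IH : D.IHyp) : ed Gen.f (D.P 171) = V_374 :=
  edge_congr (F_1303 IH) (F_11219 IH)
theorem F_11229 (IH : D.IHyp) : (D.P 142) = V_374 :=
  edge_fun (F_2017 IH) (F_11228 IH)
theorem F_11874 (IH : D.IHyp) : V_374 = (D.P 142) :=
  (F_11229 IH).symm
theorem F_11881 (IH : D.IHyp) : ed Gen.e (D.P 142) = V_373 :=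
  edge_congr (F_1118 IH) (F_11874 IH)
theorem F_11882 (IH : D.IHyp) : (D.P 122) = V_373 :=
  edge_fun (F_1286 IH) (F_11881 IH)
theorem F_12437 (IH : D.IHyp) : V_373 = (D.P 122) :=
  (F_11882 IH).symm
theorem F_12443 (IH : D.IHyp) : ed Gen.d (D.P 122) = V_370 :=
  edge_congr (F_924 IH) (F_12437 IH)
theorem F_12444 (IH : D.IHyp) : (D.P 103) = V_370 :=
  edge_fun (F_1288 IH) (F_12443 IH)
theorem F_12972 (IH : D.IHyp) : V_370 = (D.P 103) :=
  (F_12444 IH).symm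
theorem F_12976 (IH : D.IHyp) : ed Gen.c (D.P 103) = V_365 :=
  edge_congr (F_668 IH) (F_12972 IH)
theorem F_12977 (IH : D.IHyp) : (D.P 84) = V_365 :=
  edge_fun (F_1938 IH) (F_12976 IH)
theorem F_13493 (IH : D.IHyp) : V_365 = (D.P 84) :=
  (F_12977 IH).symm
theorem F_13494 (IH : D.IHyp) : ed Gen.b (D.P 84) = V_364 :=
  edge_congr (F_3 IH) (F_13493 IH)
theorem F_13495 (IH : D.IHyp) : (D.P 69) = V_364 :=
  edge_fun (F_564 IH) (F_13494 IH)
theorem F_14018 (IH : D.IHyp) : V_364 = (D.P 69) :=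
  (F_13495 IH).symm
theorem F_14020 (IH : D.IHyp) : ed Gen.c (D.P 69) = (D.P 67) :=
  edge_congr (F_1 IH) (F_14018 IH)
theorem F_14022 (IH : D.IHyp) : ed Gen.c (D.P 67) = (D.P 69) :=
  flipE D.rels D.S (hinv Gen.c) (F_14020 IH)

theorem seed_main (IH : D.IHyp) : D.EOK Gen.c (D.mkF 67) :=
  D.seed_of_edge Gen.c 67 69 (by decide +kernel) (F_14022 IH)

theorem hseed : ∀ x p, D.isSeed x p = true →
    (∀ y q, D.lvl y q < D.lvl x p → D.EOK y q) → D.EOK x p := by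
  intro x p hs IH
  obtain ⟨hx, hp⟩ := D.isSeed_eq hs
  have hx' : x = Gen.c := hx
  have hp' : p = D.mkF 67 := hp
  subst hx'
  subst hp'
  have hl : D.lvl Gen.c (D.mkF 67) = D.L := by decide +kernel
  exact seed_main (fun y q h => IH y q (by rw [hl]; exact h))

end

end Cfsg.Agent.Helper27.Fi22TC.A1
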